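import Cfsg.Agent.H3.U3Def

/-! S3645: the field with `q²` elements and its involution `u ↦ u ^ q`. -/

set_option autoImplicit false

namespace CfsgU3

open Subgroup

variable {E : Type} [Field E] [Fintype E] {q : ℕ} {σ : E →+* E}

theorem two_le_q (hq : Fintype.card E = q ^ 2) : 2 ≤ q := by
  have := Fintype.one_lt_card (α := E)
  rw [hq] at this
  by_contra! h
  interval_cases q <;> simp at this

theorem card_unitsE (hq : Fintype.card E = q ^ 2) : Nat.card Eˣ = (q - 1) * (q + 1) := by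
  obtain ⟨k, rfl⟩ : ∃ k, q = k + 1 := ⟨q - 1, by have := two_le_q hq; omega⟩
  rw [Nat.card_units, Nat.card_eq_fintype_card, hq, Nat.add_sub_cancel]
  exact Nat.sub_eq_of_eq_add (by ring)

theorem exists_sig (hq : Fintype.card E = q ^ 2) : ∃ σ : E →+* E, ∀ u, σ u = u ^ q := by
  obtain ⟨p, hp⟩ := CharP.exists E
  obtain ⟨n, h1, h2⟩ := FiniteField.card E p
  have := Fact.mk h1
  obtain ⟨k, -, rfl⟩ := (Nat.dvd_prime_pow h1).mp (show q ∣ p ^ (n : ℕ) from
    h2 ▸ hq ▸ dvd_pow_self q two_ne_zero)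
  exact ⟨iterateFrobenius E p k, fun u => rfl⟩

variable (hq : Fintype.card E = q ^ 2) (hσ : ∀ u, σ u = u ^ q)
include hq hσ

theorem sig_sig (u : E) : σ (σ u) = u := by
  rw [hσ, hσ, ← pow_mul, ← sq, ← hq, FiniteField.pow_card]

theorem mem_ker_fix (μ : Eˣ) : μ ∈ (powMonoidHom (q - 1) : Eˣ →* Eˣ).ker ↔ σ μ = μ := by
  obtain ⟨k, rfl⟩ : ∃ k, q = k + 1 := ⟨q - 1, by have := two_le_q hq; omega⟩
  rw [MonoidHom.mem_ker, powMonoidHom_apply, hσ, pow_succ, mul_eq_right₀ μ.ne_zero,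
    ← Units.val_pow_eq_pow_val, Units.val_eq_one, Nat.add_sub_cancel]

omit hσ in
theorem card_ker_fix : Nat.card (powMonoidHom (q - 1) : Eˣ →* Eˣ).ker = q - 1 := by
  rw [IsCyclic.card_powMonoidHom_ker, card_unitsE hq, Nat.gcd_mul_right_left]

theorem card_fix : Nat.card {u : E // σ u = u} = q := by
  classical
  have m1 := mem_ker_fix hq hσ
  have := two_le_q hq
  rw [show q = q - 1 + 1 by omega, ← card_ker_fix hq, ← Finite.card_option]
  refine (Nat.card_congr (Equiv.ofBijective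
    (fun z : Option (powMonoidHom (q - 1) : Eˣ →* Eˣ).ker =>
      z.elim ⟨0, map_zero σ⟩ fun μ => ⟨μ.1, (m1 _).mp μ.2⟩) ⟨?_, fun u => ?_⟩)).symm
  · rintro (_ | a) (_ | b) e <;> simp only [Option.elim, Subtype.mk.injEq] at e
    exacts [rfl, absurd e.symm b.1.ne_zero, absurd e a.1.ne_zero,
      congrArg _ (Subtype.ext (Units.ext e))]
  · by_cases e : u.1 = 0
    exacts [⟨none, Subtype.ext e.symm⟩, ⟨some ⟨Units.mk0 _ e, (m1 _).mpr u.2⟩, rfl⟩]

theorem exists_nfix : ∃ u : E, σ u ≠ u := by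
  by_contra! H
  have cf := card_fix hq hσ
  have := two_le_q hq
  rw [Nat.card_congr (Equiv.subtypeUnivEquiv H), Nat.card_eq_fintype_card, hq] at cf
  nlinarith

theorem exists_tr0 : ∃ δ : E, δ ≠ 0 ∧ σ δ = -δ := by
  obtain ⟨u, hu⟩ := exists_nfix hq hσ
  exact ⟨σ u - u, sub_ne_zero.mpr hu, by rw [map_sub, sig_sig hq hσ, neg_sub]⟩

theorem exists_norm {b : E} (hb : σ b = b) : ∃ u, u * σ u = b := by
  by_cases b0 : b = 0
  · exact ⟨0, by simp [b0]⟩
  have k3 := IsCyclic.card_powMonoidHom_range Eˣ (q + 1)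
  rw [card_unitsE hq, Nat.gcd_mul_left_left, Nat.mul_div_cancel _ q.succ_pos] at k3
  have : (powMonoidHom (q + 1) : Eˣ →* Eˣ).range = (powMonoidHom (q - 1) : Eˣ →* Eˣ).ker :=
    eq_of_le_of_card_ge (by
      rintro _ ⟨μ, rfl⟩
      rw [MonoidHom.mem_ker, powMonoidHom_apply, powMonoidHom_apply, ← pow_mul, mul_comm,
        ← card_unitsE hq, pow_card_eq_one']) ((card_ker_fix hq).trans k3.symm).le
  obtain ⟨μ, e⟩ := this.ge ((mem_ker_fix hq hσ (Units.mk0 b b0)).mpr hb)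
  exact ⟨μ, by rw [hσ, ← pow_succ', ← Units.val_pow_eq_pow_val]; exact congrArg Units.val e⟩

theorem card_tr0 : Nat.card {u : E // u + σ u = 0} = q := by
  obtain ⟨δ, d0, d2⟩ := exists_tr0 hq hσ
  refine Eq.trans ?_ (card_fix hq hσ)
  exact Nat.card_congr ⟨fun u => ⟨u.1 / δ, by
    rw [map_div₀, d2, eq_neg_of_add_eq_zero_right u.2, neg_div_neg_eq]⟩,
    fun u => ⟨u.1 * δ, by rw [map_mul, u.2, d2]; ring⟩, fun u => by simp [d0], fun u => by simp [d0]⟩

theorem card_norm1 : Nat.card {u : E // u * σ u = 1} = q + 1 := by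
  have k2 := IsCyclic.card_powMonoidHom_ker Eˣ (q + 1)
  rw [card_unitsE hq, Nat.gcd_mul_left_left] at k2
  rw [← k2]
  exact Nat.card_congr ⟨fun u => ⟨Units.mk0 u.1 (left_ne_zero_of_mul_eq_one u.2), Units.ext (by
    simpa [hσ, ← pow_succ'] using u.2)⟩, fun μ => ⟨μ.1, by
    simpa [hσ, ← pow_succ'] using congrArg Units.val (MonoidHom.mem_ker.mp μ.2)⟩,
    fun u => rfl, fun u => by simp⟩

theorem exists_tr1 : ∃ s : E, s + σ s = 1 := by
  by_cases h : ∀ u : E, u + σ u = 0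
  · have c0 := card_tr0 hq hσ
    have := two_le_q hq
    rw [Nat.card_congr (Equiv.subtypeUnivEquiv h), Nat.card_eq_fintype_card, hq] at c0
    nlinarith
  obtain ⟨u, hu⟩ := not_forall.mp h
  refine ⟨u / (u + σ u), ?_⟩
  rw [map_div₀, map_add, sig_sig hq hσ, add_comm (σ u), ← add_div, div_self hu]

theorem exists_trace {b : E} (hb : σ b = b) : ∃ u, u + σ u = b := by
  obtain ⟨s, hs⟩ := exists_tr1 hq hσ
  exact ⟨s * b, by rw [map_mul, hb, ← add_mul, hs, one_mul]⟩

theorem card_tr {b : E} (hb : σ b = b) : Nat.card {u : E // u + σ u = b} = q := by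
  obtain ⟨s, hs⟩ := exists_trace hq hσ hb
  refine Eq.trans ?_ (card_tr0 hq hσ)
  exact Nat.card_congr ⟨fun u => ⟨u.1 - s, by rw [map_sub]; linear_combination u.2 - hs⟩,
    fun u => ⟨u.1 + s, by rw [map_add]; linear_combination u.2 + hs⟩, fun u => by simp,
    fun u => by simp⟩

theorem card_pairs : Nat.card {z : E × E // z.2 + σ z.2 = z.1 * σ z.1} = q ^ 3 := by
  classical
  rw [Nat.card_congr (Equiv.subtypeProdEquivSigmaSubtype fun x y : E => y + σ y = x * σ x),
    Nat.card_sigma, Finset.sum_congr rfl fun x _ => card_tr hq hσ (b := x * σ x)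
      (by rw [map_mul, sig_sig hq hσ, mul_comm]), Finset.sum_const, Finset.card_univ, hq,
    smul_eq_mul, ← pow_succ]

theorem exists_fix_ne (h3 : 3 ≤ q) : ∃ c : E, σ c = c ∧ c ≠ 0 ∧ c ≠ 1 := by
  classical
  by_contra! H
  have := Nat.card_le_card_of_injective (fun u : {u : E // σ u = u} => decide (u.1 = 0))
    fun a b e => by
      by_cases h : a.1 = 0
      · exact Subtype.ext (h.trans (by simpa [h] using e : b.1 = 0).symm)
      · exact Subtype.ext ((H _ a.2 h).trans (H _ b.2 (by simpa [h] using e)).symm)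
  rw [card_fix hq hσ, Nat.card_eq_fintype_card, Fintype.card_bool] at this
  omega

end CfsgU3
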