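import Cfsg.Agent.H7.V3Par

/-! S3424 (Dio): the degrees of the non-exceptional characters. -/

set_option autoImplicit false

namespace CfsgV3

/-- divisors of `n` -/
def dio_dl (n : ℕ) : List ℕ := (List.range (n + 1)).filter (n % · = 0)

/-- divisors of `q³ (q - 1) (q + 1)²` that are `≡ 1 (mod m)` -/
def dio_L (r k : ℕ) : List ℤ :=
  ((List.range (3 * k + 1)).flatMap fun a => (dio_dl (r ^ k - 1)).flatMap fun b =>
    (dio_dl (r ^ k + 1)).flatMap fun c => (dio_dl (r ^ k + 1)).flatMap fun e =>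
      [((r ^ a * (b * (c * e)) : ℕ) : ℤ), -((r ^ a * (b * (c * e)) : ℕ) : ℤ)]).filter fun x =>
        (x - 1) % (((r ^ k) ^ 2 + 1 - r ^ k) / Nat.gcd 3 (r ^ k + 1) : ℕ) = 0

set_option synthInstance.maxSize 2000 in
theorem dio_ck : ∀ r < 41, ∀ k < 6, 3 ≤ r ^ k → r ^ k < 41 → ∀ A ∈ dio_L r k, ∀ B ∈ dio_L r k,
    1 + A + B ∣ (((r ^ k) ^ 3 * ((r ^ k - 1) * (r ^ k + 1) ^ 2) : ℕ) : ℤ) →
    0 ≤ -(A * B * (1 + A + B)) → (-(A * B * (1 + A + B)) = 16000 ∨ -(A * B * (1 + A + B)) = 7200) ∨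
    (A = -((r ^ k : ℕ) * ((r ^ k : ℕ) - 1)) ∧ B = -(r ^ k : ℕ) ^ 3) ∨
    (B = -((r ^ k : ℕ) * ((r ^ k : ℕ) - 1)) ∧ A = -(r ^ k : ℕ) ^ 3) ∨
    (r ^ k = 3 ∧ 1 + A + B = 3) ∨ (r ^ k = 5 ∧ (A = -6 ∨ B = -6)) := by decide +kernel

set_option synthInstance.maxSize 2000 in
theorem dio_ck' : ∀ q < 41, 3 ≤ q → ∀ s < q + 2, ∀ j < 33, (s = 0 ∨ ∃ t < s, 2 ≤ t ∧ t ∣ s) ∨
    (s ^ j ∣ q ^ 3 * ((q - 1) * (q + 1) ^ 2) → s ^ j ≡ 1 [MOD (q ^ 2 + 1 - q) / Nat.gcd 3 (q + 1)] →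
    s ^ j = 1 ∨ (s ^ j = 8 ∧ (q = 3 ∨ q = 5))) := by decide +kernel

theorem dio_key {m x y e f : ℤ} (hx : m ∣ x - e) (hy : m ∣ y - f) (he : |e| ≤ 12) (hf : |f| ≤ 12)
    (h12 : 12 ≤ m) (h : x * y < (m - 12) ^ 2) (h0 : 0 < x * y) : x = e ∨ y = f := by
  by_contra! n
  have k : ∀ {x e : ℤ}, m ∣ x - e → x ≠ e → |e| ≤ 12 → m - 12 ≤ |x| := fun {x e} a b c => by
    have := Int.le_of_dvd (abs_pos.mpr (sub_ne_zero.mpr b)) ((dvd_abs _ _).mpr a)
    have := abs_sub x e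
    omega
  have := mul_le_mul (k hx n.1 he) (k hy n.2 hf) (by omega) (abs_nonneg x)
  rw [← abs_mul, abs_of_pos h0, ← sq] at this
  omega

variable {q r d m : ℕ}

namespace Par

variable (h : Par q r d m)
include h

theorem m_eq : m = (q ^ 2 + 1 - q) / Nat.gcd 3 (q + 1) := by
  rw [← h.hd, ← h.hm, Nat.add_sub_cancel, Nat.mul_div_cancel_left _ h.d_pos]

theorem cop3 : IsCoprime (m : ℤ) 3 :=
  Nat.isCoprime_iff_coprime.mpr ((Nat.prime_three.coprime_iff_not_dvd).mpr h.not_three).symm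

theorem dio_c0 {X : ℤ} (a : X ∣ q ^ 3 * ((q - 1) * (q + 1) ^ 2)) (n : ¬ (r : ℤ) ∣ X) :
    X ∣ (q - 1) * (q + 1) ^ 2 := by
  obtain ⟨k, rfl⟩ := h.pw
  refine IsCoprime.dvd_of_dvd_mul_left ?_ a
  push_cast
  exact (((Nat.prime_iff_prime_int.mp h.pr).irreducible.coprime_iff_not_dvd.mpr n).symm.pow_right
    ).pow_right

variable (h41 : 41 ≤ q)
include h41

theorem dio_big : 12 ≤ (m : ℤ) ∧ 70560 ≤ ((q : ℤ) - 1) * (q + 1) ^ 2 ∧
    4 * (((q : ℤ) - 1) * (q + 1) ^ 2) < (m - 12) ^ 2 := by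
  have e := h.hz
  have d3 : (d : ℤ) ≤ 3 := by exact_mod_cast h.d_le
  obtain ⟨t, rfl⟩ := Nat.exists_eq_add_of_le h41
  push_cast at *
  have t0 : (0 : ℤ) ≤ t := by positivity
  have m0 : (0 : ℤ) ≤ m := by positivity
  have e1 : (41 + t : ℤ) ^ 2 - (41 + t) - 35 ≤ 3 * (m - 12) := by nlinarith
  have e2 := pow_le_pow_left₀ (by nlinarith) e1 2
  refine ⟨by nlinarith, by nlinarith [pow_nonneg t0 3], ?_⟩
  nlinarith [pow_nonneg t0 3, pow_nonneg t0 4]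

theorem dio_L1 {X t : ℤ} (ht : t = 1 ∨ t = 4) (a : X ∣ t * ((q - 1) * (q + 1) ^ 2)) :
    ((m : ℤ) ∣ X - 1 → X = 1 ∨ -3 * t * X = t * ((q - 1) * (q + 1) ^ 2)) ∧
    ((m : ℤ) ∣ X - 3 → X = 3 ∨ -t * X = t * ((q - 1) * (q + 1) ^ 2)) := by
  obtain ⟨y, e⟩ := a
  obtain ⟨b1, b2, b3⟩ := h.dio_big h41
  have c := h.dvd_c0.mul_left t
  rw [mul_add, e] at c
  have l : X * y < (m - 12) ^ 2 ∧ 0 < X * y := by rcases ht with rfl | rfl <;> omega
  refine ⟨fun b => ?_, fun b => ?_⟩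
  · refine (dio_key (f := -3 * t) b ((dvd_sub c (b.mul_right y)).trans (dvd_of_eq (by ring)))
      (by decide) (by rcases ht with rfl | rfl <;> decide) b1 l.1 l.2).imp id fun f => ?_
    rw [e, f, mul_comm]
  · refine (dio_key (f := -t) b (h.cop3.dvd_of_dvd_mul_left
      ((dvd_sub c (b.mul_right y)).trans (dvd_of_eq (by ring))))
      (by decide) (by rcases ht with rfl | rfl <;> decide) b1 l.1 l.2).imp id fun f => ?_
    rw [e, f, mul_comm]

theorem dio_L2 {X : ℤ} (hr : (r : ℤ) ∣ 4) (a : X ∣ q ^ 3 * ((q - 1) * (q + 1) ^ 2)) (e : (r : ℤ) ∣ X)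
    (b : (m : ℤ) ∣ X - 1 ∨ (m : ℤ) ∣ X - 3) : 8 ∣ X ∧ (8 : ℤ) ∣ q := by
  obtain rfl : r = 2 := (Nat.prime_dvd_prime_iff_eq h.pr Nat.prime_two).mp
    (h.pr.dvd_of_dvd_pow (n := 2) (by exact_mod_cast hr))
  obtain ⟨k, hk⟩ := h.pw
  have q8 : (8 : ℤ) ∣ q := by
    have : 3 ≤ k := by
      by_contra! n
      interval_cases k <;> omega
    exact_mod_cast hk ▸ pow_dvd_pow 2 this
  refine ⟨by_contra fun n => ?_, q8⟩
  obtain ⟨x, y, h1, h2, rfl⟩ := exists_dvd_and_dvd_of_dvd_mul a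
  have h3 : x ∣ 4 := by
    rw [hk, Nat.cast_pow, ← pow_mul] at h1
    obtain ⟨i, -, hi⟩ := (dvd_prime_pow Int.prime_two _).mp h1
    refine hi.dvd.trans (pow_dvd_pow 2 (show i ≤ 2 from not_lt.mp fun l => n ?_))
    exact ((pow_dvd_pow 2 l).trans hi.symm.dvd).mul_right y
  have := h.dio_L1 h41 (.inr rfl) (mul_dvd_mul h3 h2)
  obtain ⟨z, hz⟩ := q8
  have o : ((q : ℤ) - 1) * (q + 1) ^ 2 = 2 * (256 * z ^ 3 + 32 * z ^ 2 - 4 * z) - 1 := by
    rw [hz]; ring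
  rw [o] at this
  generalize x * y = X at *
  rcases b with b | b
  · have := this.1 b; omega
  · have := this.2 b; omega

theorem dio_S {X u w : ℤ} (a : X ∣ q ^ 3 * ((q - 1) * (q + 1) ^ 2))
    (e : 3 * X = u * ((q - 1) * (q + 1) ^ 2) + w)
    (hu : (u = -2 ∧ w = 3) ∨ (u = 1 ∧ w = 6) ∨ (u = -2 ∧ w = -3)) : False := by
  obtain ⟨x, y, h1, h2, rfl⟩ := exists_dvd_and_dvd_of_dvd_mul a
  have h3 : y ∣ w := (dvd_add_right (h2.mul_left u)).mp (e ▸ (dvd_mul_left y x).mul_left 3)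
  have h4 : x ∣ (w - u) ^ 3 := by
    have := (e ▸ (dvd_mul_right x y).mul_left 3).mul_right
      ((w - u) ^ 2 - (w - u) * (u * q * (q ^ 2 + q - 1)) + (u * q * (q ^ 2 + q - 1)) ^ 2)
    exact (dvd_sub this (h1.mul_right ((u * (q ^ 2 + q - 1)) ^ 3))).trans (dvd_of_eq (by ring))
  have h5 := mul_dvd_mul h4 h3
  have := (h.dio_big h41).2.1
  generalize x * y = X at *
  have k : ∀ n : ℤ, 0 < n → X ∣ n → X ≤ n ∧ -X ≤ n := fun n a b =>
    ⟨Int.le_of_dvd a b, Int.le_of_dvd a b.neg_left⟩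
  rcases hu with ⟨rfl, rfl⟩ | ⟨rfl, rfl⟩ | ⟨rfl, rfl⟩ <;> have := k _ (by norm_num) h5 <;> omega

theorem dio_I {A B : ℤ} (hA : (m : ℤ) ∣ A - 1) (hB : (m : ℤ) ∣ B - 1)
    (a : A ∣ q ^ 3 * ((q - 1) * (q + 1) ^ 2)) (b : B ∣ q ^ 3 * ((q - 1) * (q + 1) ^ 2))
    (c : 1 + A + B ∣ q ^ 3 * ((q - 1) * (q + 1) ^ 2)) (s : 0 ≤ -(A * B * (1 + A + B))) :
    (r : ℤ) ∣ A := by
  by_contra n
  have m12 := (h.dio_big h41).1
  have one : ∀ B : ℤ, (m : ℤ) ∣ B - 1 → ¬ 0 ≤ -(B * (2 + B)) := fun B hB s => by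
    have : -2 ≤ B ∧ B ≤ 0 := by constructor <;> nlinarith
    have := Int.le_of_dvd (by omega) hB.neg_right
    omega
  have L := fun X (a : X ∣ (q : ℤ) ^ 3 * ((q - 1) * (q + 1) ^ 2)) n =>
    h.dio_L1 h41 (.inl rfl) ((h.dio_c0 a n).mul_left 1)
  have hC : (m : ℤ) ∣ 1 + A + B - 3 := (dvd_add hA hB).trans (dvd_of_eq (by ring))
  rcases (L A a n).1 hA with rfl | e
  · exact one B hB (by linarith)
  by_cases nB : (r : ℤ) ∣ B
  swap
  · rcases (L B b nB).1 hB with rfl | f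
    · exact one A hA (by linarith)
    · exact h.dio_S h41 c (u := -2) (w := 3) (by linarith) (by simp)
  by_cases nC : (r : ℤ) ∣ 1 + A + B
  swap
  · rcases (L _ c nC).2 hC with f | f
    · exact h.dio_S h41 b (u := 1) (w := 6) (by linarith) (by simp)
    · exact h.dio_S h41 b (u := -2) (w := -3) (by linarith) (by simp)
  have k : ∀ t : ℤ, t ∣ B → t ∣ 1 + A + B → t ∣ q → t ∣ 4 := fun t a b c =>
    (dvd_add ((dvd_sub b a).mul_left 3) (c.mul_right (q ^ 2 + q - 1))).trans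
      (dvd_of_eq (by linear_combination -e))
  have r4 := k r nB nC (Int.natCast_dvd_natCast.mpr h.r_dvd)
  have := k 8 (h.dio_L2 h41 r4 b nB (.inl hB)).1 (h.dio_L2 h41 r4 c nC (.inr hC)).1
    (h.dio_L2 h41 r4 b nB (.inl hB)).2
  omega

theorem dio_M {x y g t : ℤ} (x0 : 0 < x) (xy : x ≤ y) (g0 : 0 < g) (t2 : 2 ≤ t) (e : q = g * t)
    (s : x + y = t * (q ^ 2 + q - 1)) (c : x * y ∣ (q - 1) * (q + 1) ^ 2)
    (a : (m : ℤ) ∣ g * x + 1) : False := by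
  obtain ⟨b1, b2, -⟩ := h.dio_big h41
  have c1 := Int.le_of_dvd (by omega) c
  have q1 : (41 : ℤ) ≤ q := by exact_mod_cast h41
  have p : 0 < t * (q ^ 2 + q - 1) := by omega
  have x2 : x < 2 * g := lt_of_mul_lt_mul_right (a := t * (q ^ 2 + q - 1)) (by
    have : 2 * g * (t * (q ^ 2 + q - 1)) = 2 * ((q - 1) * (q + 1) ^ 2) + 2 := by
      rw [mul_assoc, ← mul_assoc g, ← e]; ring
    rw [this, ← s]
    nlinarith) p.le
  obtain ⟨u, hu⟩ := a
  have z := h.hz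
  have d3 : (d : ℤ) ≤ 3 := by exact_mod_cast h.d_le
  have u0 : 0 < u := by
    by_contra! n
    nlinarith [mul_pos g0 x0]
  have g2 : 2 * g ≤ q := by nlinarith
  have ud : u < d := lt_of_mul_lt_mul_left (a := (m : ℤ)) (by nlinarith) (by omega)
  have gd : g ∣ d - u := ⟨u * t * (q - 1) - d * x, by
    linear_combination d * hu + u * z + u * (q - 1) * e⟩
  have := Int.le_of_dvd (by omega) gd
  nlinarith

theorem dio_large {A B : ℤ} (hA : (m : ℤ) ∣ A - 1) (hB : (m : ℤ) ∣ B - 1)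
    (a : A ∣ q ^ 3 * ((q - 1) * (q + 1) ^ 2)) (b : B ∣ q ^ 3 * ((q - 1) * (q + 1) ^ 2))
    (c : 1 + A + B ∣ q ^ 3 * ((q - 1) * (q + 1) ^ 2)) (s : 0 ≤ -(A * B * (1 + A + B))) :
    (A = -(q * (q - 1)) ∧ B = -q ^ 3) ∨ (B = -(q * (q - 1)) ∧ A = -q ^ 3) := by
  have rA := h.dio_I h41 hA hB a b c s
  have rB := h.dio_I h41 hB hA b a (by rwa [add_right_comm]) (by linarith)
  have pr := Nat.prime_iff_prime_int.mp h.pr
  have nC : ¬ (r : ℤ) ∣ 1 + A + B := fun f => pr.not_dvd_one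
    ((dvd_sub (dvd_sub f rA) rB).trans (dvd_of_eq (by ring)))
  obtain ⟨b1, b2, -⟩ := h.dio_big h41
  have q1 : (41 : ℤ) ≤ q := by exact_mod_cast h41
  rcases (h.dio_L1 h41 (.inl rfl) ((h.dio_c0 c nC).mul_left 1)).2
    ((dvd_add hA hB).trans (dvd_of_eq (by ring))) with f | f
  · have r4 : (r : ℤ) ∣ 4 := ((dvd_add rA rB).mul_left 2).trans (dvd_of_eq (by linarith))
    have := (h.dio_L2 h41 r4 a rA (.inl hA)).1
    have := (h.dio_L2 h41 r4 b rB (.inl hB)).1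
    omega
  have n0 : (q : ℤ) ^ 3 * ((q - 1) * (q + 1) ^ 2) ≠ 0 := by positivity
  have A0 := ne_zero_of_dvd_ne_zero n0 a
  have B0 := ne_zero_of_dvd_ne_zero n0 b
  have AB : 0 < A * B := lt_of_le_of_ne (by nlinarith) (mul_ne_zero A0 B0).symm
  have g0 : 0 < Int.gcd A B := Int.gcd_pos_of_ne_zero_left _ A0
  obtain ⟨x, y, cp, e1, e2⟩ := Int.exists_gcd_one g0
  replace g0 : (0 : ℤ) < Int.gcd A B := by exact_mod_cast g0
  generalize (Int.gcd A B : ℤ) = g at g0 e1 e2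
  subst e1 e2
  rw [← Int.isCoprime_iff_gcd_eq_one] at cp
  have e3 : g * (-x + -y) = q * (q ^ 2 + q - 1) := by linear_combination f
  obtain ⟨t, ht⟩ : g ∣ q := by
    refine IsCoprime.dvd_of_dvd_mul_right ?_ ⟨_, e3.symm⟩
    refine IsCoprime.of_isCoprime_of_dvd_left ?_ ((dvd_mul_left g x).trans a)
    exact IsCoprime.mul_left (IsCoprime.pow_left ⟨q + 1, -1, by ring⟩) ⟨-1, q, by ring⟩
  have e4 : -x + -y = t * (q ^ 2 + q - 1) := mul_left_cancel₀ g0.ne' (by rw [e3, ← mul_assoc, ← ht])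
  have t0 : 0 < t := (mul_pos_iff_of_pos_left g0).mp (by omega)
  have xy : 0 < x * y := (mul_pos_iff_of_pos_left (mul_pos g0 g0)).mp (by linarith)
  have e5 : 0 < t * (q ^ 2 + q - 1) := mul_pos t0 (by nlinarith)
  have x0 : 0 < -x := by nlinarith
  have y0 : 0 < -y := by nlinarith
  by_cases t1 : t = 1
  · obtain rfl : q = g := by simpa [t1] using ht
    have z := h.hz
    have cq : IsCoprime (m : ℤ) q := ⟨d, 1 - q, by linear_combination z⟩
    obtain ⟨u, hu⟩ : (m : ℤ) ∣ -x - (q - 1) := cq.dvd_of_dvd_mul_left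
      ((dvd_sub hA.neg_right h.dvd_sq).trans (dvd_of_eq (by ring)))
    have hv : -y - (q - 1) = m * (d - u) := by
      rw [t1] at e4; linear_combination e4 - hu - z
    have d3 : (d : ℤ) ≤ 3 := by exact_mod_cast h.d_le
    have mq : (q : ℤ) ≤ m := by nlinarith
    have k : ∀ x u : ℤ, 0 < -x → -x - (q - 1) = m * u → x * q ∣ q ^ 3 * ((q - 1) * (q + 1) ^ 2) →
        0 ≤ u ∧ (u = 2 → d ≠ 3) := fun x u x0 e a => by
      refine ⟨by nlinarith, fun f f' => ?_⟩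
      rw [f'] at z
      have : 2 * (q : ℤ) - 1 ∣ 27 := by
        have h1 : 2 * (q : ℤ) - 1 ∣ x * q * 3 := ⟨-(q + 1) * q, by
          rw [f] at e; push_cast at z; linear_combination -3 * q * e - 2 * q * z⟩
        have h2 := (h1.trans (mul_dvd_mul_right a 3)).mul_left 64
        refine (dvd_add_right h2).mp ⟨96 * q ^ 5 + 144 * q ^ 4 - 24 * q ^ 3 - 108 * q ^ 2
          - 54 * q - 27, by ring⟩
      have := Int.le_of_dvd (by norm_num) this
      omega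
    have k1 := k x u x0 hu a
    have k2 := k y _ y0 hv b
    have : u = 0 ∨ u = d := by have := h.d_cases; omega
    rcases this with rfl | rfl
    · exact .inl ⟨by linear_combination -q * hu, by linear_combination -q * hv - q * z⟩
    · exact .inr ⟨by linear_combination -q * hv, by linear_combination -q * hu - q * z⟩
  exfalso
  have rt : (r : ℤ) ∣ x + y := by
    obtain ⟨k, hk⟩ := h.pw
    obtain ⟨i, -, hi⟩ := (dvd_prime_pow pr k).mp ⟨g, by rw [← Nat.cast_pow, ← hk, ht, mul_comm]⟩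
    have : (r : ℤ) ∣ t := (dvd_pow_self _ fun e => by
      rw [e, pow_zero, associated_one_iff_isUnit, Int.isUnit_iff] at hi; omega).trans hi.symm.dvd
    exact (this.mul_right _).neg_right.trans (dvd_of_eq (by rw [← e4]; ring))
  have nx : ¬ (r : ℤ) ∣ x := fun e =>
    pr.not_isUnit (cp.isUnit_of_dvd' e ((dvd_add_right e).mp rt))
  have ny : ¬ (r : ℤ) ∣ y := fun e =>
    pr.not_isUnit (cp.isUnit_of_dvd' ((dvd_add_left e).mp rt) e)
  have cc := cp.mul_dvd (h.dio_c0 ((dvd_mul_right x g).trans a) nx)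
    (h.dio_c0 ((dvd_mul_right y g).trans b) ny)
  rcases le_total (-x) (-y) with l | l
  · exact h.dio_M h41 x0 l g0 (by omega) ht e4 (by simpa using cc)
      (hA.neg_right.trans (dvd_of_eq (by ring)))
  · exact h.dio_M h41 y0 l g0 (by omega) ht (by rw [← e4, add_comm]) (by simpa [mul_comm] using cc)
      (hB.neg_right.trans (dvd_of_eq (by ring)))

omit h41

theorem dio_mem {k : ℕ} (hk : q = r ^ k) {A : ℤ} (hA : (m : ℤ) ∣ A - 1)
    (a : A ∣ ((q ^ 3 * ((q - 1) * (q + 1) ^ 2) : ℕ) : ℤ)) : A ∈ dio_L r k := by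
  have h3 := h.q3
  have dl : ∀ {a n : ℕ}, a ∣ n → 0 < n → a ∈ dio_dl n := fun a n => by
    simpa [dio_dl, Nat.lt_succ_iff, ← Nat.dvd_iff_mod_eq_zero, a] using Nat.le_of_dvd n a
  obtain ⟨x, y, h1, h2, e⟩ := exists_dvd_and_dvd_of_dvd_mul (Int.natAbs_dvd_natAbs.mpr a)
  obtain ⟨b, y, h4, h5, rfl⟩ := exists_dvd_and_dvd_of_dvd_mul h2
  obtain ⟨c, e', h6, h7, rfl⟩ := exists_dvd_and_dvd_of_dvd_mul (sq (q + 1) ▸ h5)
  rw [hk, ← pow_mul] at h1
  obtain ⟨i, hi, rfl⟩ := (Nat.dvd_prime_pow h.pr).mp h1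
  simp only [dio_L, List.mem_filter, List.mem_flatMap, List.mem_range, ← hk, ← h.m_eq]
  refine ⟨⟨i, by omega, b, dl h4 (by omega), c, dl h6 (by omega), e', dl h7 (by omega), ?_⟩,
    by simpa using hA⟩
  rw [← e]
  rcases Int.natAbs_eq A with f | f <;> simp only [← f, List.mem_cons, true_or, or_true]

theorem dio {A B : ℤ} (hA : (m : ℤ) ∣ A - 1) (hB : (m : ℤ) ∣ B - 1)
    (a : A ∣ ((q ^ 3 * ((q - 1) * (q + 1) ^ 2) : ℕ) : ℤ))
    (b : B ∣ ((q ^ 3 * ((q - 1) * (q + 1) ^ 2) : ℕ) : ℤ))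
    (c : 1 + A + B ∣ ((q ^ 3 * ((q - 1) * (q + 1) ^ 2) : ℕ) : ℤ))
    (sq : IsSquare (-(A * B * (1 + A + B)))) :
    (A = -(q * (q - 1)) ∧ B = -q ^ 3) ∨ (B = -(q * (q - 1)) ∧ A = -q ^ 3) ∨
      (q = 3 ∧ 1 + A + B = 3) ∨ (q = 5 ∧ (A = -6 ∨ B = -6)) := by
  rcases le_or_gt 41 q with l | l
  · rw [Nat.cast_mul, h.cast_c0, Nat.cast_pow] at a b c
    exact (h.dio_large l hA hB a b c sq.nonneg).imp_right .inl
  obtain ⟨k, hk⟩ := h.pw
  have k6 : k < 6 := by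
    by_contra! n
    have := Nat.pow_le_pow_left h.pr.two_le 6 |>.trans (Nat.pow_le_pow_right h.pr.pos n)
    omega
  have := dio_ck r ((Nat.le_of_dvd (by have := h.q3; omega) h.r_dvd).trans_lt l) k k6 (hk ▸ h.q3)
    (hk ▸ l) A (h.dio_mem hk hA a) B (h.dio_mem hk hB b) (hk ▸ c) sq.nonneg
  rw [← hk] at this
  refine this.resolve_left fun e => ?_
  obtain ⟨z, hz⟩ := sq
  rw [hz, ← abs_mul_abs_self] at e
  have := abs_nonneg z
  generalize |z| = w at *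
  rcases le_or_gt w 84 with a | a
  · have := mul_self_le_mul_self this a; omega
  rcases le_or_gt w 126 with b | b
  · have := mul_self_le_mul_self this b
    have := mul_self_le_mul_self (a := 85) (b := w) (by omega) (by omega)
    omega
  · have := mul_self_le_mul_self (a := 127) (b := w) (by omega) (by omega); omega

theorem ppow {s j : ℕ} (hs : s.Prime) (h1 : s ^ j ∣ q ^ 3 * ((q - 1) * (q + 1) ^ 2))
    (h2 : s ^ j ≡ 1 [MOD m]) : s ^ j = 1 ∨ (s ^ j = 8 ∧ (q = 3 ∨ q = 5)) := by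
  have h3 := h.q3
  rcases le_or_gt 41 q with l | l
  · have e : (m : ℤ) ∣ (s ^ j : ℕ) - 1 := (Nat.modEq_iff_dvd.mp h2.symm)
    obtain ⟨b1, b2, b3⟩ := h.dio_big l
    have q1 : (41 : ℤ) ≤ q := by exact_mod_cast l
    refine .inl (Int.natCast_inj.mp ?_)
    have p : (0 : ℤ) < (s ^ j : ℕ) := by exact_mod_cast pow_pos hs.pos j
    by_cases n : r ∣ s ^ j
    · obtain rfl := (Nat.prime_dvd_prime_iff_eq h.pr hs).mp (h.pr.dvd_of_dvd_pow n)
      obtain ⟨y, f⟩ := Int.natCast_dvd_natCast.mpr (((hs.coprime_iff_not_dvd.mpr fun f =>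
        h.not_dvd_r (f.mul_left m)).pow_left j).dvd_of_dvd_mul_right h1)
      rw [Nat.cast_pow] at f
      have y0 : 0 < y := (mul_pos_iff_of_pos_left p).mp (by rw [← f]; positivity)
      exact (dio_key (f := -1) e ((dvd_sub (f ▸ h.dvd_cube) (e.mul_right y)).trans
        (dvd_of_eq (by ring))) (by decide) (by decide) b1 (by rw [← f]; nlinarith)
        (mul_pos p y0)).resolve_right (by omega)
    · have := Int.natCast_dvd_natCast.mpr h1
      rw [Nat.cast_mul, h.cast_c0, Nat.cast_pow q] at this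
      exact ((h.dio_L1 l (.inl rfl) ((h.dio_c0 this (by exact_mod_cast n)).mul_left 1)).1
        e).resolve_right (by omega)
  rcases j.eq_zero_or_pos with rfl | j0
  · simp
  have s1 : s < q + 2 := by
    have := (dvd_pow_self s j0.ne').trans h1
    simp only [hs.dvd_mul, hs.prime.dvd_pow_iff_dvd three_ne_zero,
      hs.prime.dvd_pow_iff_dvd two_ne_zero] at this
    rcases this with f | f | f <;> have := Nat.le_of_dvd (by omega) f <;> omega
  have j1 : j < 33 := by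
    by_contra! n
    have a := Nat.pow_le_pow_left hs.two_le 33 |>.trans (Nat.pow_le_pow_right hs.pos n)
    have b := Nat.le_of_dvd (by have : 0 < q - 1 := by omega
                                positivity) h1
    have c : q ^ 3 * ((q - 1) * (q + 1) ^ 2) ≤ 40 ^ 3 * (39 * 41 ^ 2) := by gcongr <;> omega
    omega
  refine (dio_ck' q l h3 s s1 j j1).resolve_left ?_ h1 (h.m_eq ▸ h2)
  rintro (rfl | ⟨t, t1, t2, t3⟩)
  · exact Nat.not_prime_zero hs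
  · rcases hs.eq_one_or_self_of_dvd t t3 with f | f <;> omega

end Par

end CfsgV3
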