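import Cfsg.Agent.H6.U3M0
import Cfsg.Agent.H3.PGL2Rec

/-! S3645: Bruhat decomposition and generation of the model `UK` of `SU₃(q)`. -/

set_option autoImplicit false

namespace CfsgU3

open Subgroup Matrix
open scoped MatrixGroups

section model

variable {E : Type} [Field E] {σ : E →+* E} (hs : ∀ x, σ (σ x) = x)

theorem UK_ext {A B : UK σ} (h : ∀ v, A.1.1 *ᵥ v = B.1.1 *ᵥ v) : A = B :=
  Subtype.ext (Subtype.ext (toLin'.injective (LinearMap.ext h)))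

theorem UK_one_vec (v : Fin 3 → E) : (1 : UK σ).1.1 *ᵥ v = v := one_mulVec v

theorem UK_inv_vec (A : UK σ) {v w : Fin 3 → E} (h : A.1.1 *ᵥ v = w) : (A⁻¹).1.1 *ᵥ w = v := by
  rw [← h, ← UK_mul_vec, inv_mul_cancel, UK_one_vec]

/-- the diagonal elements -/
def kD0 (c : Eˣ) : UK σ :=
  ⟨⟨!![c, 0, 0; 0, σ c / c, 0; 0, 0, (σ c)⁻¹], by simp [det_fin_three]; field_simp⟩,
    mem_UK.mpr fun u v => by
      simp [formK, Fin.sum_univ_three, mulVec, dotProduct, hs]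
      field_simp⟩

theorem kD0_vec (c : Eˣ) (v : Fin 3 → E) :
    (kD0 hs c).1.1 *ᵥ v = ![c * v 0, σ c / c * v 1, (σ c)⁻¹ * v 2] := by
  ext i; fin_cases i <;> simp [kD0, mulVec, dotProduct, Fin.sum_univ_three]

/-- the torus -/
def kD : Eˣ →* UK σ := MonoidHom.mk' (kD0 hs) fun a b => UK_ext fun v => by
  simp only [UK_mul_vec, kD0_vec]
  ext i; fin_cases i <;> simp <;> field_simp

theorem kD_vec (c : Eˣ) (v : Fin 3 → E) :
    (kD hs c).1.1 *ᵥ v = ![c * v 0, σ c / c * v 1, (σ c)⁻¹ * v 2] := kD0_vec hs c v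

theorem kT_mul_self : kT σ * kT σ = 1 := UK_ext fun v => by
  simp only [UK_mul_vec, kT_vec, UK_one_vec]
  ext i; fin_cases i <;> simp

theorem kT_inv : (kT σ)⁻¹ = kT σ := inv_eq_of_mul_eq_one_right kT_mul_self

theorem kU_mul {x y x' y' x'' y'' : E} (h : y + σ y = x * σ x) (h' : y' + σ y' = x' * σ x')
    (h'' : y'' + σ y'' = x'' * σ x'') (e1 : x'' = x + x') (e2 : y'' = y + y' + σ x * x') :
    kU hs h * kU hs h' = kU hs h'' := UK_ext fun v => by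
  simp only [UK_mul_vec, kU_vec, e1, e2]
  ext i; fin_cases i <;> simp <;> ring

theorem kD_kU (c : Eˣ) {x y x' y' : E} (h : y + σ y = x * σ x) (h' : y' + σ y' = x' * σ x')
    (e1 : x' = σ c * σ c / c * x) (e2 : y' = c * σ c * y) :
    kD hs c * kU hs h = kU hs h' * kD hs c := UK_ext fun v => by
  simp only [UK_mul_vec, kU_vec, kD_vec, e1, e2]
  ext i; fin_cases i <;> simp [hs] <;> field_simp

theorem uk_fix {A : UK σ} (h : A.1.1 *ᵥ ![1, 0, 0] = ![1, 0, 0]) :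
    ∃ x y, ∃ h : y + σ y = x * σ x, A = kU hs h := by
  have a1 := A.2 ![1, 0, 0] ![0, 1, 0]
  have a2 := A.2 ![1, 0, 0] ![0, 0, 1]
  have a3 := A.2 ![0, 1, 0] ![0, 0, 1]
  have a4 := A.2 ![0, 0, 1] ![0, 0, 1]
  change formK σ (A.1.1 *ᵥ _) (A.1.1 *ᵥ _) = _ at a1 a2 a3 a4
  rw [h] at a1 a2
  have b := fun i => congrFun h i
  have d1 := A.1.2
  simp [formK, mulVec, dotProduct, Fin.sum_univ_three, Fin.forall_fin_succ] at a1 a2 a3 a4 b
  have a5 : A.1.1 2 2 = 1 := σ.injective (by rw [a2, map_one])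
  rw [det_fin_three] at d1
  simp [*] at d1
  simp [*] at a3 a4
  refine ⟨A.1.1 1 2, A.1.1 0 2, by linear_combination a4, Subtype.ext (Subtype.ext ?_)⟩
  ext i j
  fin_cases i <;> fin_cases j <;> simp [*, kU]
  linear_combination a3

theorem uk_ne (A : UK σ) : A.1.1 *ᵥ ![1, 0, 0] ≠ 0 := fun h => by
  simpa using congrFun (UK_inv_vec A h) 0

theorem uk_borel {A : UK σ} {c : E} (h : A.1.1 *ᵥ ![1, 0, 0] = c • ![1, 0, 0]) :
    ∃ d : Eˣ, d = c ∧ ∃ x y, ∃ h : y + σ y = x * σ x, A = kD hs d * kU hs h := by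
  have c0 : c ≠ 0 := fun e => uk_ne A (by rw [h, e, zero_smul])
  obtain ⟨x, y, h', e⟩ := uk_fix hs (A := (kD hs (Units.mk0 c c0))⁻¹ * A) (by
    rw [UK_mul_vec, h]; exact UK_inv_vec _ (by simp [kD_vec]))
  exact ⟨Units.mk0 c c0, rfl, x, y, h', by rw [← e, mul_inv_cancel_left]⟩

theorem uk_e1 {A : UK σ} (h : (A.1.1 *ᵥ ![1, 0, 0]) 2 = 0) :
    A.1.1 *ᵥ ![1, 0, 0] = (A.1.1 *ᵥ ![1, 0, 0]) 0 • ![1, 0, 0] := by
  have e := mem_UK.mp A.2 ![1, 0, 0] ![1, 0, 0]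
  generalize A.1.1 *ᵥ ![1, 0, 0] = w at h e
  ext i; fin_cases i <;> simp [formK, h] at e ⊢
  exact e

theorem uk_big {A : UK σ} (h : (A.1.1 *ᵥ ![1, 0, 0]) 2 ≠ 0) :
    ∃ x y, ∃ h : y + σ y = x * σ x, ∃ d : Eˣ, d = (A.1.1 *ᵥ ![1, 0, 0]) 2 ∧ ∃ x' y',
      ∃ h' : y' + σ y' = x' * σ x', A = kU hs h * kT σ * (kD hs d * kU hs h') := by
  have e := mem_UK.mp A.2 ![1, 0, 0] ![1, 0, 0]
  generalize hw : A.1.1 *ᵥ ![1, 0, 0] = w at h e
  have := (map_ne_zero σ).mpr h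
  have h1 : w 0 / w 2 + σ (w 0 / w 2) = w 1 / w 2 * σ (w 1 / w 2) := by
    simp [formK] at e
    simp only [map_div₀]; field_simp; linear_combination e
  obtain ⟨d, e1, x, y, h', e2⟩ := uk_borel hs (A := (kU hs h1 * kT σ)⁻¹ * A) (c := w 2) (by
    rw [UK_mul_vec, hw]
    refine UK_inv_vec _ ?_
    rw [UK_mul_vec, kT_vec, kU_vec]
    ext i; fin_cases i <;> simp <;> field_simp)
  exact ⟨_, _, h1, d, e1, x, y, h', by rw [← e2, mul_inv_cancel_left]⟩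

theorem uk_TUT {x y : E} (h : y + σ y = x * σ x) :
    ((kT σ * kU hs h * kT σ).1.1 *ᵥ ![1, 0, 0]) 2 = y := by
  simp only [UK_mul_vec, kT_vec, kU_vec]; simp

end model

variable {E : Type} [Field E] [Fintype E] {q : ℕ} {σ : E →+* E}
  (hq : Fintype.card E = q ^ 2) (hσ : ∀ u, σ u = u ^ q)

theorem kgen : KGen σ (sig_sig hq hσ) := by
  intro B hT hU
  have hs := sig_sig hq hσ
  have hD : ∀ c, kD hs c ∈ B := fun c => by
    obtain ⟨x, hx⟩ := exists_norm hq hσ (b := c + σ c) (by rw [map_add, hs, add_comm])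
    obtain ⟨_, _, h, d, e, _, _, h', e'⟩ := uk_big hs ((uk_TUT hs hx.symm).trans_ne c.ne_zero)
    have m := mul_mem (mul_mem hT (hU _ _ hx.symm)) hT
    rwa [e', mul_mem_cancel_left (mul_mem (hU _ _ h) hT), mul_mem_cancel_right (hU _ _ h'),
      Units.ext (e.trans (uk_TUT hs hx.symm))] at m
  refine eq_top_iff.mpr fun A _ => ?_
  by_cases c : (A.1.1 *ᵥ ![1, 0, 0]) 2 = 0
  · obtain ⟨d, -, _, _, h, e⟩ := uk_borel hs (uk_e1 c)
    exact e ▸ mul_mem (hD d) (hU _ _ h)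
  · obtain ⟨_, _, h, d, -, _, _, h', e⟩ := uk_big hs c
    exact e ▸ mul_mem (mul_mem (hU _ _ h) hT) (mul_mem (hD d) (hU _ _ h'))

include hq hσ in
theorem uk_equiv : Nonempty (UK σ ≃* Cfsg.SU 3 E q) := by
  have hs := sig_sig hq hσ
  obtain ⟨a, ha⟩ := exists_norm hq hσ (b := -1) (by simp)
  obtain ⟨s, ht⟩ := exists_tr1 hq hσ
  let P : SL(3, E) := ⟨!![1, 0, s; a, 0, a * (s - 1); 0, -σ a, 0], by
    simp [det_fin_three]; linear_combination -ha⟩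
  have hP : ∀ u v, Cfsg.hermForm 3 E q (P.1 *ᵥ u) (P.1 *ᵥ v) = formK σ u v := fun u v => by
    simp [Cfsg.hermForm, formK, ← hσ, P, Fin.sum_univ_three, mulVec, dotProduct, hs]
    grind
  have mv : ∀ (A B : SL(3, E)) v, (A * B).1 *ᵥ v = A.1 *ᵥ B.1 *ᵥ v := fun A B v => by
    rw [mulVec_mulVec]; rfl
  refine ⟨((MulAut.conj P).subgroupMap (UK σ)).trans (MulEquiv.subgroupCongr ?_)⟩
  ext A
  refine mem_map_equiv.trans (mem_UK.trans ?_)
  change _ ↔ ∀ u v, Cfsg.hermForm 3 E q (A.1 *ᵥ u) (A.1 *ᵥ v) = _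
  have e : ∀ u, P.1 *ᵥ ((MulAut.conj P).symm A).1 *ᵥ u = A.1 *ᵥ P.1 *ᵥ u := fun u => by
    rw [← mv, ← mv]
    exact congrArg (fun B : SL(3, E) => B.1 *ᵥ u) (by rw [MulAut.conj_symm_apply]; group)
  simp only [← hP, e]
  refine ⟨fun h u v => ?_, fun h u v => h _ _⟩
  have e' : ∀ u, P.1 *ᵥ (P⁻¹).1 *ᵥ u = u := fun u => by
    rw [← mv, mul_inv_cancel]; exact one_mulVec u
  simpa only [e'] using h ((P⁻¹).1 *ᵥ u) ((P⁻¹).1 *ᵥ v)

include hq hσ in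
theorem psu_of_uk : Nonempty (UK σ ⧸ center (UK σ) ≃* Cfsg.PSU 3 E q) :=
  (uk_equiv hq hσ).map CfsgH3.quotCenterCongr

theorem su_map {E E' : Type} [Field E] [Field E'] (e : E ≃+* E') (q : ℕ) {A : SL(3, E)}
    (h : A ∈ Cfsg.SU 3 E q) : CfsgH3.slCongr e A ∈ Cfsg.SU 3 E' q := by
  intro u v
  have := congrArg e (h (e.symm ∘ u) (e.symm ∘ v))
  simpa [Cfsg.hermForm, Cfsg.slToMat, CfsgH3.slCongr, Fin.sum_univ_three, mulVec, dotProduct]
    using this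

theorem psu_congr {E E' : Type} [Field E] [Fintype E] [Field E'] [Fintype E']
    (h : Fintype.card E = Fintype.card E') (q : ℕ) :
    Nonempty (Cfsg.PSU 3 E q ≃* Cfsg.PSU 3 E' q) := by
  let e := FiniteField.ringEquivOfCardEq h
  refine ⟨CfsgH3.quotCenterCongr (((CfsgH3.slCongr e).subgroupMap _).trans
    (MulEquiv.subgroupCongr (le_antisymm ?_ fun A hA => ?_)))⟩
  · rintro _ ⟨A, hA, rfl⟩
    exact su_map e q hA
  · exact ⟨_, su_map e.symm q hA, (CfsgH3.slCongr e).apply_symm_apply A⟩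

end CfsgU3
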