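import Cfsg.Agent.H6.U3M1

/-! S3645: the order and the simplicity of `PSU₃(q)`. -/

set_option autoImplicit false

namespace CfsgU3

open Subgroup Matrix
open scoped MatrixGroups commutatorElement

section model

variable {E : Type} [Field E] {σ : E →+* E} (hs : ∀ x, σ (σ x) = x)

/-- the Bruhat parametrisation -/
def bru (z : Option {z : E × E // z.2 + σ z.2 = z.1 * σ z.1} × Eˣ ×
    {z : E × E // z.2 + σ z.2 = z.1 * σ z.1}) : UK σ :=
  z.1.elim 1 (fun u => kU hs u.2 * kT σ) * (kD hs z.2.1 * kU hs z.2.2.2)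

theorem bru_bij : Function.Bijective (bru hs) := by
  refine ⟨?_, fun A => ?_⟩
  · rintro ⟨p, c, u⟩ ⟨p', c', u'⟩ e
    have e1 := congrArg (fun A : UK σ => A.1.1 *ᵥ ![1, 0, 0]) e
    have : p = p' ∧ c = c' := by
      rcases p with _ | p <;> rcases p' with _ | p' <;>
        simp only [bru, Option.elim, UK_mul_vec, kU_vec, kT_vec, kD_vec, UK_one_vec] at e1 <;>
        simp [funext_iff, Fin.forall_fin_succ] at e1
      · exact ⟨rfl, Units.ext e1⟩
      · exact absurd e1.2.2.symm c'.ne_zero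
      · obtain ⟨e2, e3, e4⟩ := e1
        obtain rfl := Units.ext e4
        exact ⟨congrArg _ (Subtype.ext (Prod.ext (by simpa using e3) (by simpa using e2))), rfl⟩
    obtain ⟨rfl, rfl⟩ := this
    have e2 := congrArg (fun A : UK σ => A.1.1 *ᵥ ![0, 0, 1]) (mul_left_cancel (mul_left_cancel e))
    simp only [kU_vec] at e2
    simp [funext_iff, Fin.forall_fin_succ] at e2
    rw [Subtype.ext (Prod.ext e2.2 e2.1 : u.1 = u'.1)]
  · by_cases c : (A.1.1 *ᵥ ![1, 0, 0]) 2 = 0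
    · obtain ⟨d, -, x, y, h, e⟩ := uk_borel hs (uk_e1 c)
      exact ⟨(none, d, ⟨(x, y), h⟩), (one_mul _).trans e.symm⟩
    · obtain ⟨x, y, h, d, -, x', y', h', e⟩ := uk_big hs c
      exact ⟨(some ⟨(x, y), h⟩, d, ⟨(x', y'), h'⟩), e.symm⟩

theorem kD_inj : Function.Injective (kD hs) := fun a b e => Units.ext <| by
  simpa [kD_vec] using congrArg (fun A : UK σ => (A.1.1 *ᵥ ![1, 0, 0]) 0) e

theorem kD_center {c : Eˣ} (h1 : c * σ c = 1) (h3 : c ^ 3 = 1) : kD hs c ∈ center (UK σ) := by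
  have h4 : (c : E) ^ 3 = 1 := by rw [← Units.val_pow_eq_pow_val, h3, Units.val_one]
  have e : ∀ v, (kD hs c).1.1 *ᵥ v = (c : E) • v := fun v => by
    rw [kD_vec, ← inv_eq_of_mul_eq_one_right h1]
    ext i; fin_cases i <;> simp
    field_simp
    exact .inl h4.symm
  exact mem_center_iff.mpr fun A => UK_ext fun v => by simp only [UK_mul_vec, e, mulVec_smul]

theorem normal_borel {s : E} (ht : s + σ s = 1) {N : Subgroup (UK σ)} [hN : N.Normal]
    (h : ∀ A ∈ N, (A.1.1 *ᵥ ![1, 0, 0]) 2 = 0) {A : UK σ} (hA : A ∈ N) :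
    ∃ c : Eˣ, c * σ c = 1 ∧ c ^ 3 = 1 ∧ A = kD hs c := by
  obtain ⟨c, -, x, y, h', rfl⟩ := uk_borel hs (uk_e1 (h A hA))
  have s0 : s ≠ 0 := fun e => by simp [e] at ht
  have e1 := h _ (hN.conj_mem _ hA (kT σ))
  have e2 := uk_e1 e1
  have hu : s + σ s = 1 * σ 1 := by simpa using ht
  have hv : σ s + σ (σ s) = -1 * σ (-1) := by simpa [hs, add_comm] using ht
  have e3 := h _ (hN.conj_mem' _ hA (kU hs hu * kT σ))
  have e4 := uk_e1 e3
  have iv : (kU hs hu)⁻¹ = kU hs hv := inv_eq_of_mul_eq_one_right (UK_ext fun v => by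
    simp only [UK_mul_vec, kU_vec, UK_one_vec]
    ext i; fin_cases i <;> simp
    linear_combination v 2 * ht)
  simp only [kT_inv, iv, _root_.mul_inv_rev, UK_mul_vec, kU_vec, kT_vec, kD_vec] at e1 e2 e3 e4
  simp [funext_iff, Fin.forall_fin_succ] at e1 e2 e3 e4
  obtain rfl := e1
  obtain rfl : x = 0 := e2.1
  have c0 := c.ne_zero
  have c1 := (map_ne_zero σ).mpr c0
  simp at e3 e4
  field_simp at e3 e4
  have k1 : c * σ c = 1 := mul_left_cancel₀ s0 (by grind)
  refine ⟨c, k1, Units.ext (by simp; grind), UK_ext fun v => ?_⟩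
  simp only [UK_mul_vec, kU_vec]
  congr 1
  ext i; fin_cases i <;> simp

end model

variable {E : Type} [Field E] [Fintype E] {q : ℕ} {σ : E →+* E}
  (hq : Fintype.card E = q ^ 2) (hσ : ∀ u, σ u = u ^ q)
include hq hσ

theorem card_UK : Nat.card (UK σ) = q ^ 3 * (q ^ 3 + 1) * (q ^ 2 - 1) := by
  rw [← Nat.card_congr (Equiv.ofBijective _ (bru_bij (sig_sig hq hσ))), Nat.card_prod,
    Nat.card_prod, Finite.card_option, card_pairs hq hσ, Nat.card_units, Nat.card_eq_fintype_card,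
    hq]
  ring

theorem center_borel (A : UK σ) (hA : A ∈ center (UK σ)) : (A.1.1 *ᵥ ![1, 0, 0]) 2 = 0 := by
  obtain ⟨δ, d0, d1⟩ := exists_tr0 hq hσ
  have := congrArg (fun B : UK σ => (B.1.1 *ᵥ ![1, 0, 0]) 0) (mem_center_iff.mp hA
    (kU (sig_sig hq hσ) (x := 0) (y := δ) (by simp [d1])))
  simp only [UK_mul_vec, kU_vec] at this
  simpa [d0] using this

theorem card_center_UK : Nat.card (center (UK σ)) = Nat.gcd 3 (q + 1) := by
  have hs := sig_sig hq hσ
  obtain ⟨s, ht⟩ := exists_tr1 hq hσ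
  have n1 : ∀ c : Eˣ, c * σ c = 1 ↔ c ^ (q + 1) = 1 := fun c => by
    rw [hσ, ← pow_succ', ← Units.val_pow_eq_pow_val, Units.val_eq_one]
  have : center (UK σ) = (powMonoidHom (Nat.gcd 3 (q + 1)) : Eˣ →* Eˣ).ker.map (kD hs) := by
    refine le_antisymm (fun A hA => ?_) ?_
    · obtain ⟨c, h1, h3, e⟩ := normal_borel hs ht (center_borel hq hσ) hA
      exact ⟨c, pow_gcd_eq_one.mpr ⟨h3, (n1 c).mp h1⟩, e.symm⟩
    · rintro _ ⟨c, hc, rfl⟩
      obtain ⟨h3, h1⟩ := pow_gcd_eq_one.mp (MonoidHom.mem_ker.mp hc)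
      exact kD_center hs ((n1 c).mpr h1) h3
  rw [this, card_map_of_injective (kD_inj hs), IsCyclic.card_powMonoidHom_ker, card_unitsE hq]
  exact Nat.gcd_eq_right ((Nat.gcd_dvd_right _ _).mul_left _)

omit hσ in
theorem card_psu :
    Nat.gcd 3 (q + 1) * Nat.card (Cfsg.PSU 3 E q) = q ^ 3 * (q ^ 3 + 1) * (q ^ 2 - 1) := by
  obtain ⟨σ, hσ⟩ := exists_sig hq
  obtain ⟨e⟩ := psu_of_uk hq hσ
  rw [← Nat.card_congr e.toEquiv, ← card_center_UK hq hσ, ← card_UK hq hσ, mul_comm,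
    ← card_eq_card_quotient_mul_card_subgroup]

theorem normal_top {M : Subgroup (UK σ)} [hM : M.Normal]
    (hU : ∀ x y (h : y + σ y = x * σ x), kU (sig_sig hq hσ) h ∈ M) : M = ⊤ := by
  have hs := sig_sig hq hσ
  refine kgen hq hσ M ?_ hU
  obtain ⟨x, hx⟩ := exists_norm hq hσ (b := 1 + σ 1) (by simp)
  obtain ⟨_, _, h, d, e, _, _, h', e'⟩ := uk_big hs ((uk_TUT hs hx.symm).trans_ne one_ne_zero)
  have m := hM.conj_mem _ (hU _ _ hx.symm) (kT σ)
  rwa [kT_inv, e', Units.ext (e.trans (uk_TUT hs hx.symm) : (d : E) = (1 : Eˣ)), map_one, one_mul,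
    mul_mem_cancel_right (hU _ _ h'), mul_mem_cancel_left (hU _ _ h)] at m

theorem uk_perfect (h3 : 3 ≤ q) : commutator (UK σ) = ⊤ := by
  have hs := sig_sig hq hσ
  obtain ⟨c, c1, c2, c3⟩ := exists_fix_ne hq hσ h3
  obtain ⟨b, hb⟩ := exists_norm hq hσ c1
  have b0 := left_ne_zero_of_mul (hb.trans_ne c2)
  have c4 := sub_ne_zero.mpr c3
  have cm : ∀ (d : Eˣ) {x y x' y' x'' y'' : E} (h : y + σ y = x * σ x) (h' : y' + σ y' = x' * σ x')
      (h'' : y'' + σ y'' = x'' * σ x''), x' = σ d * σ d / d * x → y' = d * σ d * y →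
      x' = x'' + x → y' = y'' + y + σ x'' * x → kU hs h'' ∈ commutator (UK σ) := by
    intro d x y x' y' x'' y'' h h' h'' e1 e2 e3 e4
    have := commutator_mem_commutator (mem_top (kD hs d)) (mem_top (kU hs h))
    rwa [commutatorElement_def, kD_kU hs d h h' e1 e2, ← kU_mul hs h'' h h' e3 e4,
      mul_inv_cancel_right, mul_inv_cancel_right] at this
  have hZ : ∀ y (h : y + σ y = 0 * σ 0), kU hs h ∈ commutator (UK σ) := fun y h => by
    have h0 : σ y = -y := by linear_combination h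
    refine cm (Units.mk0 b b0) (x := 0) (y := y / (c - 1)) (x' := 0) (y' := c * (y / (c - 1)))
      (by simp [h0, c1]; ring) (by simp [h0, c1]; ring) h (by simp) (by simp [hb]) (by simp) ?_
    field_simp; ring
  refine normal_top hq hσ fun x y h => ?_
  obtain ⟨z, hz⟩ := exists_trace hq hσ (b := x / (c - 1) * σ (x / (c - 1)))
    (by rw [map_mul, hs, mul_comm])
  have h1 : c * c * z + σ (c * c * z) = c * (x / (c - 1)) * σ (c * (x / (c - 1))) := by
    simp only [map_mul, c1]; linear_combination c * c * hz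
  have h2 : c * c * z - z - σ x * (x / (c - 1)) + σ (c * c * z - z - σ x * (x / (c - 1))) =
      x * σ x := by
    simp only [map_mul, c1, map_sub, map_div₀, map_one, hs] at hz ⊢
    field_simp at hz ⊢
    grind
  have m := cm (Units.mk0 c c2) hz h1 h2 (by simp [c1]) (by simp [c1]) (by field_simp; ring)
    (by ring)
  rw [← kU_mul hs h2 (x' := 0) (y' := y - (c * c * z - z - σ x * (x / (c - 1))))
    (by rw [map_sub]; linear_combination h - h2) h (by simp) (by simp)]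
  exact mul_mem m (hZ _ _)

theorem uk_normal (h3 : 3 ≤ q) (N : Subgroup (UK σ)) [hN : N.Normal] :
    N ≤ center (UK σ) ∨ N = ⊤ := by
  have hs := sig_sig hq hσ
  obtain ⟨s, ht⟩ := exists_tr1 hq hσ
  by_cases h : ∀ A ∈ N, (A.1.1 *ᵥ ![1, 0, 0]) 2 = 0
  · refine .inl fun A hA => ?_
    obtain ⟨c, h1, h3, rfl⟩ := normal_borel hs ht h hA
    exact kD_center hs h1 h3
  push Not at h
  obtain ⟨A, hA, h⟩ := h
  obtain ⟨_, _, h1, d, -, _, _, h2, rfl⟩ := uk_big hs h
  let φ := QuotientGroup.mk' N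
  let Q : Subgroup (UK σ) :=
    { carrier := {A | ∃ x y, ∃ h : y + σ y = x * σ x, A = kU hs h}
      one_mem' := uk_fix hs (UK_one_vec _)
      mul_mem' := by
        rintro _ _ ⟨_, _, h, rfl⟩ ⟨_, _, h', rfl⟩
        exact uk_fix hs (by simp only [UK_mul_vec, kU_vec]; simp)
      inv_mem' := by
        rintro _ ⟨_, _, h, rfl⟩
        exact uk_fix hs (UK_inv_vec _ (by simp [kU_vec])) }
  have mQ : ∀ x y (h : y + σ y = x * σ x), kU hs h ∈ Q := fun x y h => ⟨x, y, h, rfl⟩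
  have nQ : ∀ x y (h : y + σ y = x * σ x), φ (kU hs h) ∈ normalizer (Q.map φ : Set _) :=
    fun x y h => le_normalizer ⟨_, mQ x y h, rfl⟩
  have nD : φ (kD hs d) ∈ normalizer (Q.map φ : Set _) := by
    refine le_normalizer_map φ ⟨_, mem_normalizer_fintype ?_, rfl⟩
    rintro _ ⟨x, y, h, rfl⟩
    refine uk_fix hs ?_
    rw [UK_mul_vec, UK_inv_vec (kD hs d) (v := ![d⁻¹, 0, 0]) (by simp [kD_vec]), UK_mul_vec, kU_vec,
      kD_vec]
    simp
  have nT : φ (kT σ) ∈ normalizer (Q.map φ : Set _) := by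
    have : (1 : UK σ ⧸ N) ∈ normalizer (Q.map φ : Set _) := one_mem _
    rwa [← (QuotientGroup.eq_one_iff _).mpr hA, ← QuotientGroup.mk'_apply, map_mul, map_mul, map_mul,
      mul_mem_cancel_right (mul_mem nD (nQ _ _ h2)), mul_mem_cancel_left (nQ _ _ h1)] at this
  have sur := QuotientGroup.mk'_surjective N
  have n : (Q.map φ).Normal := normalizer_eq_top_iff.mp (eq_top_iff.mpr fun g _ => by
    obtain ⟨B, rfl⟩ := sur g
    exact (kgen hq hσ (comap φ (normalizer (Q.map φ : Set (UK σ ⧸ N))))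
      (mem_comap.mpr nT) (fun x y h => mem_comap.mpr (nQ x y h))).ge (mem_top B))
  have t : ∀ g, ∃ x y, ∃ h : y + σ y = x * σ x, g = φ (kU hs h) := fun g => by
    obtain ⟨B, rfl⟩ := sur g
    obtain ⟨_, ⟨x, y, h, rfl⟩, e⟩ := (normal_top hq hσ (M := (Q.map φ).comap φ)
      fun x y h => ⟨_, mQ x y h, rfl⟩).ge (mem_top B)
    exact ⟨x, y, h, e.symm⟩
  have pf : ⁅(⊤ : Subgroup (UK σ ⧸ N)), (⊤ : Subgroup (UK σ ⧸ N))⁆ = ⊤ := by
    rw [← map_top_of_surjective _ sur, ← Subgroup.map_commutator, ← _root_.commutator_def,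
      uk_perfect hq hσ h3]
  have ce : (⊤ : Subgroup (UK σ ⧸ N)) ≤ center _ := pf ▸ commutator_le.mpr fun g _ g' _ => by
    refine mem_center_iff.mpr fun g'' => ?_
    obtain ⟨x, y, h, rfl⟩ := t g
    obtain ⟨x', y', h', rfl⟩ := t g'
    obtain ⟨x'', y'', h'', rfl⟩ := t g''
    have hz : σ x * x' - σ x' * x + σ (σ x * x' - σ x' * x) = 0 * σ 0 := by simp [hs]; ring
    have : ⁅kU hs h, kU hs h'⁆ = kU hs hz := by
      rw [commutatorElement_def, mul_inv_eq_iff_eq_mul, mul_inv_eq_iff_eq_mul]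
      refine UK_ext fun v => ?_
      simp only [UK_mul_vec, kU_vec]
      ext i; fin_cases i <;> simp <;> ring
    rw [← map_commutatorElement, this, ← map_mul, ← map_mul]
    refine congrArg φ (UK_ext fun v => ?_)
    simp only [UK_mul_vec, kU_vec]
    ext i; fin_cases i <;> simp
    ring
  have bt : (⊤ : Subgroup (UK σ ⧸ N)) ≤ ⊥ := pf ▸ commutator_le.mpr fun g _ g' _ =>
    commutatorElement_eq_one_iff_mul_comm.mpr (mem_center_iff.mp (ce (mem_top g')) g)
  exact .inr (eq_top_iff.mpr fun B _ => (QuotientGroup.eq_one_iff B).mp (bt (mem_top _)))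

theorem uk_simple (h3 : 3 ≤ q) : IsSimpleGroup (UK σ ⧸ center (UK σ)) := by
  have sur := QuotientGroup.mk'_surjective (center (UK σ))
  have : Nontrivial (UK σ ⧸ center (UK σ)) := ⟨1, kT σ, fun e => by
    simpa [kT_vec] using center_borel hq hσ _ ((QuotientGroup.eq_one_iff _).mp e.symm)⟩
  refine ⟨fun N hN => ?_⟩
  rw [← map_comap_eq_self_of_surjective sur N]
  refine (uk_normal hq hσ h3 (N.comap (QuotientGroup.mk' _))).imp (fun h => ?_) fun h => ?_
  · rwa [Subgroup.map_eq_bot_iff, QuotientGroup.ker_mk']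
  · rw [h, map_top_of_surjective _ sur]

omit hσ in
theorem psu_simple (h3 : 3 ≤ q) :
    IsSimpleGroup (Cfsg.PSU 3 E q) ∧ commutator (Cfsg.PSU 3 E q) = ⊤ := by
  obtain ⟨σ, hσ⟩ := exists_sig hq
  obtain ⟨e⟩ := psu_of_uk hq hσ
  have := uk_simple hq hσ h3
  have sur := e.surjective.comp (QuotientGroup.mk'_surjective (center (UK σ)))
  refine ⟨e.symm.isSimpleGroup, ?_⟩
  rw [_root_.commutator_def, ← map_top_of_surjective (e.toMonoidHom.comp (QuotientGroup.mk' _)) sur,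
    ← map_commutator, ← _root_.commutator_def, uk_perfect hq hσ h3]

end CfsgU3
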