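import Cfsg.Agent.H3.X32U
import Cfsg.Agent.H3.X32M3
import Cfsg.Agent.H3.X32A3

set_option autoImplicit false

/-! The configuration `2^{1+4}.S₃` does not occur when elements of order 15 and 27 ∣ |G| are
excluded. -/

namespace CfsgM11

open Subgroup CfsgH5 CfsgH6 CfsgFT CfsgH3.X32

theorem alt15 {n : ℕ} {G : Type*} [Group G] (e : G ≃* alternatingGroup (Fin n))
    (x y : Equiv.Perm (Fin n)) (h : Equiv.Perm.sign x = 1 ∧ Equiv.Perm.sign y = 1 ∧ x ^ 3 = 1 ∧
      y ^ 5 = 1 ∧ x * y = y * x ∧ x ≠ 1 ∧ y ≠ 1)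
    (c15 : ∀ x y : G, x ^ 3 = 1 → y ^ 5 = 1 → x * y = y * x → x = 1 ∨ y = 1) : False := by
  obtain ⟨a, b, c, d, f, i, j⟩ := h
  rcases c15 (e.symm ⟨x, Equiv.Perm.mem_alternatingGroup.2 a⟩)
    (e.symm ⟨y, Equiv.Perm.mem_alternatingGroup.2 b⟩)
    (by rw [← map_pow, map_eq_one_iff _ e.symm.injective]; exact Subtype.ext c)
    (by rw [← map_pow, map_eq_one_iff _ e.symm.injective]; exact Subtype.ext d)
    (by rw [← map_mul, ← map_mul]; exact congrArg _ (Subtype.ext f)) with k | k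
  · exact i (congrArg Subtype.val ((map_eq_one_iff _ e.symm.injective).1 k))
  · exact j (congrArg Subtype.val ((map_eq_one_iff _ e.symm.injective).1 k))

theorem x32 {G : Type*} [Group G] [Finite G] [IsSimpleGroup G] {t : G} {K : Subgroup G}
    {ph : C1 t →* Equiv.Perm (Fin 3)} (h0 : H0 t K ph) {g : G} (hg : g * t * g⁻¹ ∈ K)
    (hg' : g * t * g⁻¹ ≠ t) (h27 : ¬ 27 ∣ Nat.card G)
    (c15 : ∀ x y : G, x ^ 3 = 1 → y ^ 5 = 1 → x * y = y * x → x = 1 ∨ y = 1) : False := by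
  obtain ⟨τ, f, hf, hc⟩ := h0.exists_base hg hg'
  by_cases hu : ∀ m, IsConj (f CfsgH3.X32.s) (f m) → pE m
  · obtain ⟨N, hN, -, -, c, -⟩ := CU.main ⟨hf, hc, hu⟩
    rcases hN.eq_bot_or_eq_top with rfl | rfl
    · simp at c
    · have := card_le_of_le (le_top : K ≤ ⊤)
      rw [h0.card, c] at this
      omega
  push Not at hu
  obtain ⟨m, h1, h2⟩ := hu
  cases τ
  · obtain ⟨f, a, b, h⟩ := exists_ca hf hc h2 h1
    rcases h.main with ⟨⟨e⟩⟩ | ⟨⟨e⟩⟩
    · exact alt15 e (Equiv.swap 0 1 * Equiv.swap 1 2)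
        (Equiv.swap 3 4 * Equiv.swap 4 5 * Equiv.swap 5 6 * Equiv.swap 6 7) (by decide +kernel) c15
    · exact alt15 e (Equiv.swap 0 1 * Equiv.swap 1 2)
        (Equiv.swap 3 4 * Equiv.swap 4 5 * Equiv.swap 5 6 * Equiv.swap 6 7) (by decide +kernel) c15
  · have hm : CM f := by
      refine ⟨hf, hc, ?_⟩
      obtain ⟨k, hk⟩ := isConj_iff.1 h1
      rcases fM1 m (hf.sq (hk ▸ CfsgH5.conj_mul_self Base.s2 k)) with
        rfl | e | rfl | ⟨l, rfl | rfl⟩
      · exact absurd (by decide +kernel) h2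
      · exact absurd h1 (hf.nz e)
      · exact absurd (by decide +kernel) h2
      · exact absurd ((fE true _ (by decide +kernel)).2.2.1 l) h2
      · exact h1.trans (isConj_iff.2 ⟨f l, by simp⟩).symm
    rcases hm.card with e | e <;> exact h27 (by rw [e]; norm_num)

end CfsgM11
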