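import Cfsg.Agent.H6.MI1
import Cfsg.Agent.H6.MX32
import Cfsg.Agent.H9.MC
import Cfsg.Agent.H4.MX2
import Cfsg.Agent.H4.MX3

set_option autoImplicit false
set_option linter.unusedSectionVars false
set_option linter.style.haveILetI false

/-! S3717: the case `C(t) → S₃`. -/

namespace CfsgM11

open Subgroup CfsgH5 CfsgH6 CfsgFT CfsgH8

variable {G : Type*} [Group G] [Finite G]

theorem s3a : ∀ a b : Equiv.Perm (Fin 3), a * a = 1 → a ≠ 1 → b * a = a * b →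
    b = 1 ∨ b * a = 1 := by decide

theorem s3b : ∀ a : Equiv.Perm (Fin 3), (∀ b, b * a = a * b) → a = 1 := by decide

theorem ab16 {x : G} {Q : Subgroup G} (h : SC x) (hQ : XInv x Q) (c : Nat.card Q = 16) :
    ∀ p ∈ Q, ∀ q ∈ Q, p * q = q * p := fun p hp q hq => by
  haveI := Fact.mk Nat.prime_two
  have hZ : XInv x (Q ⊓ centralizer (Q : Set G)) := hQ.mono inf_le_left fun k hk =>
    ⟨hQ.conj k hk.1, mem_centralizer_iff.2 fun r hr =>
      (hQ.comm_conj h hk.1 hr (mem_centralizer_iff.1 hk.2 r hr).symm).symm⟩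
  have hC : XInv x (Q ⊓ C1 q) := hQ.mono inf_le_left fun k hk =>
    ⟨hQ.conj k hk.1, mem_C1.2 (hQ.comm_conj h hk.1 hq (mem_C1.1 hk.2))⟩
  have le : Q ⊓ centralizer (Q : Set G) ≤ Q ⊓ C1 q := fun k hk =>
    ⟨hk.1, mem_C1.2 (mem_centralizer_iff.1 hk.2 q hq).symm⟩
  have ne : Q ⊓ centralizer (Q : Set G) ≠ ⊥ := fun e => by
    have : Nontrivial Q := Finite.one_lt_card_iff_nontrivial.1 (by omega)
    have := (IsPGroup.of_card (p := 2) (n := 4) c).center_nontrivial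
    obtain ⟨⟨y, hy⟩, y1⟩ := exists_ne (1 : center Q)
    have : y.1 ∈ Q ⊓ centralizer (Q : Set G) := ⟨y.2, mem_centralizer_iff.2 fun r hr =>
      congrArg Subtype.val (mem_center_iff.1 hy ⟨r, hr⟩)⟩
    rw [e, mem_bot] at this
    exact y1 (Subtype.ext (Subtype.ext this))
  have a1 := hZ.four_le h ne
  have a2 := hC.card_mod h
  have a3 : Nat.card (Q ⊓ C1 q : Subgroup G) ∣ 2 ^ 4 := by
    have := card_dvd_of_le (inf_le_left (a := Q) (b := C1 q))
    rwa [c] at this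
  obtain ⟨i, hi, e⟩ := (Nat.dvd_prime_pow Nat.prime_two).1 a3
  by_cases b : Nat.card (Q ⊓ C1 q : Subgroup G) ≤ 4
  · have := eq_of_le_of_card_ge le (by omega)
    have hq' : q ∈ Q ⊓ centralizer (Q : Set G) := this ▸ ⟨hq, mem_C1.2 rfl⟩
    exact mem_centralizer_iff.1 hq'.2 p hp
  · have : Q ⊓ C1 q = Q := eq_of_le_of_card_ge inf_le_left (by
      rw [e] at a2 b
      rw [e, c]
      interval_cases i <;> simp_all)
    exact mem_C1.1 ((this.ge hp).2)

theorem relc16 (A B : Subgroup G) : A.relIndex B * Nat.card (A ⊓ B : Subgroup G) = Nat.card B := by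
  rw [relIndex, ← inf_subgroupOf_right,
    ← Nat.card_congr (subgroupOfEquivOfLe (inf_le_right (a := A) (b := B))).toEquiv, index_mul_card]

/-- the kernel, in `G`. -/
def KK {t : G} (f : C1 t →* Equiv.Perm (Fin 3)) : Subgroup G := f.ker.map (C1 t).subtype

theorem mem_KK {t k : G} {f : C1 t →* Equiv.Perm (Fin 3)} :
    k ∈ KK f ↔ ∃ h : k ∈ C1 t, f ⟨k, h⟩ = 1 :=
  ⟨by rintro ⟨⟨k, h⟩, a, rfl⟩; exact ⟨h, a⟩, fun ⟨h, a⟩ => ⟨⟨k, h⟩, a, rfl⟩⟩

/-- the kernel, in `C(t)/⟨t⟩`. -/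
def QQ {t : G} (f : C1 t →* Equiv.Perm (Fin 3)) : Subgroup (C1 t ⧸ Zt t) := f.ker.map (pt t)

theorem idx6 {t : G} {f : C1 t →* Equiv.Perm (Fin 3)} (surj : Function.Surjective f) :
    f.ker.index = 6 := by
  rw [index_ker, MonoidHom.range_eq_top.2 surj, card_top, Nat.card_eq_fintype_card]; rfl

theorem ft1 {t : G} {f : C1 t →* Equiv.Perm (Fin 3)} (surj : Function.Surjective f) :
    f ⟨t, mem_C1.2 rfl⟩ = 1 := s3b _ fun b => by
  obtain ⟨b, rfl⟩ := surj b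
  rw [← map_mul, ← map_mul]
  exact congrArg f (Subtype.ext (mem_C1.1 b.2))

theorem card_KK {t : G} {f : C1 t →* Equiv.Perm (Fin 3)} (surj : Function.Surjective f) :
    Nat.card (C1 t) = 6 * Nat.card (KK f) := by
  rw [KK, card_map_of_injective (subtype_injective _), ← idx6 surj, index_mul_card]

namespace Cf

variable {M : Subgroup G} {g h a t s z w : G} (H : Cf M g h a t s z w)
  {f : C1 t →* Equiv.Perm (Fin 3)} (surj : Function.Surjective f)
  (hk : ∀ k, f k = 1 → k ^ 3 = 1 → k = 1)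
include H surj hk

theorem card_QQ : Nat.card (C1 t) = 12 * Nat.card (QQ f) := by
  haveI := Fact.mk Nat.prime_two
  have a : (QQ f).index = 6 := by
    rw [QQ, index_map_eq _ (pt_surj t), idx6 surj]
    intro k hk
    rcases (pt_eq_one H.tt k).1 hk with e | e
    · rw [show k = 1 from Subtype.ext e]; exact one_mem _
    · rw [show k = ⟨t, mem_C1.2 rfl⟩ from Subtype.ext e]; exact ft1 surj
  have b : Nat.card (Zt t) = 2 := by
    rw [Zt, Nat.card_zpowers]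
    exact orderOf_eq_prime (Subtype.ext (by simpa [pow_two] using H.tt))
      (fun e => H.t1 (congrArg Subtype.val e))
  rw [card_eq_card_quotient_mul_card_subgroup (Zt t), b, ← (QQ f).index_mul_card, a]; ring

theorem fg1 : f ⟨g, H.gC⟩ ≠ 1 := fun e =>
  H.g1 (congrArg Subtype.val (hk _ e (Subtype.ext H.g3)))

theorem ks : KS g t (KK f) where
  le k hk := mem_C1.1 (mem_KK.1 hk).1
  tK := mem_KK.2 ⟨_, ft1 surj⟩
  nrm c hc k hk := by
    obtain ⟨b, e⟩ := mem_KK.1 hk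
    exact ⟨_, (f.normal_ker.conj_mem _ e ⟨c, mem_C1.2 hc⟩), rfl⟩
  n3 k h1 h3 := by
    obtain ⟨b, e⟩ := mem_KK.1 h1
    exact congrArg Subtype.val (hk _ e (Subtype.ext h3))
  d3 k h1 := by
    haveI := Fact.mk Nat.prime_three
    obtain ⟨b, e⟩ := mem_KK.1 h1
    have := orderOf_map_dvd f (⟨k, b⟩ * ⟨g, H.gC⟩)
    rw [map_mul, e, one_mul, orderOf_eq_prime (p := 3)
      (by rw [← map_pow, show (⟨g, H.gC⟩ : C1 t) ^ 3 = 1 from Subtype.ext H.g3, map_one])
      (H.fg1 surj hk), ← Subgroup.orderOf_coe] at this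
    exact this

theorem xq : XInv (pt t ⟨g, H.gC⟩) (QQ f) := ⟨by
  rintro _ ⟨k, a, rfl⟩
  exact ⟨_, f.normal_ker.conj_mem _ a ⟨g, H.gC⟩, by simp⟩, by
  rintro ⟨k, a, e⟩
  apply H.fg1 surj hk
  rcases (pt_eq H.tt _ _).1 e with e | e
  · rw [← show k = ⟨g, H.gC⟩ from Subtype.ext e]; exact a
  · have : k = ⟨g, H.gC⟩ * ⟨t, mem_C1.2 rfl⟩ := Subtype.ext e
    have b : f k = 1 := a
    rwa [this, map_mul, ft1 surj, mul_one] at b⟩

theorem cs1 {y : G} (c1 : y * s = s * y) (c2 : y * t = t * y) : y ∈ KK f ∨ y * s ∈ KK f := by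
  have n : f ⟨s, H.sC⟩ ≠ 1 := fun e => H.sK (H.ks surj hk) (mem_KK.2 ⟨_, e⟩)
  rcases s3a (f ⟨s, H.sC⟩) (f ⟨y, mem_C1.2 c2⟩)
    (by rw [← map_mul, show (⟨s, H.sC⟩ : C1 t) * ⟨s, H.sC⟩ = 1 from Subtype.ext H.ss, map_one]) n
    (by rw [← map_mul, ← map_mul]; exact congrArg f (Subtype.ext c1)) with e | e
  · exact Or.inl (mem_KK.2 ⟨_, e⟩)
  · rw [← map_mul] at e
    exact Or.inr ⟨_, e, rfl⟩

theorem cs2 {y : G} (c1 : y * s = s * y) (c2 : y * t = t * y) :
    w * y * w ∈ KK f ∨ w * (y * t) * w ∈ KK f := by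
  rcases H.cs1 surj hk (y := w * y * w) (by rw [← H.wtw, cw H.ww, cw H.ww, c2])
    (by rw [← H.wsw, cw H.ww, cw H.ww, c1]) with e | e
  · exact Or.inl e
  · rw [← H.wtw, cw H.ww] at e
    exact Or.inr e

theorem k3Q : Nat.card (QQ f) ≤
    Nat.card (QQ f ⊓ centralizer {1 * pt t ⟨s, H.sC⟩} : Subgroup (C1 t ⧸ Zt t)) ^ 2 := by
  have nr : ∀ c, ∀ q ∈ QQ f, c * q * c⁻¹ ∈ QQ f := fun c => by
    rintro _ ⟨k, b, rfl⟩
    obtain ⟨c, rfl⟩ := pt_surj t c
    exact ⟨_, f.normal_ker.conj_mem _ b c, by simp⟩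
  refine (H.xq surj hk).k3 H.sc le_rfl (fun c _ => nr c) (H.xq surj hk) (one_mem _) ?_ ?_ (nr _)
  · rw [← map_inv, ← map_mul, ← map_mul, ← map_inv]
    exact congrArg _ (Subtype.ext (by simp [inv_of_sq H.ss, H.sgs]))
  · rw [one_mul, ← map_mul, show (⟨s, H.sC⟩ : C1 t) * ⟨s, H.sC⟩ = 1 from Subtype.ext H.ss, map_one]

theorem memA {q : C1 t ⧸ Zt t} (hq : q ∈ QQ f ⊓ centralizer {1 * pt t ⟨s, H.sC⟩}) :
    ∃ k : C1 t, k.1 ∈ KK f ∧ pt t k = q ∧ (k.1 * s = s * k.1 ∨ k.1 * s = s * k.1 * t) := by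
  obtain ⟨⟨k, b, rfl⟩, c⟩ := hq
  have := mem_cent1.1 c
  rw [one_mul, ← map_mul, ← map_mul, pt_eq H.tt] at this
  exact ⟨k, ⟨k, b, rfl⟩, rfl, this⟩

theorem subA {e : G} (eC : e ∈ C1 t)
    (hc : ∀ y ∈ KK f, y * s = s * y → (y = 1 ∨ y = t) ∨ y = e ∨ y = e * t) :
    ((QQ f ⊓ centralizer {1 * pt t ⟨s, H.sC⟩} : Subgroup (C1 t ⧸ Zt t)) : Set _) ⊆
      {1, pt t ⟨e, eC⟩} ∨ ∃ k : C1 t, k.1 * s = s * k.1 * t ∧
    ((QQ f ⊓ centralizer {1 * pt t ⟨s, H.sC⟩} : Subgroup (C1 t ⧸ Zt t)) : Set _) ⊆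
      {1, pt t ⟨e, eC⟩, pt t k, pt t k * pt t ⟨e, eC⟩} := by
  have b : ∀ k : C1 t, k.1 ∈ KK f → k.1 * s = s * k.1 → pt t k = 1 ∨ pt t k = pt t ⟨e, eC⟩ :=
    fun k a c => by
      rw [pt_eq_one H.tt, pt_eq H.tt]; exact hc _ a c
  by_cases ex : ∃ k : C1 t, k.1 ∈ KK f ∧ k.1 * s = s * k.1 * t
  · obtain ⟨k, k1, k2⟩ := ex
    refine Or.inr ⟨k, k2, fun q hq => ?_⟩
    obtain ⟨l, l1, rfl, l2 | l2⟩ := H.memA surj hk hq
    · rcases b l l1 l2 with e | e <;> simp [e]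
    · have kt := mem_C1.1 k.2
      have lt := mem_C1.1 l.2
      have : (k⁻¹ * l).1 * s = s * (k⁻¹ * l).1 := by
        change k.1⁻¹ * l.1 * s = s * (k.1⁻¹ * l.1)
        have a : s * k.1⁻¹ = k.1⁻¹ * s * t := by
          calc s * k.1⁻¹ = k.1⁻¹ * (k.1 * s) * k.1⁻¹ := by group
            _ = k.1⁻¹ * s * (k.1 * t) * k.1⁻¹ := by rw [k2]; group
            _ = _ := by rw [kt]; group
        rw [mul_assoc, l2, ← mul_assoc s, a, mul_assoc s, lt]; group
      rcases b _ (mul_mem (inv_mem k1) l1) this with e | e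
      · rw [map_mul, map_inv, inv_mul_eq_one] at e
        simp [e]
      · rw [map_mul, map_inv, inv_mul_eq_iff_eq_mul] at e
        rw [e]; simp
  · refine Or.inl fun q hq => ?_
    obtain ⟨l, l1, rfl, l2 | l2⟩ := H.memA surj hk hq
    · exact b l l1 l2
    · exact (ex ⟨l, l1, l2⟩).elim

theorem caseR1 [IsSimpleGroup G] (h0 : ∀ r ∈ KK f, w * r * w ∈ KK f → r = 1) :
    Cfsg.Spor.IsoM11 G := by
  have K := H.ks surj hk
  have c1 := H.card_QQ surj hk
  have c2 := H.k3Q surj hk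
  have c3 := (H.xq surj hk).card_mod H.sc
  rcases H.subA surj hk (e := 1) (one_mem _) (fun y hy c => Or.inl (by
      rcases H.cs2 surj hk c (K.le y hy) with e | e
      · exact Or.inl (h0 y hy e)
      · have := h0 _ (mul_mem hy K.tK) e
        rw [mul_eq_one_iff_eq_inv, H.ti] at this
        exact Or.inr this)) with a | ⟨k, k1, a⟩
  · have := Set.ncard_le_ncard a
    rw [show (⟨1, one_mem _⟩ : C1 t) = 1 from rfl, map_one, Set.pair_eq_singleton,
      Set.ncard_singleton, ← Nat.card_coe_set_eq] at this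
    have := c2.trans (Nat.pow_le_pow_left this 2)
    exact (H.X0 (by omega)).elim
  · have := Set.ncard_le_ncard a
    rw [show (⟨1, one_mem _⟩ : C1 t) = 1 from rfl, map_one, mul_one, Set.pair_eq_singleton,
      Set.insert_eq_of_mem (Set.mem_insert _ _), ← Nat.card_coe_set_eq] at this
    have b := Set.ncard_insert_le (1 : C1 t ⧸ Zt t) {pt t k}
    rw [Set.ncard_singleton] at b
    have := c2.trans (Nat.pow_le_pow_left (this.trans b) 2)
    by_cases d : Nat.card (QQ f) = 1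
    · exact (H.X0 (by omega)).elim
    · refine H.X1 (by omega) (isConj_iff.2 ⟨w * k.1⁻¹, ?_⟩)
      rw [← H.st]
      calc w * k.1⁻¹ * (s * t) * (w * k.1⁻¹)⁻¹ = w * k.1⁻¹ * (s * (t * k.1)) * w⁻¹ := by group
        _ = w * s * w := by rw [← mem_C1.1 k.2, ← mul_assoc s, ← k1, H.wi]; group
        _ = t := H.wsw

theorem case32 [IsSimpleGroup G] (c16 : Nat.card (QQ f) = 16) {e : G} (eK : e ∈ KK f)
    (ew : e * w = w * e) (het : IsConj e t) (h0 : ∀ r ∈ KK f, w * r * w ∈ KK f → r = 1 ∨ r = e)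
    (hc : ∀ y ∈ KK f, y * s = s * y → (y = 1 ∨ y = t) ∨ y = e ∨ y = e * t) : False := by
  haveI := Fact.mk Nat.prime_two
  haveI := Fact.mk Nat.prime_three
  have K := H.ks surj hk
  have c1 := H.card_QQ surj hk
  have c2 := card_KK surj
  have c32 : Nat.card (KK f) = 32 := by omega
  have pg : IsPGroup 2 (KK f) := IsPGroup.of_card (n := 5) c32
  have ne : ¬ ∀ p ∈ KK f, p * e = e * p := fun hz => by
    have l1 : KK f ≤ C1 e := fun p hp => mem_C1.2 (hz p hp)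
    have l2 : cj w (KK f) ≤ C1 e := fun p hp => mem_C1.2 (by
      have := congrArg (fun x => w * x * w) (hz _ (H.mem_wK.1 hp))
      simp only [← cw H.ww] at this
      rw [← ew, mul_assoc e, H.ww, mul_one] at this
      simpa [mul_assoc, mul_sq_l H.ww, H.ww] using this)
    have a1 : Nat.card (C1 e) = 192 := by rw [card_C1_conj het]; omega
    have a2 : Nat.card (cj w (KK f)) = 32 := by rw [card_cj, c32]
    have a3 : (cj w (KK f)).relIndex (C1 e) * 32 = 192 := by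
      rw [← a1, ← a2, ← relc16 (cj w (KK f)) (C1 e), inf_eq_left.2 l2]
    have a4 := relIndex_le_of_le_right (H := cj w (KK f)) l1 (by omega)
    have a5 : (cj w (KK f)).relIndex (KK f) * Nat.card (cj w (KK f) ⊓ KK f : Subgroup G) = 32 := by
      rw [← c32, relc16]
    have a6 : ((cj w (KK f) ⊓ KK f : Subgroup G) : Set G) ⊆ {1, e} := fun r hr =>
      h0 r hr.2 (H.mem_wK.1 hr.1)
    have a7 := (Set.ncard_le_ncard a6).trans (Set.ncard_insert_le _ _)
    rw [Set.ncard_singleton, ← Nat.card_coe_set_eq] at a7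
    have := Nat.mul_le_mul a4 a7
    change _ * Nat.card (cj w (KK f) ⊓ KK f : Subgroup G) ≤ _ at this
    omega
  have zc : ∀ c, c * t = t * c → ∀ y ∈ KK f, (∀ p ∈ KK f, p * y = y * p) →
      ∀ p ∈ KK f, p * (c * y * c⁻¹) = c * y * c⁻¹ * p := fun c hc y hy hz p hp => by
    have ci : c⁻¹ * t = t * c⁻¹ := (Commute.inv_left hc).eq
    have := comm_conj' (hz _ (K.nrm _ ci p hp)) c
    simpa [mul_assoc] using this
  have si := inv_of_sq H.ss
  have iv : ∀ y ∈ KK f, (∀ p ∈ KK f, p * y = y * p) → y * (s * y * s) ∈ zpowers t :=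
    fun y hy hz => by
      have b := K.nrm s H.ts'.symm y hy
      have b2 := zc s H.ts'.symm y hy hz
      rw [si] at b b2
      have b3 : ∀ p ∈ KK f, p * (y * (s * y * s)) = y * (s * y * s) * p := fun p hp => by
        rw [← mul_assoc, hz p hp, mul_assoc, b2 p hp, mul_assoc y]
      rcases hc _ (mul_mem hy b) (by
        nth_rewrite 2 [b2 y hy]
        simp [mul_assoc, mul_sq_l H.ss, H.ss]) with a | a | a
      · exact H.memT.2 a
      · exact (ne (a ▸ b3)).elim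
      · refine (ne fun p hp => ?_).elim
        have := b3 p hp
        rw [a, ← mul_assoc, mul_assoc e, ← K.le p hp, ← mul_assoc] at this
        exact mul_right_cancel this
  obtain ⟨c, hce⟩ := isConj_iff.1 het.symm
  refine x32 (K := KK f) (ph := f) (g := c) ⟨H.tt, H.t1, fun k a => mem_C1.2 (K.le k a),
    c32, K.tK, fun y hy hz => ?_, fun p hp q hq => ?_, surj, fun k => ?_, fun x _ x1 x3 q hq e => ?_⟩
    (hce ▸ eK) (hce ▸ fun b => ?_) ?_ fun x y x3 y5 e => ?_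
  · have gi : g⁻¹ * t = t * g⁻¹ := (Commute.inv_left H.tg.symm).eq
    have yC : y ∈ C1 t := mem_C1.2 (K.le y hy)
    have i1 : ∀ y ∈ KK f, ∀ yC : y ∈ C1 t, (∀ p ∈ KK f, p * y = y * p) →
        pt t ⟨s, H.sC⟩ * pt t ⟨y, yC⟩ * pt t ⟨s, H.sC⟩ = (pt t ⟨y, yC⟩)⁻¹ := fun y hy yC hz => by
      rw [eq_inv_iff_mul_eq_one, mul_eq_one_comm, ← map_mul, ← map_mul, ← map_mul, pt_eq_one H.tt]
      exact H.memT.1 (iv y hy hz)
    have j1 := i1 y hy yC hz
    have j2 := i1 _ (K.nrm _ gi y hy) (mem_C1.2 (K.le _ (K.nrm _ gi y hy))) (zc _ gi y hy hz)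
    rw [show (⟨g⁻¹ * y * g⁻¹⁻¹, mem_C1.2 (K.le _ (K.nrm _ gi y hy))⟩ : C1 t) =
      (⟨g, H.gC⟩)⁻¹ * ⟨y, yC⟩ * ⟨g, H.gC⟩ from Subtype.ext (by simp), map_mul, map_mul, map_inv] at j2
    have j3 : pt t ⟨s, H.sC⟩ * pt t ⟨g, H.gC⟩ * pt t ⟨s, H.sC⟩ = (pt t ⟨g, H.gC⟩)⁻¹ := by
      rw [← map_mul, ← map_mul, ← map_inv]; exact congrArg _ (Subtype.ext H.sgs)
    have j4 : pt t ⟨s, H.sC⟩ * pt t ⟨s, H.sC⟩ = 1 := by
      rw [← map_mul, show (⟨s, H.sC⟩ : C1 t) * ⟨s, H.sC⟩ = 1 from Subtype.ext H.ss, map_one]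
    have j5 := H.sc
    have j6 : pt t ⟨y, yC⟩ ∈ QQ f := ⟨_, (mem_KK.1 hy).2, rfl⟩
    rw [← pt_eq_one H.tt ⟨y, yC⟩]
    refine (H.xq surj hk).fpf j5 _ j6 ?_
    generalize pt t ⟨y, yC⟩ = Y at *
    generalize pt t ⟨s, H.sC⟩ = S at *
    generalize pt t ⟨g, H.gC⟩ = X at *
    have j7 : S * X⁻¹ * S = X := by
      rw [← j3]; simp [mul_assoc, mul_sq_l j4, j4]
    have j8 : X * Y⁻¹ * X⁻¹ = X⁻¹ * Y⁻¹ * X := by
      calc X * Y⁻¹ * X⁻¹ = S * X⁻¹ * S * (S * Y * S) * (S * X * S) := by rw [j7, j1, j3]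
        _ = S * (X⁻¹ * Y * X) * S := by simp [mul_assoc, mul_sq_l j4]
        _ = _ := by rw [j2]; group
    have j9 : X * X * Y⁻¹ = Y⁻¹ * (X * X) := by
      calc X * X * Y⁻¹ = X * (X * Y⁻¹ * X⁻¹) * X := by group
        _ = _ := by rw [j8]; group
    rw [j5.mul_self, ← mul_inv_rev, ← mul_inv_rev, inv_inj] at j9
    exact j9.symm
  · obtain ⟨pC, p1⟩ := mem_KK.1 hp
    obtain ⟨qC, q1⟩ := mem_KK.1 hq
    have := ab16 H.sc (H.xq surj hk) c16 _ ⟨_, p1, rfl⟩ _ ⟨_, q1, rfl⟩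
    rw [← map_mul, ← map_mul, pt_eq H.tt] at this
    refine this.imp id fun b => b.trans ?_
    change q * p * t = _
    rw [K.le _ (mul_mem hq hp), mul_assoc]
  · exact ⟨fun a => ⟨k, a, rfl⟩, fun a => (mem_KK.1 a).2⟩
  · have x3' : x ^ 3 = 1 := by rw [pow_three', x3]
    by_cases q1 : q = 1
    · exact Or.inl q1
    · exact Or.inr (H.two_eq x3' x1 e (mem_C1.1 ‹x ∈ C1 t›).symm
        (sq_of_six pg hq (H.six x3' x1 e)) H.tt q1 H.t1 (K.le q hq))
  · apply H.sNt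
    rw [← H.wtw, ← b, mul_assoc, ew, mul_sq_l H.ww]
  · intro d
    have a := H.sylM.not_dvd_relIndex
    rw [relIndex_top_right] at a
    rw [← M.card_mul_index, H.card] at d
    exact a (Nat.dvd_of_mul_dvd_mul_left (k := 9) (by norm_num) d)
  · by_cases x1 : x = 1
    · exact Or.inl x1
    · have := H.six x3 x1 e.symm
      rw [pow_succ, y5, one_mul] at this
      exact Or.inr this

theorem caseS3 [IsSimpleGroup G] : Cfsg.Spor.IsoM11 G := by
  haveI := Fact.mk Nat.prime_two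
  have K := H.ks surj hk
  rcases H.R0 K with h0 | ⟨e, e2, e1, eK, es, ew, -, S, h0⟩
  · exact H.caseR1 surj hk h0
  exfalso
  have et := K.le e eK
  have c1 := H.card_QQ surj hk
  have c2 := H.k3Q surj hk
  have c3 := (H.xq surj hk).card_mod H.sc
  have eNt : e ≠ t := fun b => H.sNt (by rw [← H.wtw, ← b, mul_assoc, ew, mul_sq_l H.ww])
  have hc : ∀ y ∈ KK f, y * s = s * y → (y = 1 ∨ y = t) ∨ y = e ∨ y = e * t := fun y hy c => by
    rcases H.cs2 surj hk c (K.le y hy) with a | a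
    · rcases h0 y hy a with a | a <;> simp [a]
    · rcases h0 _ (mul_mem hy K.tK) a with a | a
      · rw [mul_eq_one_iff_eq_inv, H.ti] at a; simp [a]
      · rw [← eq_mul_inv_iff_mul_eq, H.ti] at a; simp [a]
  have het : IsConj e t := by
    obtain ⟨c, hc⟩ := H.inv_conj S.c3 S.c1
      (((Commute.symm S.xe).mul_right (Commute.symm S.ye)).pow_right 2).eq e2 e1
    exact (isConj_iff.2 ⟨c, hc⟩).symm
  have eC : e ∈ C1 t := mem_C1.2 et
  have eA : pt t ⟨e, eC⟩ ∈ QQ f ⊓ centralizer {1 * pt t ⟨s, H.sC⟩} :=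
    ⟨⟨_, (mem_KK.1 eK).2, rfl⟩, mem_cent1.2 (by
      rw [one_mul, ← map_mul, ← map_mul]; exact congrArg _ (Subtype.ext es))⟩
  have d1 := Subgroup.orderOf_dvd_natCard _ eA
  rw [orderOf_eq_prime (p := 2) (by
    rw [← map_pow, pt_eq_one H.tt]; left; simpa [pow_two] using e2)
    (fun b => ((pt_eq_one H.tt _).1 b).elim e1 eNt)] at d1
  have d2 := card_dvd_of_le (inf_le_left (a := QQ f) (b := centralizer {1 * pt t ⟨s, H.sC⟩}))
  have d3 : Nat.card (QQ f ⊓ centralizer {1 * pt t ⟨s, H.sC⟩} : Subgroup (C1 t ⧸ Zt t)) ≤ 4 := by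
    refine (Nat.card_coe_set_eq _).trans_le ?_
    rcases H.subA surj hk eC hc with a | ⟨k, -, a⟩
    · refine (Set.ncard_le_ncard a).trans ((Set.ncard_insert_le _ _).trans ?_)
      rw [Set.ncard_singleton]; omega
    · refine (Set.ncard_le_ncard a).trans ((Set.ncard_insert_le _ _).trans ?_)
      refine Nat.succ_le_succ ((Set.ncard_insert_le _ _).trans ?_)
      refine Nat.succ_le_succ ((Set.ncard_insert_le _ _).trans ?_)
      rw [Set.ncard_singleton]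
  have d4 : Nat.card (QQ f) = 4 ∨ Nat.card (QQ f) = 16 := by
    generalize Nat.card (QQ f ⊓ centralizer {1 * pt t ⟨s, H.sC⟩} : Subgroup (C1 t ⧸ Zt t)) = c at *
    interval_cases c <;> omega
  rcases d4 with d4 | d4
  · refine H.XS (by omega) e2 het et es ew (fun b => H.sK K ?_) (fun y a b => ?_) ?_
    · rw [H.es, ← b]; exact mul_mem eK K.tK
    · rcases H.cs1 surj hk a b with c | c
      · rcases hc y c a with (d | d) | d | d
        exacts [⟨1, by simp, Or.inl d⟩, ⟨t, by simp, Or.inl d⟩, ⟨1, by simp, Or.inr (by simp [d])⟩,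
          ⟨t, by simp, Or.inr d⟩]
      · have r : ∀ v, y * s = v → y = v * s := fun v hv => by rw [← hv, mul_assoc, H.ss, mul_one]
        rcases hc _ c (by rw [← mul_assoc, ← a]) with (d | d) | d | d
        exacts [⟨s, by simp, Or.inl (by rw [r _ d, one_mul])⟩,
          ⟨z, by simp, Or.inl (by rw [r _ d, H.ts])⟩, ⟨s, by simp, Or.inr (r _ d)⟩,
          ⟨z, by simp, Or.inr (by rw [r _ d, mul_assoc, H.ts])⟩]
    · refine (isConj_iff.2 ⟨w * (g * e * g⁻¹), ?_⟩).symm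
      have a := S.xs
      have b := S.xt
      have c := inv_of_sq S.x2
      generalize g * e * g⁻¹ = x at *
      rw [mul_inv_rev, c, H.wi, ← H.st]
      calc w * x * (s * t) * (x * w) = w * (x * s * (t * x)) * w := by group
        _ = w * (s * e) * w := by
          rw [← b, ← mul_assoc (x * s), a, mul_assoc (s * e), H.tt, mul_one]
        _ = _ := by rw [← cw H.ww, H.wsw, ← ew, mul_assoc e, H.ww, mul_one]
  · exact H.case32 surj hk d4 eK ew het h0 hc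

end Cf

end CfsgM11
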