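import Cfsg.Agent.H2.O8I
import Cfsg.Agent.H7.Loc1

set_option autoImplicit false
set_option maxRecDepth 100000
set_option linter.style.haveILetI false

/-! A Sylow 2-subgroup of `Ω⁺(8,2)` and its involutions. -/

namespace CfsgH6.O8E

open CfsgH3.TC CfsgH9 CfsgH8 Subgroup CfsgH5 CfsgFT CfsgH2.Fx CfsgH2.O8

theorem chain_le {G : Type*} [Group G] [Finite G] {M : Model G} {K L : Subgroup G} {m : ℕ} {t : NT}
    {lv : List (ℕ × NT)} (hK : M.Chain K ((m, t) :: lv)) (hL : M.Chain L lv) (hm : 0 < m)
    (ht : ∀ j, j < m → M.Mem K (t.get j)) : Nat.card K ≤ m * Nat.card L := by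
  choose! x hx ex using ht
  have : ∀ g : K, ∃ p : Fin m × L, g.1 = x p.1 * p.2 := fun g => by
    obtain ⟨h, -, e⟩ := hK.2 g g.2
    obtain ⟨v, hv, ev⟩ := hL.1 (h / m)
    rw [Model.elt_cons, ← ex _ (Nat.mod_lt h hm), ← ev, ← M.enc_mul] at e
    exact ⟨(⟨_, Nat.mod_lt h hm⟩, ⟨v, hv⟩), M.enc_inj e⟩
  choose f hf using this
  simpa using Nat.card_le_card_of_injective f fun a b e => Subtype.ext (by rw [hf, hf, e])

noncomputable def ec_s0 : NT := (.node (.node (.node (.leaf (nat_lit 0x1000000001000000001100000001000000001000000001000000001000000011)) (.leaf (nat_lit 0x100000010000000001000000001000000000100000010000000001000000001))) (.node (.leaf (nat_lit 0x1000000001000000001000000001000001001000100001000000001000000001)) (.leaf (nat_lit 0x1000000001000000001000000001000000001000000101000000001001000001)))) (.node (.node (.leaf (nat_lit 0x1100000001000000001000000001000000001000000011000000001000000001)) (.leaf (nat_lit 0x10000001000001000000001000001000000100000000000001000000001))) (.leaf (nat_lit 0x1000000001000000000100000010000000001000000001000000000100000010))))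


noncomputable def ec_t0 : NT := (.node (.node (.node (.node (.node (.leaf (nat_lit 0x1000000001000000001000000001000000001000000001000000001000000001)) (.leaf (nat_lit 0x100000000100001000000001000010000100010010000000001000000001))) (.node (.leaf (nat_lit 0x100000000100001000000001000010000000010000000000001000000001)) (.leaf (nat_lit 0x100000000100001100000010000010000100010010000000000100000011)))) (.node (.node (.leaf (nat_lit 0x1000000001000000001100000010000000001000000001000000000100000011)) (.leaf (nat_lit 0x110000000100000100000010000010000000110000000000000100000010))) (.leaf (nat_lit 0x1100000010000000000100000010000000000100000011000000000100000010)))) (.node (.node (.node (.leaf (nat_lit 0x100000010000000001000000001000000000100000010000000001000000001)) (.leaf (nat_lit 0x100000000100001100000010000010000000010000000000000100000011))) (.node (.leaf (nat_lit 0x100000010000000001100000010000000000100000010000000000100000011)) (.leaf (nat_lit 0x110000000100001100000010000010000100110011000000000100000011)))) (.node (.node (.leaf (nat_lit 0x10000001000000100000010000001000000100000000000000100000010))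 (.leaf (nat_lit 0x110000000100001000000001000010000100110011000000001000000001))) (.leaf (nat_lit 0x10000001000000100000010000001001000100001000000000100000010))))) (.node (.node (.node (.node (.leaf (nat_lit 0x1000000001000000000100000010000000001000000001000000000100000010)) (.leaf (nat_lit 0x1100000010000000001100000010000000000100000011000000000100000011))) (.node (.leaf (nat_lit 0x10000001000001000000001000001001000100001000000001000000001)) (.leaf (nat_lit 0x110000000100000100000010000010000100110011000000000100000010)))) (.node (.node (.leaf (nat_lit 0x100000010000000000100000010000000000100000010000000000100000010)) (.leaf (nat_lit 0x100000000100000100000010000010000100010010000000000100000010))) (.leaf (nat_lit 0x100000000100000100000010000010000000010000000000000100000010)))) (.node (.node (.node (.leaf (nat_lit 0x10000001000001000000001000001000000100000000000001000000001)) (.leaf (nat_lit 0x10000001000001100000010000001001000100001000000000100000011))) (.leaf (nat_lit 0x10000001000001100000010000001000000100000000000000100000011))) (.node (.node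 (.leaf (nat_lit 0x1100000010000000001000000001000000000100000011000000001000000001)) (.leaf (nat_lit 0x110000000100001100000010000010000000110000000000000100000011))) (.leaf (nat_lit 0x110000000100001000000001000010000000110000000000001000000001))))))


noncomputable def ec_P0 : NT := (.node (.node (.node (.node (.node (.leaf (nat_lit 0)) (.leaf (nat_lit 58))) (.node (.leaf (nat_lit 19)) (.leaf (nat_lit 128)))) (.node (.node (.leaf (nat_lit 7)) (.leaf (nat_lit 89))) (.leaf (nat_lit 36)))) (.node (.node (.node (.leaf (nat_lit 4)) (.leaf (nat_lit 75))) (.node (.leaf (nat_lit 32)) (.leaf (nat_lit 163)))) (.node (.node (.leaf (nat_lit 12)) (.leaf (nat_lit 107))) (.leaf (nat_lit 44))))) (.node (.node (.node (.node (.leaf (nat_lit 3)) (.leaf (nat_lit 71))) (.node (.leaf (nat_lit 23)) (.leaf (nat_lit 142)))) (.node (.node (.leaf (nat_lit 11)) (.leaf (nat_lit 93))) (.leaf (nat_lit 40)))) (.node (.node (.node (.leaf (nat_lit 5)) (.leaf (nat_lit 79))) (.leaf (nat_lit 33))) (.node (.node (.leaf (nat_lit 15)) (.leaf (nat_lit 124))) (.leaf (nat_lit 54))))))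


noncomputable def ec_H0 : NT := (.node (.node (.node (.node (.node (.node (.node (.node (.leaf (nat_lit 3456)) (.leaf (nat_lit 24))) (.leaf (nat_lit 36))) (.node (.node (.leaf (nat_lit 10)) (.leaf (nat_lit 6934))) (.leaf (nat_lit 5)))) (.node (.node (.node (.leaf (nat_lit 56)) (.leaf (nat_lit 47))) (.leaf (nat_lit 3467))) (.node (.node (.leaf (nat_lit 546)) (.leaf (nat_lit 21))) (.leaf (nat_lit 3472))))) (.node (.node (.node (.node (.leaf (nat_lit 28)) (.leaf (nat_lit 3475))) (.leaf (nat_lit 64))) (.node (.node (.leaf (nat_lit 13)) (.leaf (nat_lit 21))) (.leaf (nat_lit 554)))) (.node (.node (.node (.leaf (nat_lit 6)) (.leaf (nat_lit 75))) (.leaf (nat_lit 39))) (.node (.node (.leaf (nat_lit 3464)) (.leaf (nat_lit 23))) (.leaf (nat_lit 10)))))) (.node (.node (.node (.node (.node (.leaf (nat_lit 2)) (.leaf (nat_lit 99))) (.leaf (nat_lit 63))) (.node (.node (.leaf (nat_lit 12)) (.leaf (nat_lit 3479))) (.leaf (nat_lit 6)))) (.node (.node (.node (.leaf (nat_lit 8642)) (.leaf (nat_lit 25))) (.leaf (nat_lit 17))) (.node (.node (.leaf (nat_lit 12)) (.leaf (nat_lit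 79))) (.leaf (nat_lit 9))))) (.node (.node (.node (.node (.leaf (nat_lit 6)) (.leaf (nat_lit 23))) (.leaf (nat_lit 658))) (.node (.node (.leaf (nat_lit 14)) (.leaf (nat_lit 19))) (.leaf (nat_lit 20)))) (.node (.node (.node (.leaf (nat_lit 1)) (.leaf (nat_lit 15))) (.leaf (nat_lit 20))) (.node (.node (.leaf (nat_lit 3)) (.leaf (nat_lit 107))) (.leaf (nat_lit 23))))))) (.node (.node (.node (.node (.node (.node (.leaf (nat_lit 54)) (.leaf (nat_lit 11))) (.leaf (nat_lit 14))) (.node (.node (.leaf (nat_lit 1705)) (.leaf (nat_lit 18))) (.leaf (nat_lit 19)))) (.node (.node (.node (.leaf (nat_lit 0)) (.leaf (nat_lit 101))) (.leaf (nat_lit 4))) (.node (.node (.leaf (nat_lit 2)) (.leaf (nat_lit 22))) (.leaf (nat_lit 8))))) (.node (.node (.node (.node (.leaf (nat_lit 0)) (.leaf (nat_lit 73))) (.leaf (nat_lit 4))) (.node (.node (.leaf (nat_lit 11)) (.leaf (nat_lit 18))) (.leaf (nat_lit 8)))) (.node (.node (.node (.leaf (nat_lit 0)) (.leaf (nat_lit 3478))) (.leaf (nat_lit 660))) (.node (.node (.leaf (nat_lit 16)) (.leaf (nat_lit 53))) (.leaf (nat_lit 3473)))))) (.node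 (.node (.node (.node (.node (.leaf (nat_lit 5184)) (.leaf (nat_lit 46))) (.leaf (nat_lit 5))) (.node (.node (.leaf (nat_lit 2)) (.leaf (nat_lit 17))) (.leaf (nat_lit 21)))) (.node (.node (.node (.leaf (nat_lit 30)) (.leaf (nat_lit 16))) (.leaf (nat_lit 66))) (.node (.node (.leaf (nat_lit 15)) (.leaf (nat_lit 25))) (.leaf (nat_lit 6928))))) (.node (.node (.node (.node (.leaf (nat_lit 3458)) (.leaf (nat_lit 25))) (.leaf (nat_lit 38))) (.node (.node (.leaf (nat_lit 13)) (.leaf (nat_lit 105))) (.leaf (nat_lit 7)))) (.node (.node (.node (.leaf (nat_lit 58)) (.leaf (nat_lit 49))) (.leaf (nat_lit 8))) (.node (.leaf (nat_lit 6920)) (.leaf (nat_lit 13)))))))) (.node (.node (.node (.node (.node (.node (.node (.leaf (nat_lit 27)) (.leaf (nat_lit 3474))) (.leaf (nat_lit 3))) (.node (.node (.leaf (nat_lit 11)) (.leaf (nat_lit 20))) (.leaf (nat_lit 94)))) (.node (.node (.node (.leaf (nat_lit 5)) (.leaf (nat_lit 12))) (.leaf (nat_lit 18))) (.node (.node (.leaf (nat_lit 3463)) (.leaf (nat_lit 20))) (.leaf (nat_lit 22))))) (.node (.node (.node (.node (.leaf (nat_lit 55))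 (.leaf (nat_lit 24))) (.leaf (nat_lit 3466))) (.node (.node (.leaf (nat_lit 653)) (.leaf (nat_lit 26))) (.leaf (nat_lit 3471)))) (.node (.node (.node (.leaf (nat_lit 8)) (.leaf (nat_lit 102))) (.leaf (nat_lit 20))) (.node (.node (.leaf (nat_lit 15)) (.leaf (nat_lit 3482))) (.leaf (nat_lit 71)))))) (.node (.node (.node (.node (.node (.leaf (nat_lit 3)) (.leaf (nat_lit 14))) (.leaf (nat_lit 10377))) (.node (.node (.leaf (nat_lit 59)) (.leaf (nat_lit 50))) (.leaf (nat_lit 9)))) (.node (.node (.node (.leaf (nat_lit 3459)) (.leaf (nat_lit 13))) (.leaf (nat_lit 5))) (.node (.node (.leaf (nat_lit 34)) (.leaf (nat_lit 106))) (.leaf (nat_lit 70))))) (.node (.node (.node (.node (.leaf (nat_lit 1702)) (.leaf (nat_lit 13))) (.leaf (nat_lit 6))) (.node (.node (.leaf (nat_lit 3)) (.leaf (nat_lit 78))) (.leaf (nat_lit 42)))) (.node (.node (.node (.leaf (nat_lit 31)) (.leaf (nat_lit 25))) (.leaf (nat_lit 21))) (.node (.leaf (nat_lit 2)) (.leaf (nat_lit 665))))))) (.node (.node (.node (.node (.node (.node (.leaf (nat_lit 1)) (.leaf (nat_lit 10))) (.leaf (nat_lit 16))) (.node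 (.node (.leaf (nat_lit 10)) (.leaf (nat_lit 26))) (.leaf (nat_lit 41)))) (.node (.node (.node (.leaf (nat_lit 8)) (.leaf (nat_lit 24))) (.leaf (nat_lit 551))) (.node (.node (.leaf (nat_lit 61)) (.leaf (nat_lit 52))) (.leaf (nat_lit 21))))) (.node (.node (.node (.node (.leaf (nat_lit 5)) (.leaf (nat_lit 559))) (.leaf (nat_lit 18))) (.node (.node (.leaf (nat_lit 33)) (.leaf (nat_lit 3480))) (.leaf (nat_lit 22)))) (.node (.node (.node (.leaf (nat_lit 10371)) (.leaf (nat_lit 16))) (.leaf (nat_lit 18))) (.node (.node (.leaf (nat_lit 13)) (.leaf (nat_lit 80))) (.leaf (nat_lit 44)))))) (.node (.node (.node (.node (.node (.leaf (nat_lit 4)) (.leaf (nat_lit 11))) (.leaf (nat_lit 17))) (.node (.node (.leaf (nat_lit 1)) (.leaf (nat_lit 104))) (.leaf (nat_lit 68)))) (.node (.node (.node (.leaf (nat_lit 9)) (.leaf (nat_lit 14))) (.leaf (nat_lit 7))) (.node (.node (.leaf (nat_lit 8647)) (.leaf (nat_lit 24))) (.leaf (nat_lit 12))))) (.node (.node (.node (.node (.leaf (nat_lit 7)) (.leaf (nat_lit 15))) (.leaf (nat_lit 19))) (.node (.node (.leaf (nat_lit 1)) (.leaf (nat_lit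 26))) (.leaf (nat_lit 6927)))) (.node (.node (.node (.leaf (nat_lit 3460)) (.leaf (nat_lit 76))) (.leaf (nat_lit 6))) (.node (.leaf (nat_lit 3465)) (.leaf (nat_lit 23)))))))))


noncomputable def ec_s1 : NT := (.node (.node (.leaf (nat_lit 0x1000000001000000001100000001000000001000000001000000001000000011)) (.leaf (nat_lit 0x1000000001000000001000000001000001001000100001000000001000000001))) (.node (.leaf (nat_lit 0x1100000001000000001000000001000000001000000011000000001000000001)) (.leaf (nat_lit 0x1000000001100000001000000001000000001000000001000000011000000001))))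


noncomputable def ec_t1 : NT := (.node (.node (.node (.node (.node (.node (.leaf (nat_lit 0x1000000001000000001000000001000000001000000001000000001000000001)) (.leaf (nat_lit 0x1010000001000000001000000001000001001000101001000000101000000001))) (.node (.leaf (nat_lit 0x1000000001000000001000000001000001101000100001001000001000000001)) (.leaf (nat_lit 0x1110000001100000001000000001000000001000001011000110011000000001)))) (.node (.node (.leaf (nat_lit 0x1000000001100000001000000001000001101000100001000000011000000001)) (.leaf (nat_lit 0x1100000001100000001000000001000001101000111011000110111000000001))) (.node (.leaf (nat_lit 0x1000000001000000001000000001000000101000000001001000001000000001)) (.leaf (nat_lit 0x1110000001100000001000000001000001101000110011000110011000000001))))) (.node (.node (.node (.leaf (nat_lit 0x1100000001000000001000000001000001001000110011000000001000000001)) (.leaf (nat_lit 0x1100000001000000001000000001000000101000001011001000001000000001))) (.node (.leaf (nat_lit 0x1010000001000000001000000001000000001000000001000000101000000001))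 (.leaf (nat_lit 0x1000000001100000001000000001000001001000101001001110011000000001)))) (.node (.node (.leaf (nat_lit 0x1110000001100000001000000001000001001000110011001000011000000001)) (.leaf (nat_lit 0x1110000001000000001000000001000001101000110011001010101000000001))) (.node (.leaf (nat_lit 0x1010000001100000001000000001000000101000001001001100111000000001)) (.leaf (nat_lit 0x1000000001000000001000000001000001001000101001000100001000000001)))))) (.node (.node (.node (.node (.leaf (nat_lit 0x1000000001000000001000000001000001001000100001000000001000000001)) (.leaf (nat_lit 0x1110000001000000001000000001000000101000001011001010101000000001))) (.node (.leaf (nat_lit 0x1100000001100000001000000001000000101000000011001100111000000001)) (.leaf (nat_lit 0x1010000001100000001000000001000001101000100001000110111000000001)))) (.node (.node (.leaf (nat_lit 0x1010000001100000001000000001000000001000000001000000111000000001)) (.leaf (nat_lit 0x1010000001000000001000000001000000001000001001000100101000000001))) (.node (.leaf (nat_lit 0x1110000001000000001000000001000001001000111011000000101000000001))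 (.leaf (nat_lit 0x1100000001100000001000000001000001001000111011001010111000000001))))) (.node (.node (.node (.leaf (nat_lit 0x1000000001100000001000000001000001001000100001001000011000000001)) (.leaf (nat_lit 0x1110000001000000001000000001000000101000000011001110101000000001))) (.node (.leaf (nat_lit 0x1110000001100000001000000001000000101000001011001000011000000001)) (.leaf (nat_lit 0x1010000001100000001000000001000000001000001001000110111000000001)))) (.node (.node (.leaf (nat_lit 0x1110000001100000001000000001000001101000111011000000011000000001)) (.leaf (nat_lit 0x1010000001100000001000000001000001001000101001001010111000000001))) (.node (.leaf (nat_lit 0x1100000001000000001000000001000000101000000011001100001000000001)) (.leaf (nat_lit 0x1100000001000000001000000001000001001000111011000100001000000001))))))) (.node (.node (.node (.node (.node (.leaf (nat_lit 0x1100000001000000001000000001000000001000000011000000001000000001)) (.leaf (nat_lit 0x1000000001000000001000000001000001101000101001001100001000000001))) (.node (.leaf (nat_lit 0x1010000001100000001000000001000001001000100001001100111000000001))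 (.leaf (nat_lit 0x1100000001100000001000000001000000101000001011001010111000000001)))) (.node (.node (.leaf (nat_lit 0x1100000001100000001000000001000001001000110011001100111000000001)) (.leaf (nat_lit 0x1010000001000000001000000001000000101000001001001110101000000001))) (.node (.leaf (nat_lit 0x1110000001000000001000000001000001101000111011001110101000000001)) (.leaf (nat_lit 0x1010000001100000001000000001000000101000000001001010111000000001))))) (.node (.node (.node (.leaf (nat_lit 0x1100000001100000001000000001000000001000000011000000111000000001)) (.leaf (nat_lit 0x1010000001000000001000000001000001101000100001001110101000000001))) (.node (.leaf (nat_lit 0x1100000001000000001000000001000001101000110011001100001000000001)) (.leaf (nat_lit 0x1100000001100000001000000001000000001000001011000110111000000001)))) (.node (.node (.leaf (nat_lit 0x1000000001100000001000000001000000101000000001001000011000000001)) (.leaf (nat_lit 0x1010000001000000001000000001000000101000000001001010101000000001))) (.node (.leaf (nat_lit 0x1010000001000000001000000001000001001000100001000100101000000001))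 (.leaf (nat_lit 0x1100000001000000001000000001000000001000001011000100001000000001)))))) (.node (.node (.node (.node (.leaf (nat_lit 0x1000000001100000001000000001000000001000000001000000011000000001)) (.leaf (nat_lit 0x1110000001000000001000000001000000001000001011000100101000000001))) (.node (.leaf (nat_lit 0x1010000001100000001000000001000001101000101001000000111000000001)) (.leaf (nat_lit 0x1110000001100000001000000001000000101000000011001110011000000001)))) (.node (.node (.leaf (nat_lit 0x1100000001100000001000000001000001101000110011000000111000000001)) (.leaf (nat_lit 0x1000000001000000001000000001000000101000001001001100001000000001))) (.node (.leaf (nat_lit 0x1100000001000000001000000001000001101000111011001000001000000001)) (.leaf (nat_lit 0x1000000001100000001000000001000000001000001001000110011000000001))))) (.node (.node (.node (.leaf (nat_lit 0x1110000001100000001000000001000000001000000011000000011000000001)) (.leaf (nat_lit 0x1110000001100000001000000001000001001000111011001110011000000001))) (.node (.leaf (nat_lit 0x1110000001000000001000000001000001001000110011000100101000000001))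 (.leaf (nat_lit 0x1000000001100000001000000001000000101000001001001110011000000001)))) (.node (.node (.leaf (nat_lit 0x1110000001000000001000000001000000001000000011000000101000000001)) (.leaf (nat_lit 0x1000000001100000001000000001000001101000101001000110011000000001))) (.node (.leaf (nat_lit 0x1010000001000000001000000001000001101000101001001010101000000001)) (.leaf (nat_lit 0x1000000001000000001000000001000000001000001001000100001000000001))))))))


noncomputable def ec_P1 : NT := (.node (.node (.node (.node (.node (.node (.leaf (nat_lit 0)) (.leaf (nat_lit 82))) (.node (.leaf (nat_lit 35)) (.leaf (nat_lit 143)))) (.node (.node (.leaf (nat_lit 14)) (.leaf (nat_lit 111))) (.node (.leaf (nat_lit 55)) (.leaf (nat_lit 179))))) (.node (.node (.node (.leaf (nat_lit 6)) (.leaf (nat_lit 97))) (.node (.leaf (nat_lit 43)) (.leaf (nat_lit 157)))) (.node (.node (.leaf (nat_lit 25)) (.leaf (nat_lit 125))) (.node (.leaf (nat_lit 70)) (.leaf (nat_lit 211)))))) (.node (.node (.node (.node (.leaf (nat_lit 2)) (.leaf (nat_lit 91))) (.node (.leaf (nat_lit 38)) (.leaf (nat_lit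 151)))) (.node (.node (.leaf (nat_lit 21)) (.leaf (nat_lit 118))) (.node (.leaf (nat_lit 62)) (.leaf (nat_lit 185))))) (.node (.node (.node (.leaf (nat_lit 11)) (.leaf (nat_lit 102))) (.node (.leaf (nat_lit 50)) (.leaf (nat_lit 171)))) (.node (.node (.leaf (nat_lit 30)) (.leaf (nat_lit 131))) (.node (.leaf (nat_lit 75)) (.leaf (nat_lit 235))))))) (.node (.node (.node (.node (.node (.leaf (nat_lit 1)) (.leaf (nat_lit 85))) (.node (.leaf (nat_lit 37)) (.leaf (nat_lit 147)))) (.node (.node (.leaf (nat_lit 19)) (.leaf (nat_lit 115))) (.node (.leaf (nat_lit 59)) (.leaf (nat_lit 183))))) (.node (.node (.node (.leaf (nat_lit 7)) (.leaf (nat_lit 101))) (.node (.leaf (nat_lit 47)) (.leaf (nat_lit 162)))) (.node (.node (.leaf (nat_lit 26)) (.leaf (nat_lit 126))) (.node (.leaf (nat_lit 71)) (.leaf (nat_lit 215)))))) (.node (.node (.node (.node (.leaf (nat_lit 3)) (.leaf (nat_lit 94))) (.node (.leaf (nat_lit 42)) (.leaf (nat_lit 155)))) (.node (.node (.leaf (nat_lit 22)) (.leaf (nat_lit 121))) (.node (.leaf (nat_lit 65)) (.leaf (nat_lit 190))))) (.node (.node (.node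 (.leaf (nat_lit 13)) (.leaf (nat_lit 107))) (.node (.leaf (nat_lit 51)) (.leaf (nat_lit 175)))) (.node (.node (.leaf (nat_lit 31)) (.leaf (nat_lit 135))) (.node (.leaf (nat_lit 79)) (.leaf (nat_lit 239))))))))


noncomputable def ec_H1 : NT := (.node (.node (.node (.node (.node (.node (.node (.node (.leaf (nat_lit 128)) (.leaf (nat_lit 992))) (.node (.leaf (nat_lit 912)) (.leaf (nat_lit 2736)))) (.node (.node (.leaf (nat_lit 840)) (.leaf (nat_lit 3752))) (.node (.leaf (nat_lit 920)) (.leaf (nat_lit 2744))))) (.node (.node (.node (.leaf (nat_lit 132)) (.leaf (nat_lit 932))) (.node (.leaf (nat_lit 980)) (.leaf (nat_lit 3700)))) (.node (.node (.leaf (nat_lit 2252)) (.leaf (nat_lit 3052))) (.node (.leaf (nat_lit 3996)) (.leaf (nat_lit 828)))))) (.node (.node (.node (.node (.leaf (nat_lit 130)) (.leaf (nat_lit 3042))) (.node (.leaf (nat_lit 3986)) (.leaf (nat_lit 3762)))) (.node (.node (.leaf (nat_lit 2314)) (.leaf (nat_lit 2218))) (.node (.leaf (nat_lit 986)) (.leaf (nat_lit 3898))))) (.node (.node (.node (.leaf (nat_lit 2246)) (.leaf (nat_lit 3814))) (.node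 (.leaf (nat_lit 2262)) (.leaf (nat_lit 3766)))) (.node (.node (.leaf (nat_lit 846)) (.leaf (nat_lit 3886))) (.node (.leaf (nat_lit 2142)) (.leaf (nat_lit 830))))))) (.node (.node (.node (.node (.node (.leaf (nat_lit 129)) (.leaf (nat_lit 2145))) (.node (.leaf (nat_lit 3985)) (.leaf (nat_lit 3889)))) (.node (.node (.leaf (nat_lit 3977)) (.leaf (nat_lit 3817))) (.node (.leaf (nat_lit 3801)) (.leaf (nat_lit 3897))))) (.node (.node (.node (.leaf (nat_lit 2309)) (.leaf (nat_lit 3813))) (.node (.leaf (nat_lit 2133)) (.leaf (nat_lit 3765)))) (.node (.node (.leaf (nat_lit 2253)) (.leaf (nat_lit 3053))) (.node (.leaf (nat_lit 2205)) (.leaf (nat_lit 829)))))) (.node (.node (.node (.node (.leaf (nat_lit 835)) (.leaf (nat_lit 2211))) (.node (.leaf (nat_lit 2323)) (.leaf (nat_lit 3699)))) (.node (.node (.leaf (nat_lit 2315)) (.leaf (nat_lit 2155))) (.node (.leaf (nat_lit 923)) (.leaf (nat_lit 2747))))) (.node (.node (.node (.leaf (nat_lit 839)) (.leaf (nat_lit 3687))) (.node (.leaf (nat_lit 2199)) (.leaf (nat_lit 3703)))) (.node (.node (.leaf (nat_lit 975)) (.leaf (nat_lit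 2735))) (.node (.leaf (nat_lit 3039)) (.leaf (nat_lit 831)))))))) (.node (.node (.node (.node (.node (.node (.leaf (nat_lit 2)) (.leaf (nat_lit 20))) (.node (.leaf (nat_lit 24)) (.leaf (nat_lit 56)))) (.node (.node (.leaf (nat_lit 3)) (.leaf (nat_lit 53))) (.node (.leaf (nat_lit 16)) (.leaf (nat_lit 48))))) (.node (.node (.node (.leaf (nat_lit 1)) (.leaf (nat_lit 27))) (.node (.leaf (nat_lit 32)) (.leaf (nat_lit 55)))) (.node (.node (.leaf (nat_lit 22)) (.leaf (nat_lit 34))) (.node (.leaf (nat_lit 17)) (.leaf (nat_lit 63)))))) (.node (.node (.node (.node (.leaf (nat_lit 0)) (.leaf (nat_lit 44))) (.node (.leaf (nat_lit 9)) (.leaf (nat_lit 54)))) (.node (.node (.leaf (nat_lit 19)) (.leaf (nat_lit 29))) (.node (.leaf (nat_lit 15)) (.leaf (nat_lit 49))))) (.node (.node (.node (.leaf (nat_lit 13)) (.leaf (nat_lit 25))) (.node (.leaf (nat_lit 12)) (.leaf (nat_lit 50)))) (.node (.node (.leaf (nat_lit 7)) (.leaf (nat_lit 57))) (.node (.leaf (nat_lit 21)) (.leaf (nat_lit 61))))))) (.node (.node (.node (.node (.node (.leaf (nat_lit 4)) (.leaf (nat_lit 43))) (.node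 (.leaf (nat_lit 28)) (.leaf (nat_lit 58)))) (.node (.node (.leaf (nat_lit 18)) (.leaf (nat_lit 37))) (.node (.leaf (nat_lit 38)) (.leaf (nat_lit 46))))) (.node (.node (.node (.leaf (nat_lit 11)) (.leaf (nat_lit 41))) (.node (.leaf (nat_lit 30)) (.leaf (nat_lit 40)))) (.node (.node (.leaf (nat_lit 6)) (.leaf (nat_lit 31))) (.node (.leaf (nat_lit 42)) (.leaf (nat_lit 62)))))) (.node (.node (.node (.node (.leaf (nat_lit 8)) (.leaf (nat_lit 23))) (.node (.leaf (nat_lit 10)) (.leaf (nat_lit 39)))) (.node (.node (.leaf (nat_lit 5)) (.leaf (nat_lit 33))) (.node (.leaf (nat_lit 36)) (.leaf (nat_lit 47))))) (.node (.node (.node (.leaf (nat_lit 14)) (.leaf (nat_lit 51))) (.node (.leaf (nat_lit 35)) (.leaf (nat_lit 52)))) (.node (.node (.leaf (nat_lit 26)) (.leaf (nat_lit 59))) (.node (.leaf (nat_lit 45)) (.leaf (nat_lit 60))))))))) (.node (.node (.node (.node (.node (.node (.node (.leaf (nat_lit 1)) (.leaf (nat_lit 26))) (.node (.leaf (nat_lit 27)) (.leaf (nat_lit 59)))) (.node (.node (.leaf (nat_lit 14)) (.leaf (nat_lit 50))) (.node (.leaf (nat_lit 36)) (.leaf (nat_lit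 47))))) (.node (.node (.node (.leaf (nat_lit 2)) (.leaf (nat_lit 24))) (.node (.leaf (nat_lit 15)) (.leaf (nat_lit 39)))) (.node (.node (.leaf (nat_lit 6)) (.leaf (nat_lit 31))) (.node (.leaf (nat_lit 18)) (.leaf (nat_lit 62)))))) (.node (.node (.node (.node (.leaf (nat_lit 4)) (.leaf (nat_lit 45))) (.node (.leaf (nat_lit 28)) (.leaf (nat_lit 40)))) (.node (.node (.leaf (nat_lit 5)) (.leaf (nat_lit 35))) (.node (.leaf (nat_lit 32)) (.leaf (nat_lit 46))))) (.node (.node (.node (.leaf (nat_lit 12)) (.leaf (nat_lit 41))) (.node (.leaf (nat_lit 13)) (.leaf (nat_lit 53)))) (.node (.node (.leaf (nat_lit 8)) (.leaf (nat_lit 58))) (.node (.leaf (nat_lit 43)) (.leaf (nat_lit 60))))))) (.node (.node (.node (.node (.node (.leaf (nat_lit 0)) (.leaf (nat_lit 21))) (.node (.leaf (nat_lit 9)) (.leaf (nat_lit 57)))) (.node (.node (.leaf (nat_lit 17)) (.leaf (nat_lit 38))) (.node (.leaf (nat_lit 37)) (.leaf (nat_lit 49))))) (.node (.node (.node (.leaf (nat_lit 10)) (.leaf (nat_lit 25))) (.node (.leaf (nat_lit 33)) (.leaf (nat_lit 54)))) (.node (.node (.leaf (nat_lit 22))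 (.leaf (nat_lit 34))) (.node (.leaf (nat_lit 23)) (.leaf (nat_lit 63)))))) (.node (.node (.node (.node (.leaf (nat_lit 7)) (.leaf (nat_lit 42))) (.node (.leaf (nat_lit 11)) (.leaf (nat_lit 55)))) (.node (.node (.leaf (nat_lit 19)) (.leaf (nat_lit 30))) (.node (.leaf (nat_lit 16)) (.leaf (nat_lit 48))))) (.node (.node (.node (.leaf (nat_lit 3)) (.leaf (nat_lit 52))) (.node (.leaf (nat_lit 29)) (.leaf (nat_lit 51)))) (.node (.node (.leaf (nat_lit 20)) (.leaf (nat_lit 56))) (.node (.leaf (nat_lit 44)) (.leaf (nat_lit 61)))))))) (.node (.node (.node (.node (.node (.node (.leaf (nat_lit 3)) (.leaf (nat_lit 46))) (.node (.leaf (nat_lit 8)) (.leaf (nat_lit 35)))) (.node (.node (.leaf (nat_lit 16)) (.leaf (nat_lit 27))) (.node (.leaf (nat_lit 13)) (.leaf (nat_lit 44))))) (.node (.node (.node (.leaf (nat_lit 9)) (.leaf (nat_lit 49))) (.node (.leaf (nat_lit 10)) (.leaf (nat_lit 60)))) (.node (.node (.leaf (nat_lit 23)) (.leaf (nat_lit 56))) (.node (.leaf (nat_lit 41)) (.leaf (nat_lit 52)))))) (.node (.node (.node (.node (.leaf (nat_lit 6)) (.leaf (nat_lit 22))) (.node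 (.leaf (nat_lit 30)) (.leaf (nat_lit 37)))) (.node (.node (.leaf (nat_lit 20)) (.leaf (nat_lit 54))) (.node (.leaf (nat_lit 39)) (.leaf (nat_lit 62))))) (.node (.node (.node (.leaf (nat_lit 2)) (.leaf (nat_lit 51))) (.node (.leaf (nat_lit 34)) (.leaf (nat_lit 42)))) (.node (.node (.leaf (nat_lit 25)) (.leaf (nat_lit 32))) (.node (.leaf (nat_lit 18)) (.leaf (nat_lit 58))))))) (.node (.node (.node (.node (.node (.leaf (nat_lit 5)) (.leaf (nat_lit 47))) (.node (.leaf (nat_lit 29)) (.leaf (nat_lit 36)))) (.node (.node (.leaf (nat_lit 4)) (.leaf (nat_lit 28))) (.node (.leaf (nat_lit 14)) (.leaf (nat_lit 45))))) (.node (.node (.node (.leaf (nat_lit 1)) (.leaf (nat_lit 50))) (.node (.leaf (nat_lit 11)) (.leaf (nat_lit 61)))) (.node (.node (.leaf (nat_lit 24)) (.leaf (nat_lit 57))) (.node (.leaf (nat_lit 17)) (.leaf (nat_lit 53)))))) (.node (.node (.node (.node (.leaf (nat_lit 0)) (.leaf (nat_lit 48))) (.node (.leaf (nat_lit 31)) (.leaf (nat_lit 38)))) (.node (.node (.leaf (nat_lit 21)) (.leaf (nat_lit 55))) (.node (.leaf (nat_lit 40)) (.leaf (nat_lit 63))))) (.node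 (.node (.node (.leaf (nat_lit 15)) (.leaf (nat_lit 26))) (.node (.leaf (nat_lit 12)) (.leaf (nat_lit 43)))) (.node (.node (.leaf (nat_lit 7)) (.leaf (nat_lit 33))) (.node (.leaf (nat_lit 19)) (.leaf (nat_lit 59))))))))))


noncomputable def ec_s2 : NT := (.node (.node (.node (.leaf (nat_lit 0x1000000001000000001000000001000000001000000001000001001000100001)) (.leaf (nat_lit 0x1000000001000000001000000001000000011000000001000000001010000001))) (.leaf (nat_lit 0x1000000001000000001000000001000000001000000101000000001001000001))) (.node (.node (.leaf (nat_lit 0x1000000001000000001100000001000000001000000001000000001000000011)) (.leaf (nat_lit 0x1001000001000000001000000001000000001000000001000000001000001001))) (.leaf (nat_lit 0x1000000001010000001000000001000000001000000001000000001000000101))))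


noncomputable def ec_t2 : NT := (.node (.node (.node (.node (.node (.node (.leaf (nat_lit 0x1000000001000000001000000001000000001000000001000000001000000001)) (.leaf (nat_lit 0x1000000001010000001100000001000000001000000101000000001001010111))) (.node (.leaf (nat_lit 0x1000000001010000001000000001000000001000000101000000001001010101)) (.leaf (nat_lit 0x1000000001010000001000000001000000011000000101000001001011110101)))) (.node (.node (.leaf (nat_lit 0x1000000001000000001000000001000000001000000101000001001001100001)) (.leaf (nat_lit 0x1001000001000000001000000001000000011000000101000000001011011001))) (.node (.leaf (nat_lit 0x1000000001000000001100000001000000011000000001000001001010110011)) (.leaf (nat_lit 0x1001000001010000001000000001000000011000000101000000001011001101))))) (.node (.node (.node (.leaf (nat_lit 0x1000000001010000001000000001000000001000000001000000001000000101)) (.leaf (nat_lit 0x1001000001010000001100000001000000001000000001000000001000001111))) (.node (.leaf (nat_lit 0x1001000001010000001000000001000000001000000001000000001000001101))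 (.leaf (nat_lit 0x1000000001010000001100000001000000011000000101000000001011010111)))) (.node (.node (.leaf (nat_lit 0x1000000001000000001100000001000000001000000101000000001001000011)) (.leaf (nat_lit 0x1001000001000000001100000001000000001000000101000001001001111011))) (.node (.leaf (nat_lit 0x1001000001000000001000000001000000001000000101000001001001101001)) (.leaf (nat_lit 0x1001000001010000001100000001000000011000000001000001001010101111)))))) (.node (.node (.node (.node (.leaf (nat_lit 0x1000000001000000001100000001000000001000000001000000001000000011)) (.leaf (nat_lit 0x1001000001000000001100000001000000001000000101000000001001001011))) (.node (.leaf (nat_lit 0x1001000001000000001000000001000000001000000101000000001001001001)) (.leaf (nat_lit 0x1001000001000000001000000001000000011000000101000001001011111001)))) (.node (.node (.leaf (nat_lit 0x1000000001000000001000000001000000011000000001000001001010100001)) (.leaf (nat_lit 0x1000000001010000001100000001000000001000000101000001001001100111))) (.node (.leaf (nat_lit 0x1000000001010000001000000001000000001000000101000001001001110101))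 (.leaf (nat_lit 0x1001000001010000001100000001000000001000000101000001001001101111))))) (.node (.node (.node (.leaf (nat_lit 0x1001000001000000001000000001000000001000000001000000001000001001)) (.leaf (nat_lit 0x1000000001010000001000000001000000011000000101000000001011010101))) (.node (.leaf (nat_lit 0x1000000001000000001100000001000000001000000101000001001001110011)) (.leaf (nat_lit 0x1001000001000000001100000001000000011000000101000000001011011011)))) (.node (.node (.leaf (nat_lit 0x1000000001000000001100000001000000011000000001000000001010000011)) (.leaf (nat_lit 0x1001000001010000001100000001000000001000000001000001001000111111))) (.node (.leaf (nat_lit 0x1001000001010000001000000001000000001000000001000001001000101101)) (.leaf (nat_lit 0x1001000001010000001100000001000000011000000101000000001011001111))))))) (.node (.node (.node (.node (.node (.leaf (nat_lit 0x1000000001000000001000000001000000001000000001000001001000100001)) (.leaf (nat_lit 0x1000000001000000001100000001000000011000000101000000001011000011))) (.node (.leaf (nat_lit 0x1000000001000000001000000001000000011000000101000000001011000001))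 (.leaf (nat_lit 0x1001000001010000001000000001000000001000000101000001001001111101)))) (.node (.node (.leaf (nat_lit 0x1000000001010000001000000001000000001000000001000001001000100101)) (.leaf (nat_lit 0x1001000001010000001000000001000000011000000001000000001010011101))) (.node (.leaf (nat_lit 0x1001000001000000001100000001000000001000000001000001001000111011)) (.leaf (nat_lit 0x1000000001010000001100000001000000011000000101000001001011100111))))) (.node (.node (.node (.leaf (nat_lit 0x1000000001000000001000000001000000011000000001000000001010000001)) (.leaf (nat_lit 0x1001000001000000001100000001000000011000000001000000001010011011))) (.node (.leaf (nat_lit 0x1001000001000000001000000001000000011000000001000000001010011001)) (.leaf (nat_lit 0x1001000001010000001100000001000000001000000101000000001001011111)))) (.node (.node (.leaf (nat_lit 0x1000000001010000001100000001000000001000000001000000001000000111)) (.leaf (nat_lit 0x1000000001010000001100000001000000011000000001000001001010110111))) (.node (.leaf (nat_lit 0x1000000001010000001000000001000000011000000001000001001010100101))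 (.leaf (nat_lit 0x1001000001010000001000000001000000011000000101000001001011101101)))))) (.node (.node (.node (.node (.leaf (nat_lit 0x1000000001000000001000000001000000001000000101000000001001000001)) (.leaf (nat_lit 0x1000000001010000001100000001000000011000000001000000001010000111))) (.node (.leaf (nat_lit 0x1000000001010000001000000001000000011000000001000000001010000101)) (.leaf (nat_lit 0x1001000001010000001000000001000000011000000001000001001010111101)))) (.node (.node (.leaf (nat_lit 0x1001000001000000001000000001000000001000000001000001001000101001)) (.leaf (nat_lit 0x1000000001000000001100000001000000011000000101000001001011110011))) (.node (.leaf (nat_lit 0x1000000001000000001000000001000000011000000101000001001011100001)) (.leaf (nat_lit 0x1001000001000000001100000001000000011000000101000001001011101011))))) (.node (.node (.node (.leaf (nat_lit 0x1000000001000000001100000001000000001000000001000001001000110011)) (.leaf (nat_lit 0x1001000001010000001000000001000000001000000101000000001001011101))) (.node (.leaf (nat_lit 0x1000000001010000001100000001000000001000000001000001001000110111))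 (.leaf (nat_lit 0x1001000001010000001100000001000000011000000001000000001010011111)))) (.node (.node (.leaf (nat_lit 0x1001000001000000001100000001000000001000000001000000001000001011)) (.leaf (nat_lit 0x1001000001000000001100000001000000011000000001000001001010101011))) (.node (.leaf (nat_lit 0x1001000001000000001000000001000000011000000001000001001010111001)) (.leaf (nat_lit 0x1001000001010000001100000001000000011000000101000001001011111111))))))))


noncomputable def ec_P2 : NT := (.node (.node (.node (.node (.node (.node (.leaf (nat_lit 0)) (.leaf (nat_lit 75))) (.node (.leaf (nat_lit 21)) (.leaf (nat_lit 160)))) (.node (.node (.leaf (nat_lit 8)) (.leaf (nat_lit 107))) (.node (.leaf (nat_lit 46)) (.leaf (nat_lit 233))))) (.node (.node (.node (.leaf (nat_lit 3)) (.leaf (nat_lit 83))) (.node (.leaf (nat_lit 29)) (.leaf (nat_lit 196)))) (.node (.node (.leaf (nat_lit 14)) (.leaf (nat_lit 137))) (.node (.leaf (nat_lit 53)) (.leaf (nat_lit 275)))))) (.node (.node (.node (.node (.leaf (nat_lit 1)) (.leaf (nat_lit 77))) (.node (.leaf (nat_lit 23)) (.leaf (nat_lit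 167)))) (.node (.node (.leaf (nat_lit 10)) (.leaf (nat_lit 135))) (.node (.leaf (nat_lit 51)) (.leaf (nat_lit 257))))) (.node (.node (.node (.leaf (nat_lit 5)) (.leaf (nat_lit 100))) (.node (.leaf (nat_lit 44)) (.leaf (nat_lit 203)))) (.node (.node (.leaf (nat_lit 16)) (.leaf (nat_lit 143))) (.node (.leaf (nat_lit 59)) (.leaf (nat_lit 317))))))) (.node (.node (.node (.node (.node (.leaf (nat_lit 0)) (.leaf (nat_lit 76))) (.node (.leaf (nat_lit 22)) (.leaf (nat_lit 161)))) (.node (.node (.leaf (nat_lit 9)) (.leaf (nat_lit 119))) (.node (.leaf (nat_lit 47)) (.leaf (nat_lit 256))))) (.node (.node (.node (.leaf (nat_lit 4)) (.leaf (nat_lit 89))) (.node (.leaf (nat_lit 35)) (.leaf (nat_lit 197)))) (.node (.node (.leaf (nat_lit 15)) (.leaf (nat_lit 142))) (.node (.leaf (nat_lit 58)) (.leaf (nat_lit 293)))))) (.node (.node (.node (.node (.leaf (nat_lit 2)) (.leaf (nat_lit 82))) (.node (.leaf (nat_lit 28)) (.leaf (nat_lit 179)))) (.node (.node (.leaf (nat_lit 11)) (.leaf (nat_lit 136))) (.node (.leaf (nat_lit 52)) (.leaf (nat_lit 263))))) (.node (.node (.node (.leaf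 (nat_lit 7)) (.leaf (nat_lit 101))) (.node (.leaf (nat_lit 45)) (.leaf (nat_lit 215)))) (.node (.node (.leaf (nat_lit 17)) (.leaf (nat_lit 149))) (.node (.leaf (nat_lit 65)) (.leaf (nat_lit 347))))))))


noncomputable def ec_H2 : NT := (.node (.node (.node (.node (.node (.node (.node (.node (.node (.leaf (nat_lit 1)) (.leaf (nat_lit 57))) (.leaf (nat_lit 40))) (.node (.node (.leaf (nat_lit 1)) (.leaf (nat_lit 36))) (.leaf (nat_lit 42)))) (.node (.node (.node (.leaf (nat_lit 17)) (.leaf (nat_lit 38))) (.leaf (nat_lit 48))) (.node (.node (.leaf (nat_lit 26)) (.leaf (nat_lit 63))) (.leaf (nat_lit 54))))) (.node (.node (.node (.node (.leaf (nat_lit 14)) (.leaf (nat_lit 57))) (.leaf (nat_lit 14))) (.node (.node (.leaf (nat_lit 32)) (.leaf (nat_lit 61))) (.leaf (nat_lit 54)))) (.node (.node (.node (.leaf (nat_lit 3)) (.leaf (nat_lit 28))) (.leaf (nat_lit 48))) (.node (.node (.leaf (nat_lit 40)) (.leaf (nat_lit 51))) (.leaf (nat_lit 50)))))) (.node (.node (.node (.node (.node (.leaf (nat_lit 8)) (.leaf (nat_lit 34))) (.leaf (nat_lit 43))) (.node (.node (.leaf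 (nat_lit 22)) (.leaf (nat_lit 34))) (.leaf (nat_lit 14)))) (.node (.node (.node (.leaf (nat_lit 21)) (.leaf (nat_lit 30))) (.leaf (nat_lit 18))) (.node (.node (.leaf (nat_lit 5)) (.leaf (nat_lit 55))) (.leaf (nat_lit 16))))) (.node (.node (.node (.node (.leaf (nat_lit 9)) (.leaf (nat_lit 60))) (.leaf (nat_lit 44))) (.node (.node (.leaf (nat_lit 2)) (.leaf (nat_lit 45))) (.leaf (nat_lit 46)))) (.node (.node (.node (.leaf (nat_lit 26)) (.leaf (nat_lit 57))) (.leaf (nat_lit 51))) (.node (.node (.leaf (nat_lit 30)) (.leaf (nat_lit 53))) (.leaf (nat_lit 56))))))) (.node (.node (.node (.node (.node (.node (.leaf (nat_lit 5)) (.leaf (nat_lit 24))) (.leaf (nat_lit 12))) (.node (.node (.leaf (nat_lit 28)) (.leaf (nat_lit 59))) (.leaf (nat_lit 52)))) (.node (.node (.node (.leaf (nat_lit 11)) (.leaf (nat_lit 26))) (.leaf (nat_lit 10))) (.node (.node (.leaf (nat_lit 38)) (.leaf (nat_lit 47))) (.leaf (nat_lit 48))))) (.node (.node (.node (.node (.leaf (nat_lit 0)) (.leaf (nat_lit 36))) (.leaf (nat_lit 7))) (.node (.node (.leaf (nat_lit 24)) (.leaf (nat_lit 39))) (.leaf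 (nat_lit 52)))) (.node (.node (.node (.leaf (nat_lit 27)) (.leaf (nat_lit 61))) (.leaf (nat_lit 20))) (.node (.node (.leaf (nat_lit 38)) (.leaf (nat_lit 63))) (.leaf (nat_lit 18)))))) (.node (.node (.node (.node (.node (.leaf (nat_lit 7)) (.leaf (nat_lit 59))) (.leaf (nat_lit 42))) (.node (.node (.leaf (nat_lit 33)) (.leaf (nat_lit 62))) (.leaf (nat_lit 44)))) (.node (.node (.node (.leaf (nat_lit 22)) (.leaf (nat_lit 40))) (.leaf (nat_lit 50))) (.node (.node (.leaf (nat_lit 28)) (.leaf (nat_lit 46))) (.leaf (nat_lit 20))))) (.node (.node (.node (.node (.leaf (nat_lit 19)) (.leaf (nat_lit 59))) (.leaf (nat_lit 16))) (.node (.node (.leaf (nat_lit 34)) (.leaf (nat_lit 53))) (.leaf (nat_lit 55)))) (.node (.node (.node (.leaf (nat_lit 5)) (.leaf (nat_lit 32))) (.leaf (nat_lit 50))) (.node (.node (.leaf (nat_lit 41)) (.leaf (nat_lit 60))) (.leaf (nat_lit 32)))))))) (.node (.node (.node (.node (.node (.node (.node (.leaf (nat_lit 3)) (.leaf (nat_lit 33))) (.leaf (nat_lit 6))) (.node (.node (.leaf (nat_lit 6)) (.leaf (nat_lit 62))) (.leaf (nat_lit 13)))) (.node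 (.node (.node (.leaf (nat_lit 0)) (.leaf (nat_lit 29))) (.leaf (nat_lit 17))) (.node (.node (.leaf (nat_lit 4)) (.leaf (nat_lit 54))) (.leaf (nat_lit 15))))) (.node (.node (.node (.node (.leaf (nat_lit 8)) (.leaf (nat_lit 23))) (.leaf (nat_lit 43))) (.node (.node (.leaf (nat_lit 35)) (.leaf (nat_lit 41))) (.leaf (nat_lit 45)))) (.node (.node (.node (.leaf (nat_lit 1)) (.leaf (nat_lit 41))) (.leaf (nat_lit 9))) (.node (.node (.leaf (nat_lit 29)) (.leaf (nat_lit 49))) (.leaf (nat_lit 21)))))) (.node (.node (.node (.node (.node (.leaf (nat_lit 10)) (.leaf (nat_lit 25))) (.leaf (nat_lit 13))) (.node (.node (.leaf (nat_lit 2)) (.leaf (nat_lit 60))) (.leaf (nat_lit 12)))) (.node (.node (.node (.leaf (nat_lit 2)) (.leaf (nat_lit 61))) (.leaf (nat_lit 11))) (.node (.node (.leaf (nat_lit 3)) (.leaf (nat_lit 63))) (.leaf (nat_lit 49))))) (.node (.node (.node (.node (.leaf (nat_lit 16)) (.leaf (nat_lit 37))) (.leaf (nat_lit 47))) (.node (.node (.leaf (nat_lit 25)) (.leaf (nat_lit 42))) (.leaf (nat_lit 53)))) (.node (.node (.node (.leaf (nat_lit 29)) (.leaf (nat_lit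 35))) (.leaf (nat_lit 21))) (.node (.node (.leaf (nat_lit 39)) (.leaf (nat_lit 62))) (.leaf (nat_lit 20))))))) (.node (.node (.node (.node (.node (.node (.leaf (nat_lit 0)) (.leaf (nat_lit 22))) (.leaf (nat_lit 7))) (.node (.node (.leaf (nat_lit 31)) (.leaf (nat_lit 37))) (.leaf (nat_lit 43)))) (.node (.node (.node (.leaf (nat_lit 18)) (.leaf (nat_lit 39))) (.leaf (nat_lit 8))) (.node (.node (.leaf (nat_lit 27)) (.leaf (nat_lit 44))) (.leaf (nat_lit 19))))) (.node (.node (.node (.node (.leaf (nat_lit 17)) (.leaf (nat_lit 58))) (.leaf (nat_lit 15))) (.node (.node (.leaf (nat_lit 33)) (.leaf (nat_lit 52))) (.leaf (nat_lit 13)))) (.node (.node (.node (.leaf (nat_lit 4)) (.leaf (nat_lit 30))) (.leaf (nat_lit 49))) (.node (.node (.leaf (nat_lit 4)) (.leaf (nat_lit 55))) (.leaf (nat_lit 51)))))) (.node (.node (.node (.node (.node (.leaf (nat_lit 12)) (.leaf (nat_lit 35))) (.leaf (nat_lit 45))) (.node (.node (.leaf (nat_lit 23)) (.leaf (nat_lit 36))) (.leaf (nat_lit 15)))) (.node (.node (.node (.leaf (nat_lit 24)) (.leaf (nat_lit 31))) (.leaf (nat_lit 19))) (.node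 (.node (.leaf (nat_lit 6)) (.leaf (nat_lit 56))) (.leaf (nat_lit 56))))) (.node (.node (.node (.node (.leaf (nat_lit 10)) (.leaf (nat_lit 25))) (.leaf (nat_lit 9))) (.node (.node (.leaf (nat_lit 37)) (.leaf (nat_lit 46))) (.leaf (nat_lit 47)))) (.node (.node (.node (.leaf (nat_lit 27)) (.leaf (nat_lit 58))) (.leaf (nat_lit 11))) (.node (.node (.leaf (nat_lit 31)) (.leaf (nat_lit 58))) (.leaf (nat_lit 23))))))))) (.node (.node (.node (.node (.node (.node (.node (.node (.leaf (nat_lit 2)) (.leaf (nat_lit 58))) (.leaf (nat_lit 41))) (.node (.node (.leaf (nat_lit 31)) (.leaf (nat_lit 34))) (.leaf (nat_lit 16)))) (.node (.node (.node (.leaf (nat_lit 19)) (.leaf (nat_lit 57))) (.leaf (nat_lit 49))) (.node (.node (.leaf (nat_lit 32)) (.leaf (nat_lit 42))) (.leaf (nat_lit 55))))) (.node (.node (.node (.node (.leaf (nat_lit 15)) (.leaf (nat_lit 24))) (.leaf (nat_lit 10))) (.node (.node (.leaf (nat_lit 2)) (.leaf (nat_lit 62))) (.leaf (nat_lit 12)))) (.node (.node (.node (.leaf (nat_lit 22)) (.leaf (nat_lit 27))) (.leaf (nat_lit 10))) (.node (.node (.leaf (nat_lit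 3)) (.leaf (nat_lit 50))) (.leaf (nat_lit 54)))))) (.node (.node (.node (.node (.node (.leaf (nat_lit 9)) (.leaf (nat_lit 28))) (.leaf (nat_lit 44))) (.node (.node (.leaf (nat_lit 3)) (.leaf (nat_lit 33))) (.leaf (nat_lit 52)))) (.node (.node (.node (.leaf (nat_lit 0)) (.leaf (nat_lit 28))) (.leaf (nat_lit 44))) (.node (.node (.leaf (nat_lit 38)) (.leaf (nat_lit 51))) (.leaf (nat_lit 56))))) (.node (.node (.node (.node (.leaf (nat_lit 13)) (.leaf (nat_lit 23))) (.leaf (nat_lit 46))) (.node (.node (.leaf (nat_lit 37)) (.leaf (nat_lit 43))) (.leaf (nat_lit 20)))) (.node (.node (.node (.leaf (nat_lit 1)) (.leaf (nat_lit 38))) (.leaf (nat_lit 9))) (.node (.node (.leaf (nat_lit 36)) (.leaf (nat_lit 52))) (.leaf (nat_lit 21))))))) (.node (.node (.node (.node (.node (.node (.leaf (nat_lit 6)) (.leaf (nat_lit 57))) (.leaf (nat_lit 8))) (.node (.node (.leaf (nat_lit 30)) (.leaf (nat_lit 40))) (.leaf (nat_lit 53)))) (.node (.node (.node (.leaf (nat_lit 15)) (.leaf (nat_lit 61))) (.leaf (nat_lit 48))) (.node (.node (.leaf (nat_lit 39)) (.leaf (nat_lit 63))) (.leaf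 (nat_lit 52))))) (.node (.node (.node (.node (.leaf (nat_lit 16)) (.leaf (nat_lit 30))) (.leaf (nat_lit 47))) (.node (.node (.leaf (nat_lit 5)) (.leaf (nat_lit 38))) (.leaf (nat_lit 14)))) (.node (.node (.node (.leaf (nat_lit 28)) (.leaf (nat_lit 31))) (.leaf (nat_lit 46))) (.node (.node (.leaf (nat_lit 5)) (.leaf (nat_lit 56))) (.leaf (nat_lit 17)))))) (.node (.node (.node (.node (.node (.leaf (nat_lit 0)) (.leaf (nat_lit 22))) (.leaf (nat_lit 7))) (.node (.node (.leaf (nat_lit 34)) (.leaf (nat_lit 37))) (.leaf (nat_lit 18)))) (.node (.node (.node (.leaf (nat_lit 23)) (.leaf (nat_lit 59))) (.leaf (nat_lit 8))) (.node (.node (.leaf (nat_lit 34)) (.leaf (nat_lit 45))) (.leaf (nat_lit 18))))) (.node (.node (.node (.node (.leaf (nat_lit 20)) (.leaf (nat_lit 60))) (.leaf (nat_lit 42))) (.node (.node (.leaf (nat_lit 36)) (.leaf (nat_lit 49))) (.leaf (nat_lit 13)))) (.node (.node (.node (.leaf (nat_lit 24)) (.leaf (nat_lit 62))) (.leaf (nat_lit 51))) (.node (.node (.leaf (nat_lit 4)) (.leaf (nat_lit 59))) (.leaf (nat_lit 26)))))))) (.node (.node (.node (.node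 (.node (.node (.node (.leaf (nat_lit 4)) (.leaf (nat_lit 27))) (.leaf (nat_lit 5))) (.node (.node (.leaf (nat_lit 25)) (.leaf (nat_lit 32))) (.leaf (nat_lit 12)))) (.node (.node (.node (.leaf (nat_lit 21)) (.leaf (nat_lit 27))) (.leaf (nat_lit 43))) (.node (.node (.leaf (nat_lit 3)) (.leaf (nat_lit 50))) (.leaf (nat_lit 14))))) (.node (.node (.node (.node (.leaf (nat_lit 12)) (.leaf (nat_lit 60))) (.leaf (nat_lit 45))) (.node (.node (.leaf (nat_lit 36)) (.leaf (nat_lit 40))) (.leaf (nat_lit 19)))) (.node (.node (.node (.leaf (nat_lit 26)) (.leaf (nat_lit 60))) (.leaf (nat_lit 51))) (.node (.node (.leaf (nat_lit 35)) (.leaf (nat_lit 48))) (.leaf (nat_lit 56)))))) (.node (.node (.node (.node (.node (.leaf (nat_lit 11)) (.leaf (nat_lit 58))) (.leaf (nat_lit 9))) (.node (.node (.leaf (nat_lit 32)) (.leaf (nat_lit 41))) (.leaf (nat_lit 54)))) (.node (.node (.node (.leaf (nat_lit 1)) (.leaf (nat_lit 26))) (.leaf (nat_lit 49))) (.node (.node (.leaf (nat_lit 40)) (.leaf (nat_lit 47))) (.leaf (nat_lit 53))))) (.node (.node (.node (.node (.leaf (nat_lit 0)) (.leaf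 (nat_lit 31))) (.leaf (nat_lit 7))) (.node (.node (.leaf (nat_lit 6)) (.leaf (nat_lit 63))) (.leaf (nat_lit 15)))) (.node (.node (.node (.leaf (nat_lit 30)) (.leaf (nat_lit 33))) (.leaf (nat_lit 47))) (.node (.node (.leaf (nat_lit 6)) (.leaf (nat_lit 61))) (.leaf (nat_lit 19))))))) (.node (.node (.node (.node (.node (.node (.leaf (nat_lit 7)) (.leaf (nat_lit 59))) (.leaf (nat_lit 42))) (.node (.node (.leaf (nat_lit 1)) (.leaf (nat_lit 62))) (.leaf (nat_lit 17)))) (.node (.node (.node (.leaf (nat_lit 20)) (.leaf (nat_lit 58))) (.leaf (nat_lit 50))) (.node (.node (.leaf (nat_lit 33)) (.leaf (nat_lit 43))) (.leaf (nat_lit 17))))) (.node (.node (.node (.node (.leaf (nat_lit 18)) (.leaf (nat_lit 25))) (.leaf (nat_lit 11))) (.node (.node (.leaf (nat_lit 35)) (.leaf (nat_lit 48))) (.leaf (nat_lit 55)))) (.node (.node (.node (.leaf (nat_lit 23)) (.leaf (nat_lit 29))) (.leaf (nat_lit 11))) (.node (.node (.leaf (nat_lit 41)) (.leaf (nat_lit 54))) (.leaf (nat_lit 55)))))) (.node (.node (.node (.node (.node (.leaf (nat_lit 13)) (.leaf (nat_lit 29))) (.leaf (nat_lit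 46))) (.node (.node (.leaf (nat_lit 4)) (.leaf (nat_lit 35))) (.leaf (nat_lit 53)))) (.node (.node (.node (.leaf (nat_lit 25)) (.leaf (nat_lit 61))) (.leaf (nat_lit 45))) (.node (.node (.leaf (nat_lit 39)) (.leaf (nat_lit 63))) (.leaf (nat_lit 16))))) (.node (.node (.node (.node (.leaf (nat_lit 14)) (.leaf (nat_lit 24))) (.leaf (nat_lit 8))) (.node (.node (.leaf (nat_lit 2)) (.leaf (nat_lit 44))) (.leaf (nat_lit 21)))) (.node (.node (.node (.leaf (nat_lit 29)) (.leaf (nat_lit 39))) (.leaf (nat_lit 10))) (.node (.node (.leaf (nat_lit 37)) (.leaf (nat_lit 57))) (.leaf (nat_lit 22))))))))))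


noncomputable def ec_lv3 : List (ℕ × NT) := []

noncomputable def ec_lv2 : List (ℕ × NT) := (nat_lit 64, ec_t2) :: ec_lv3

noncomputable def ec_lv1 : List (ℕ × NT) := (nat_lit 64, ec_t1) :: ec_lv2

noncomputable def ec_lv0 : List (ℕ × NT) := (nat_lit 27, ec_t0) :: ec_lv1

theorem ec_valid0 : oM.Valid 7 ec_s0 := Model.valid_of_mem (K := ⊤) fun a ha => ⟨_, mem_top _, (enc_vH (a + 1) (by omega)).trans
    ((by decide +kernel : ∀ a < 7, cT.get (2 * (a + 1)) = ec_s0.get a) a ha)⟩

noncomputable def ec_W0 : NT := (.node (.node (.leaf (nat_lit 1)) (.leaf (nat_lit 3))) (.node (.leaf (nat_lit 2)) (.leaf (nat_lit 1241004))))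


theorem ec_sub0 : oM.subCheck 7 ec_s0 4 ec_s1 ec_W0 8 = true := by decide +kernel

theorem ec_mem0 : ∀ a, a < 4 → oM.Mem (oM.gen 7 ec_s0) (ec_s1.get a) :=
  Model.mem_of_subCheck (by norm_num) (fun _ ha => ec_valid0.mem_gen ha) ec_sub0

theorem ec_le0 : oM.gen 4 ec_s1 ≤ oM.gen 7 ec_s0 := Model.gen_le ec_mem0

theorem ec_valid1 : oM.Valid 4 ec_s1 := Model.valid_of_mem ec_mem0

noncomputable def ec_W1 : NT := (.node (.node (.node (.leaf (nat_lit 47439183944)) (.leaf (nat_lit 152744))) (.leaf (nat_lit 58540774864))) (.node (.node (.leaf (nat_lit 1)) (.leaf (nat_lit 149614))) (.leaf (nat_lit 234))))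


theorem ec_sub1 : oM.subCheck 4 ec_s1 6 ec_s2 ec_W1 17 = true := by decide +kernel

theorem ec_mem1 : ∀ a, a < 6 → oM.Mem (oM.gen 4 ec_s1) (ec_s2.get a) :=
  Model.mem_of_subCheck (by norm_num) (fun _ ha => ec_valid1.mem_gen ha) ec_sub1

theorem ec_le1 : oM.gen 6 ec_s2 ≤ oM.gen 4 ec_s1 := Model.gen_le ec_mem1

theorem ec_valid2 : oM.Valid 6 ec_s2 := Model.valid_of_mem ec_mem1

theorem ec_le2 : ⊥ ≤ oM.gen 6 ec_s2 := bot_le

theorem ec_chain3 : oM.Chain ⊥ ec_lv3 := oM.chain_bot

theorem ec_tree2 : allLt 64 (oM.treeF 6 ec_s2 ec_t2 ec_P2) = true := by decide +kernel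

theorem ec_sch2_0 : allR 0 200 (oM.schF 6 ec_s2 64 ec_t2 ec_lv3 ec_H2) = true := by decide +kernel

theorem ec_sch2_1 : allR 200 184 (oM.schF 6 ec_s2 64 ec_t2 ec_lv3 ec_H2) = true := by decide +kernel

theorem ec_sch2 : allLt (64 * 6) (oM.schF 6 ec_s2 64 ec_t2 ec_lv3 ec_H2) = true := by
  have h0 := ec_sch2_0
  have h1 : allR 0 384 (oM.schF 6 ec_s2 64 ec_t2 ec_lv3 ec_H2) = true := allR_append (lo := 0) (a := 200) (b := 184) h0 ec_sch2_1
  exact allLt_of_allR_zero h1

theorem ec_chain2 : oM.Chain (oM.gen 6 ec_s2) ec_lv2 :=
  Model.chain_cons (by norm_num) ec_valid2 ec_chain3 ec_le2 (by norm_num) ec_tree2 ec_sch2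

theorem ec_tmem2 : ∀ j, j < 64 → oM.Mem (oM.gen 6 ec_s2) (ec_t2.get j) :=
  Model.mem_of_treeF (by norm_num) (fun _ ha => ec_valid2.mem_gen ha) ec_tree2

theorem ec_tree1 : allLt 64 (oM.treeF 4 ec_s1 ec_t1 ec_P1) = true := by decide +kernel

theorem ec_sch1_0 : allR 0 200 (oM.schF 4 ec_s1 64 ec_t1 ec_lv2 ec_H1) = true := by decide +kernel

theorem ec_sch1_1 : allR 200 56 (oM.schF 4 ec_s1 64 ec_t1 ec_lv2 ec_H1) = true := by decide +kernel

theorem ec_sch1 : allLt (64 * 4) (oM.schF 4 ec_s1 64 ec_t1 ec_lv2 ec_H1) = true := by
  have h0 := ec_sch1_0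
  have h1 : allR 0 256 (oM.schF 4 ec_s1 64 ec_t1 ec_lv2 ec_H1) = true := allR_append (lo := 0) (a := 200) (b := 56) h0 ec_sch1_1
  exact allLt_of_allR_zero h1

theorem ec_chain1 : oM.Chain (oM.gen 4 ec_s1) ec_lv1 :=
  Model.chain_cons (by norm_num) ec_valid1 ec_chain2 ec_le1 (by norm_num) ec_tree1 ec_sch1

theorem ec_tmem1 : ∀ j, j < 64 → oM.Mem (oM.gen 4 ec_s1) (ec_t1.get j) :=
  Model.mem_of_treeF (by norm_num) (fun _ ha => ec_valid1.mem_gen ha) ec_tree1

theorem ec_tree0 : allLt 27 (oM.treeF 7 ec_s0 ec_t0 ec_P0) = true := by decide +kernel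

theorem ec_sch0 : allLt (27 * 7) (oM.schF 7 ec_s0 27 ec_t0 ec_lv1 ec_H0) = true := by decide +kernel

theorem ec_chain0 : oM.Chain (oM.gen 7 ec_s0) ec_lv0 :=
  Model.chain_cons (by norm_num) ec_valid0 ec_chain1 ec_le0 (by norm_num) ec_tree0 ec_sch0

theorem ec_tmem0 : ∀ j, j < 27 → oM.Mem (oM.gen 7 ec_s0) (ec_t0.get j) :=
  Model.mem_of_treeF (by norm_num) (fun _ ha => ec_valid0.mem_gen ha) ec_tree0

/-- a Sylow 2-subgroup -/
noncomputable def T0 : Subgroup Om := oM.gen 4 ec_s1

/-- an elementary abelian subgroup of order 64 -/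
noncomputable def V1 : Subgroup Om := oM.gen 6 ec_s2

theorem card_TV : Nat.card T0 = 4096 ∧ 64 ≤ Nat.card V1 := by
  have h0 : Gen 7 vH ≤ oM.gen 7 ec_s0 := Gen_le fun a h1 h2 => subset_closure ⟨a - 1, by omega, by
    rw [enc_vH a (by omega)]
    interval_cases a <;> decide +kernel⟩
  have h1 := card_le_of_le h0
  have h2 := chain_le ec_chain0 ec_chain1 (by norm_num) ec_tmem0
  have h3 := chain_le ec_chain1 ec_chain2 (by norm_num) ec_tmem1
  have h4 : Nat.card (oM.gen 4 ec_s1) ≤ 4096 := ec_chain1.finite_card_le.2
  rw [card_gen7] at h1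
  change _ ≤ 27 * _ at h2
  change _ ≤ 64 * _ at h3
  unfold T0 V1
  omega

theorem syl_T0 : SylIn 2 T0 ⊤ := by
  haveI : Fact (Nat.Prime 2) := ⟨Nat.prime_two⟩
  obtain ⟨S, hS⟩ := exists_sylIn 2 (⊤ : Subgroup Om)
  refine hS.of_card_le le_top (isPGroup_of_card_eq (k := 12) card_TV.1) ?_
  obtain ⟨k, hk⟩ := IsPGroup.iff_card.1 hS.isPGroup
  have h1 := card_subgroup_dvd_card S
  rw [om_facts.2.2, hk] at h1
  rw [hk, card_TV.1]
  by_contra hc
  have h2 : 13 ≤ k := by
    by_contra h3
    exact hc (Nat.pow_le_pow_right (by norm_num) (show k ≤ 12 by omega))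
  exact absurd ((pow_dvd_pow 2 h2).trans h1) (by norm_num)

/-- the codes commute -/
noncomputable def cmc (a b : ℕ) : Bool := Nat.beq (oM.mul a b) (oM.mul b a)

theorem cmc_iff {a b : Om} : cmc (oM.enc a) (oM.enc b) = true ↔ a * b = b * a := by
  rw [cmc, ← oM.enc_mul, ← oM.enc_mul]
  exact ⟨fun h => oM.enc_inj (Nat.eq_of_beq_eq_true h), fun h => h ▸ Nat.beq_refl _⟩

theorem beq_iff {a b : Om} : Nat.beq (oM.enc a) (oM.enc b) = true ↔ a = b :=
  ⟨fun h => oM.enc_inj (Nat.eq_of_beq_eq_true h), fun h => h ▸ Nat.beq_refl _⟩

noncomputable def jT : NT := (.node (.node (.node (.node (.node (.node (.node (.node (.leaf (nat_lit 0x1100000010000000001100000010000000000100000011000000000100000011)) (.leaf (nat_lit 0x1000000000000011001101000000010000001000000101000000001001000001))) (.node (.leaf (nat_lit 0x1000000001010000011100000100000000001000000000110000001000000101)) (.leaf (nat_lit 0x101011101001011111111001100110000000011110000110000001001000001)))) (.node (.node (.leaf (nat_lit 0x1001000001000000001000001000000001000001100101000000001000001001)) (.leaf (nat_lit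 0x110011001001010110011000001000000000010110000100100001000000001))) (.leaf (nat_lit 0x1001000001010000001000001000000000000101000001000000001000001101)))) (.node (.node (.node (.leaf (nat_lit 0x111001100110000001100001000010000110000001001010101000000001)) (.leaf (nat_lit 0x1011010000001001001000000010010000001000001101000100001001000001))) (.node (.leaf (nat_lit 0x10000111000001000000001000001011000100001001000011010000001)) (.leaf (nat_lit 0x1011001101110011101111011011111000111011000001000010000100010010)))) (.node (.node (.leaf (nat_lit 0x1000000001010000001000000100000000001000000000010000001000000101)) (.leaf (nat_lit 0x1000000001000000100000011000001000111011000001000001001000100001))) (.leaf (nat_lit 0x1000000000000010100001000001000001001010001001000100001000000001))))) (.node (.node (.node (.node (.leaf (nat_lit 0x101001000000000000100001000010000010000001001010101000000001)) (.leaf (nat_lit 0x1011010000001010000101000001000000001000001101000100001001000001))) (.node (.leaf (nat_lit 0x1111000010110000001000000001000000000100000011000000101000001001))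 (.leaf (nat_lit 0x1000000011110011000001011000011000101101000001000001001000100001)))) (.node (.node (.leaf (nat_lit 0x100001101000000011110000100100000011000110101110000001011000001)) (.leaf (nat_lit 0x111000001001000001100110010011001100001010000001010000001))) (.leaf (nat_lit 0x1110000010000000001000000001000000100100000011001110011000000001)))) (.node (.node (.node (.leaf (nat_lit 0x1011000001000000001100000010000000111000000001001001100100110011)) (.leaf (nat_lit 0x1000000001000000000000010100001000001000001001010001001000100001))) (.leaf (nat_lit 0x1001000001010000001100000010000000111000000001001001110100001111))) (.node (.node (.leaf (nat_lit 0x1001000000000010000001000000101000000001001000001000000001)) (.leaf (nat_lit 0x1101011100001011001111000000110000001000000101000000001001000001))) (.leaf (nat_lit 0x1000010001111000001000000001000001000000100000001000001010000001)))))) (.node (.node (.node (.node (.node (.leaf (nat_lit 0x10000001000000100000011000001001000100001000000001100000010)) (.leaf (nat_lit 0x1100000100000001001000000000110000001000000101000000001001000001)))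 (.node (.leaf (nat_lit 0x1101000010010000001000000001000000100100000011001101001000001001)) (.leaf (nat_lit 0x10010001001011100001001011010000000011100000000100001000000001)))) (.node (.node (.leaf (nat_lit 0x1001000001000000101100001000000001000011000101000000001001001001)) (.leaf (nat_lit 0x1010000101000000000000010000101000001000000001000001001000100001))) (.leaf (nat_lit 0x101000000001000000100100000011000100001010000001010000001)))) (.node (.node (.node (.leaf (nat_lit 0x1000000001100000010100000001000000001000000000100000011000000111)) (.leaf (nat_lit 0x1000000001000000000000011000001000101001000001000001001000100001))) (.leaf (nat_lit 0x1000000001110000010000000001000000001000000000100000011000000011))) (.node (.node (.leaf (nat_lit 0x10010000001000001000000001000001001000100001000100101000000001)) (.leaf (nat_lit 0x111011001001010110111000001000000000010110000100100001001000001))) (.leaf (nat_lit 0x10010000001000001000000001000001101000100001000110111000000001))))) (.node (.node (.node (.node (.leaf (nat_lit 0x1111000000010000110000000101000000000010000011110000101000001100))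 (.leaf (nat_lit 0x100001001000000010110000001000000111000101111101000001010000001))) (.node (.leaf (nat_lit 0x10010000011000001000000001000001011000100001000101101010000001)) (.leaf (nat_lit 0x111010101001001001000001110110000000001110000010100001001000001)))) (.node (.node (.leaf (nat_lit 0x1000000001000000001100000010000000111000000001001000000100000011)) (.leaf (nat_lit 0x1000000010000011101101001000010011011011000101000000001011000001))) (.leaf (nat_lit 0x1011000001000000110100000001000000000010000011100000101000001001)))) (.node (.node (.node (.leaf (nat_lit 0x1100000010000000001000000001000000100100000011001100001000000001)) (.leaf (nat_lit 0x1010001001001001000001000010000000001100000000000001001000001))) (.leaf (nat_lit 0x1001000001010000011100000100000000001000000010110000001000001101))) (.node (.node (.leaf (nat_lit 0x1000000001010000001100000010000000111000000001001000010100000111)) (.leaf (nat_lit 0x101010101001001001000001100110000000001110000010000001001000001))) (.leaf (nat_lit 0x1001000001000000001000001100000001000001100111010000001000001001)))))))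 (.node (.node (.node (.node (.node (.node (.leaf (nat_lit 0x110000000100001000000001000010000100110011000000001000000001)) (.leaf (nat_lit 0x1000000001010000001000001100000000001101000000010000001000000101))) (.node (.leaf (nat_lit 0x1001000001010000001000000100000000001000000010010000001000001101)) (.leaf (nat_lit 0x1000000001110011011101010111011000001000001101110010000100010010)))) (.node (.node (.leaf (nat_lit 0x1001000001000000001000001000000000000001100001000000001001001001)) (.leaf (nat_lit 0x1100001100000011001111000000110000001000000101000000001001000001))) (.leaf (nat_lit 0x1001000001000000001000001100000000000001000011010000001000001001)))) (.node (.node (.node (.leaf (nat_lit 0x101100000010000000110100001011000100000110000011110000001)) (.leaf (nat_lit 0x1100000100000001001000001100110001001001010101010000001001000001))) (.node (.leaf (nat_lit 0x10000001000001000000001000001101000100001000000011000000001)) (.leaf (nat_lit 0x1011001101110011110011011100111000111011001101110001001000100001)))) (.node (.node (.leaf (nat_lit 0x1110000010100000001000000001000000000100000011000000101000000001))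 (.leaf (nat_lit 0x1111010100001001001000000010110000001000001101000100001001000001))) (.leaf (nat_lit 0x10010000111000001000000001000001111000100001001111101010000001))))) (.node (.node (.node (.node (.leaf (nat_lit 0x1011000011100000111100000111000000000110000000110000110100001010)) (.leaf (nat_lit 0x1000000000000010100101000001000001001010001101000100001001000001))) (.node (.leaf (nat_lit 0x1010000001000000110000000001000000000010000011100000101000000001)) (.leaf (nat_lit 0x1010010101111011000001010000111000001000000001000001001000100001)))) (.node (.node (.leaf (nat_lit 0x10000001000001000000001000001001000100001000000001000000001)) (.leaf (nat_lit 0x1001001001010010000011010000001000001000000001000001001000100001))) (.leaf (nat_lit 0x1010010000001010000001000001000000001000001001000100001000000001)))) (.node (.node (.node (.leaf (nat_lit 0x11101011000001110000000100000011000000001000000001010000001)) (.leaf (nat_lit 0x1000000001010000111100001100000000001111000000110000001000000101))) (.leaf (nat_lit 0x10101011000001000000000100000011000000001000000001010000001)))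 (.node (.node (.leaf (nat_lit 0x1000000001110000001100000010000000111000000001001000010100000011)) (.leaf (nat_lit 0x1000000001010000111100001100000001011111100000110000001000000101))) (.leaf (nat_lit 0x1001000001000000101100001000000001000011100101000000001000001001)))))) (.node (.node (.node (.node (.node (.leaf (nat_lit 0x1010000001010000100000000100000000000010000000010000101000000101)) (.leaf (nat_lit 0x1000000001000000000000010000001000001000000001000001001000100001))) (.node (.leaf (nat_lit 0x1110000010100000001000000001000000100100000011001110101000000001)) (.leaf (nat_lit 0x1111000011111111001100110010011011100001110000001010000001)))) (.node (.node (.leaf (nat_lit 0x100001100000010110111000100100001011010101011110100001010000011)) (.leaf (nat_lit 0x111000001001000000000110000011000000001000000001010000001))) (.leaf (nat_lit 0x1111000010110000001000000001000000100100000011001111101000001001)))) (.node (.node (.node (.leaf (nat_lit 0x100001010000010001011000001000000000100001001001000000000000001)) (.leaf (nat_lit 0x1000000001010010000001010000001000001000000001000001001000100001)))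 (.leaf (nat_lit 0x1000000001100000001100000010000000111000000001001000000100000111))) (.node (.node (.leaf (nat_lit 0x10000101000001000000001000001001000100001001000011000000001)) (.leaf (nat_lit 0x1101011100011000011110000100100001000000010000110000001011000001))) (.leaf (nat_lit 0x10000011000001000000001000001111000100001000000011010000001))))) (.node (.node (.node (.node (.leaf (nat_lit 0x100100001000000010010100001000010101010110011000110100000000001)) (.leaf (nat_lit 0x1000011100011000011110000100100001000000000000110000001010000001))) (.node (.leaf (nat_lit 0x10010000101000001000000001000001101000100001001110101000000001)) (.leaf (nat_lit 0x1011001101110011000011010000111000001000000001000001001000100001)))) (.node (.node (.leaf (nat_lit 0x1001000001000000001100000010000000001000000001000000100100001011)) (.leaf (nat_lit 0x1000000011010010000001011000001000101101000001000001001000100001))) (.leaf (nat_lit 0x1000000000000010000101000001000000001000001101000100001001000001)))) (.node (.node (.node (.leaf (nat_lit 0x1001000001000000001000001000000000000001000001000000001000001001))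 (.leaf (nat_lit 0x101011101011000001110000000100000011000000101000000001011000001))) (.leaf (nat_lit 0x1001000001000000101100001000000000000011000001000000001000001001))) (.node (.node (.leaf (nat_lit 0x1001000001110000001100000010000000001000000001000000110100001011)) (.leaf (nat_lit 0x1000000001100001000000011110011000101001001001010011001100100001))) (.leaf (nat_lit 0x1000010100011000001000000100100001000000000000010000001010000001)))))))) (.node (.node (.node (.node (.node (.node (.node (.leaf (nat_lit 0x10000001000001100000010000001001000100001000000000100000011)) (.leaf (nat_lit 0x1101000000011110000100100000011000100001110000001010000001))) (.node (.leaf (nat_lit 0x1001000001010000001100000010000000001000000001000000110100001111)) (.leaf (nat_lit 0x1000000011010010100001011000001000111111000001000001001000100001)))) (.node (.node (.leaf (nat_lit 0x100001100000010000111000000100000011000001011000100001010000011)) (.leaf (nat_lit 0x1000000010000011001101000000010000011000000101000000001011000001))) (.leaf (nat_lit 0x100000101000000001000000000100000011000000101000000001011000001))))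 (.node (.node (.node (.leaf (nat_lit 0x11001101000011110000111000000111000000000111000010110000010)) (.leaf (nat_lit 0x1001010000001011001101000000010000001000000101000000001001000001))) (.node (.leaf (nat_lit 0x1001000000000110000001000000111000000001001000001010000001)) (.leaf (nat_lit 0x1000010110111010001001011110101000001101000000011110110100100001)))) (.node (.node (.leaf (nat_lit 0x1101000010010000001000000001000000000100000011000000001000001001)) (.leaf (nat_lit 0x1000000001110011000001010000011000001000000001000001001000100001))) (.leaf (nat_lit 0x10010000111000001000000001000001011000100001001101111010000001))))) (.node (.node (.node (.node (.leaf (nat_lit 0x1001010000010010000100000000111000000000111000001010000101)) (.leaf (nat_lit 0x1100001000000010000111000001000000001000001101000100001001000001))) (.node (.leaf (nat_lit 0x1011000001000000100100000001000000000010000001000000101000001001)) (.leaf (nat_lit 0x1011011101011010000011010000101000001000000001000001001000100001)))) (.node (.node (.leaf (nat_lit 0x1100000010000000001000000001000000000100000011000000001000000001))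 (.leaf (nat_lit 0x1010010000001011000001000011010000001000001001000100001000000001))) (.leaf (nat_lit 0x1010000001000000110000000001000001000010101011100000101000000001)))) (.node (.node (.node (.leaf (nat_lit 0x10000111000001000000001000001111000100001001000001010000001)) (.leaf (nat_lit 0x1000000000000011101101001000010001001011000101000000001001000001))) (.leaf (nat_lit 0x1001000001010000001000000100000001011000100110010000001000001101))) (.node (.node (.leaf (nat_lit 0x1000000001110000010100000001000000001000000000100000011000000101)) (.leaf (nat_lit 0x1010010101011010000001010000101000001000000001000001001000100001))) (.leaf (nat_lit 0x1001000001010000011100000100000001011000100110110000001000001101)))))) (.node (.node (.node (.node (.node (.leaf (nat_lit 0x100000001100001000000001000011001100010010000000001000000001)) (.leaf (nat_lit 0x1000000000000001001000001000010001001001000101000000001001000001))) (.node (.leaf (nat_lit 0x1100000010100000001000000001000000100100000011001100111000000001)) (.leaf (nat_lit 0x1110011100001011000011000011110000001000001001000100001000000001))))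 (.node (.node (.leaf (nat_lit 0x100000101000000001000000100100000011000110101010000001011000001)) (.leaf (nat_lit 0x1000000001010000001000001100000001011101100000010000001000000101))) (.leaf (nat_lit 0x1101000010110000001000000001000000100100000011001101111000001001)))) (.node (.node (.node (.leaf (nat_lit 0x10010001001010100001000001000000000010100000000100001000000001)) (.leaf (nat_lit 0x1000000010000001001000001000010011011001000101000000001011000001))) (.leaf (nat_lit 0x1001000001110000001100000010000000111000000001001001110100001011))) (.node (.node (.leaf (nat_lit 0x10000011000001000000001000001011000100001000000001010000001)) (.leaf (nat_lit 0x11010001001001001000001010010000000001100000000100001001000001))) (.leaf (nat_lit 0x100001001000000010010000001000000101000101011101000001000000001))))) (.node (.node (.node (.node (.leaf (nat_lit 0x1000010000000110000101000001101000100001011000001000000110)) (.leaf (nat_lit 0x1000000100000010100001000101100000010010001001010100001010000000))) (.node (.leaf (nat_lit 0x10010000101000001000000001000001001000100001001100111000000001))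 (.leaf (nat_lit 0x1010000101000000000000011110101000101001001001010011001100100001)))) (.node (.node (.leaf (nat_lit 0x1000000001110000001100000010000000001000000001000000010100000011)) (.leaf (nat_lit 0x1100001100000011111111001100110001001011010101110000001001000001))) (.leaf (nat_lit 0x100000011110000001000000001000000001100000010000000101000001001)))) (.node (.node (.node (.leaf (nat_lit 0x1100000010100000001000000001000000000100000011000000111000000001)) (.leaf (nat_lit 0x1001000001010000101100001000000001010111100101000000001000001101))) (.leaf (nat_lit 0x1010000001100000001100000010000000001000000001000000000100001111))) (.node (.node (.leaf (nat_lit 0x1000000001010000001000000100000001011000100000010000001000000101)) (.leaf (nat_lit 0x1010000101100001000000010110111000001000001001010011001100100001))) (.leaf (nat_lit 0x1001010000001001001000000000010000001000000101000000001001000001))))))) (.node (.node (.node (.node (.node (.node (.leaf (nat_lit 0x1100000010000000000100000011000000000100000011000000001100000010)) (.leaf (nat_lit 0x1000000010000001001000000000010000011000000101000000001011000001)))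 (.node (.leaf (nat_lit 0x101000000001000000000100000011000000001000000001010000001)) (.leaf (nat_lit 0x1010010111111010000001011010101000101101000001000011011100100001)))) (.node (.node (.leaf (nat_lit 0x100001101000000001110000000100000011000000101000000001011000001)) (.leaf (nat_lit 0x1101010100011000001000000100100001000000010000010000001011000001))) (.leaf (nat_lit 0x1000000000000001001000000000010000001000000101000000001001000001)))) (.node (.node (.node (.leaf (nat_lit 0x1101000001110000101100001111000000000011000010010000010100001110)) (.leaf (nat_lit 0x1111011000001010000111000001000000001000001101000100001001000001))) (.leaf (nat_lit 0x1001000000010010000001000000101000100001101000001000000001))) (.node (.node (.leaf (nat_lit 0x1010000001000000100000000001000000000010000001000000101000000001)) (.leaf (nat_lit 0x1010000101000000000000011010101000101001000001000011001100100001))) (.leaf (nat_lit 0x100001001000000000110000001000000111000001111001000001010000001))))) (.node (.node (.node (.node (.leaf (nat_lit 0x110100001101110000011100001000011001110110000101110101000000001))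 (.leaf (nat_lit 0x1100001000000010110011000001000001001010011001100100001000000001))) (.node (.leaf (nat_lit 0x1000000000000010000001000001000000001000001001000100001000000001)) (.leaf (nat_lit 0x1000000001110011100001011000011000111011000001000001001000100001)))) (.node (.node (.leaf (nat_lit 0x1000000001100000010000000001000000001000000000100000011000000001)) (.leaf (nat_lit 0x1111000011001111000000110000011000000001000000001010000001))) (.leaf (nat_lit 0x1111000010010000001000000001000000000100000011000000011000001001)))) (.node (.node (.node (.leaf (nat_lit 0x100000011110000001000000001000000101100000010000101101000101001)) (.leaf (nat_lit 0x1101010100001001001000000000110000001000000101000000001001000001))) (.leaf (nat_lit 0x1001000001100000001100000010000000001000000001000000100100001111))) (.node (.node (.leaf (nat_lit 0x1001000001000000001100000010000000111000000001001001100100001011)) (.leaf (nat_lit 0x1010001001011101101001000010000000011100000000000001001000001))) (.leaf (nat_lit 0x101010101011000001000000000100000011000000101000000001011000001))))))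 (.node (.node (.node (.node (.node (.leaf (nat_lit 0x11001111000000010000110000000101000000000011000011100000101)) (.leaf (nat_lit 0x1011000001000000110100000001000001000010101111100000101000001001))) (.node (.leaf (nat_lit 0x1101000010110000001000000001000000000100000011000000111000001001)) (.leaf (nat_lit 0x1010000101100001000000011010111000101001000001000011001100100001)))) (.node (.node (.leaf (nat_lit 0x1001000001000000111100001100000001000011100111110000001000001001)) (.leaf (nat_lit 0x1000000001100001000000010110011000001000001001010011001100100001))) (.leaf (nat_lit 0x1011000001000000100100000001000001000010101101000000101000001001)))) (.node (.node (.node (.leaf (nat_lit 0x1000000001100001000000011000011000101001000001000001001000100001)) (.leaf (nat_lit 0x11010001001010100101000001000000000010100000000100001001000001))) (.leaf (nat_lit 0x1000000001010000011100000100000001011000100000110000001000000101))) (.node (.node (.leaf (nat_lit 0x10000101000001000000001000001101000100001001000001000000001)) (.leaf (nat_lit 0x1010000101100001000000010000111000001000000001000001001000100001)))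 (.leaf (nat_lit 0x1001000000010110000001000000111000100001101000001010000001))))) (.node (.node (.node (.node (.leaf (nat_lit 0x1010000011110000100000000110000000000110000000010000111100000101)) (.leaf (nat_lit 0x1000000001100001000000010000011000001000000001000001001000100001))) (.node (.leaf (nat_lit 0x100001001000000000010000001000000101000001011001000001000000001)) (.leaf (nat_lit 0x110011101001011110011001111110000000011110000110100001000000001)))) (.node (.node (.leaf (nat_lit 0x1000000001010000001100000010000000001000000001000000010100000111)) (.leaf (nat_lit 0x1011001101000000000010010000101000001000000001000001001000100001))) (.leaf (nat_lit 0x1100001000000010000011000001000000001000001001000100001000000001)))) (.node (.node (.node (.leaf (nat_lit 0x1010000001000000100000000001000001000010101001000000101000000001)) (.leaf (nat_lit 0x1100001000000010110111000001000001001010011101100100001001000001))) (.leaf (nat_lit 0x1101000000001110000000100000011000000001000000001010000001))) (.node (.node (.leaf (nat_lit 0x1000000001100000001100000010000000001000000001000000000100000111))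 (.leaf (nat_lit 0x1010000101100001000000011100111000101001001001010001001000100001))) (.leaf (nat_lit 0x1001000001000000111100001100000000000011000011110000001000001001)))))))))

noncomputable def jW : NT := (.node (.node (.node (.node (.node (.node (.node (.node (.leaf (nat_lit 36056)) (.leaf (nat_lit 1465494434719))) (.node (.leaf (nat_lit 33517403)) (.leaf (nat_lit 14709559561920521984)))) (.node (.node (.leaf (nat_lit 4272853668)) (.leaf (nat_lit 208669286600175))) (.leaf (nat_lit 4278523344)))) (.node (.node (.node (.leaf (nat_lit 10387411486)) (.leaf (nat_lit 349857021479855))) (.node (.leaf (nat_lit 29750577)) (.leaf (nat_lit 6105322666732188733310)))) (.node (.node (.leaf (nat_lit 100817)) (.leaf (nat_lit 60117337351664012))) (.leaf (nat_lit 2719741342))))) (.node (.node (.node (.node (.leaf (nat_lit 32882831)) (.leaf (nat_lit 1584165060205))) (.node (.leaf (nat_lit 31633990)) (.leaf (nat_lit 89558889786566745421)))) (.node (.node (.leaf (nat_lit 144403289919182)) (.leaf (nat_lit 67571051341417383))) (.leaf (nat_lit 10291238188)))) (.node (.node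 (.node (.leaf (nat_lit 23859570)) (.leaf (nat_lit 704847261843928))) (.leaf (nat_lit 10293017272))) (.node (.node (.leaf (nat_lit 101501)) (.leaf (nat_lit 45591222028769588))) (.leaf (nat_lit 3018402760)))))) (.node (.node (.node (.node (.node (.leaf (nat_lit 4538954)) (.leaf (nat_lit 1425836201245))) (.node (.leaf (nat_lit 25650301)) (.leaf (nat_lit 15105888378242714054)))) (.node (.node (.leaf (nat_lit 1387130270172)) (.leaf (nat_lit 961920902160860))) (.leaf (nat_lit 2719630534)))) (.node (.node (.node (.leaf (nat_lit 81625)) (.leaf (nat_lit 1026189312240093))) (.leaf (nat_lit 24878713))) (.node (.node (.leaf (nat_lit 60670)) (.leaf (nat_lit 45401976890145488))) (.leaf (nat_lit 10325361238))))) (.node (.node (.node (.node (.leaf (nat_lit 3527822103893)) (.leaf (nat_lit 3545720037251))) (.node (.leaf (nat_lit 25656457)) (.leaf (nat_lit 21852528994720172487)))) (.node (.node (.leaf (nat_lit 65819)) (.leaf (nat_lit 46748086475746214))) (.leaf (nat_lit 10909127897)))) (.node (.node (.node (.leaf (nat_lit 60328)) (.leaf (nat_lit 283451315491858))) (.leaf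 (nat_lit 10909017089))) (.node (.node (.leaf (nat_lit 31417846)) (.leaf (nat_lit 67571018275866951))) (.leaf (nat_lit 671989237131))))))) (.node (.node (.node (.node (.node (.node (.leaf (nat_lit 42231)) (.leaf (nat_lit 672091291299))) (.node (.leaf (nat_lit 33622397)) (.leaf (nat_lit 17594723210807188910)))) (.node (.node (.leaf (nat_lit 1387062234060)) (.leaf (nat_lit 154201871780876))) (.leaf (nat_lit 2073398259)))) (.node (.node (.node (.leaf (nat_lit 1189177488023)) (.leaf (nat_lit 208552317342951))) (.node (.leaf (nat_lit 31850134)) (.leaf (nat_lit 4769487824669651963576)))) (.node (.node (.leaf (nat_lit 95326)) (.leaf (nat_lit 68766320983650897))) (.leaf (nat_lit 10257336754))))) (.node (.node (.node (.node (.leaf (nat_lit 583655974886)) (.leaf (nat_lit 881438518750))) (.node (.leaf (nat_lit 33628553)) (.leaf (nat_lit 89184076418984664379)))) (.node (.node (.leaf (nat_lit 130)) (.leaf (nat_lit 78626639454482793))) (.leaf (nat_lit 4883294617)))) (.node (.node (.node (.leaf (nat_lit 1584197083717)) (.leaf (nat_lit 140634463401848))) (.leaf (nat_lit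 4885073701))) (.node (.node (.leaf (nat_lit 25749139)) (.leaf (nat_lit 45565633680061016))) (.leaf (nat_lit 1385837793348)))))) (.node (.node (.node (.node (.node (.leaf (nat_lit 32771681)) (.leaf (nat_lit 3453508947311))) (.node (.leaf (nat_lit 31319008)) (.leaf (nat_lit 14709560157100429760)))) (.node (.node (.leaf (nat_lit 285619123322374)) (.leaf (nat_lit 219184742387649))) (.leaf (nat_lit 10257225946)))) (.node (.node (.node (.leaf (nat_lit 3063424730865)) (.leaf (nat_lit 897652492081627))) (.leaf (nat_lit 10259005030))) (.node (.node (.leaf (nat_lit 89835)) (.leaf (nat_lit 45401987265763376))) (.leaf (nat_lit 10331030914))))) (.node (.node (.node (.node (.leaf (nat_lit 3539490297443)) (.leaf (nat_lit 144401452944158))) (.node (.leaf (nat_lit 31325164)) (.leaf (nat_lit 14971029637732621616)))) (.node (.node (.leaf (nat_lit 83318)) (.leaf (nat_lit 289169950874046871))) (.leaf (nat_lit 4888964293)))) (.node (.node (.node (.leaf (nat_lit 13152120)) (.leaf (nat_lit 157063387631780))) (.leaf (nat_lit 4276633452))) (.node (.node (.leaf (nat_lit 27848696))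 (.leaf (nat_lit 31088004443762105776))) (.leaf (nat_lit 881368488094)))))))) (.node (.node (.node (.node (.node (.node (.node (.leaf (nat_lit 42212)) (.leaf (nat_lit 881436524206))) (.node (.leaf (nat_lit 31732828)) (.leaf (nat_lit 18698340348687760544)))) (.node (.node (.leaf (nat_lit 1585860166969)) (.leaf (nat_lit 154916332308416))) (.leaf (nat_lit 4890743377)))) (.node (.node (.node (.leaf (nat_lit 583691876678)) (.leaf (nat_lit 154914495333392))) (.node (.leaf (nat_lit 33529715)) (.leaf (nat_lit 23538267206342359237972)))) (.node (.node (.leaf (nat_lit 77827)) (.leaf (nat_lit 61274168733090206))) (.leaf (nat_lit 9645116721))))) (.node (.node (.node (.node (.leaf (nat_lit 10863576395)) (.leaf (nat_lit 1584879334729))) (.node (.leaf (nat_lit 33523559)) (.leaf (nat_lit 18677517383822089052)))) (.node (.node (.leaf (nat_lit 111)) (.leaf (nat_lit 47943356117979728))) (.leaf (nat_lit 10903458221)))) (.node (.node (.node (.leaf (nat_lit 31640146)) (.leaf (nat_lit 144283907263718))) (.leaf (nat_lit 10905237305))) (.node (.node (.leaf (nat_lit 17462)) (.leaf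 (nat_lit 288013119492620677))) (.leaf (nat_lit 3534730105625)))))) (.node (.node (.node (.node (.node (.leaf (nat_lit 6428865)) (.leaf (nat_lit 874838172514))) (.node (.leaf (nat_lit 27539870)) (.leaf (nat_lit 14731075010660633012)))) (.node (.node (.leaf (nat_lit 881470542262)) (.leaf (nat_lit 217761330484371))) (.leaf (nat_lit 9032785880)))) (.node (.node (.node (.leaf (nat_lit 881336464582)) (.leaf (nat_lit 283453152466882))) (.leaf (nat_lit 9034564964))) (.node (.node (.leaf (nat_lit 78169)) (.leaf (nat_lit 89589285849322066))) (.leaf (nat_lit 10937581271))))) (.node (.node (.node (.node (.leaf (nat_lit 3494798123903)) (.leaf (nat_lit 285464843792662))) (.node (.leaf (nat_lit 29435595)) (.leaf (nat_lit 25819794332747300019)))) (.node (.node (.leaf (nat_lit 77485)) (.leaf (nat_lit 45399871443515456))) (.leaf (nat_lit 2406071919)))) (.node (.node (.node (.leaf (nat_lit 83660)) (.leaf (nat_lit 153492920405138))) (.leaf (nat_lit 2405961111))) (.node (.node (.leaf (nat_lit 33307415)) (.leaf (nat_lit 24341363827284647343))) (.leaf (nat_lit 1465426398607)))))))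 (.node (.node (.node (.node (.node (.node (.leaf (nat_lit 4428146)) (.leaf (nat_lit 1465528452775))) (.node (.leaf (nat_lit 15041689)) (.leaf (nat_lit 93286200497521884349)))) (.node (.node (.leaf (nat_lit 1584877340185)) (.leaf (nat_lit 208669863023391))) (.leaf (nat_lit 4522278391)))) (.node (.node (.node (.leaf (nat_lit 149941368710624)) (.leaf (nat_lit 157062811208564))) (.leaf (nat_lit 33739703))) (.node (.node (.leaf (nat_lit 101159)) (.leaf (nat_lit 309992915739718040))) (.leaf (nat_lit 10869556787))))) (.node (.node (.node (.node (.leaf (nat_lit 782051277855)) (.leaf (nat_lit 881472536806))) (.node (.leaf (nat_lit 15047845)) (.leaf (nat_lit 15345843005314702658)))) (.node (.node (.leaf (nat_lit 322)) (.leaf (nat_lit 45591255094320020))) (.leaf (nat_lit 10296907864)))) (.node (.node (.node (.leaf (nat_lit 781034433015)) (.leaf (nat_lit 219182905412625))) (.leaf (nat_lit 10296797056))) (.node (.node (.leaf (nat_lit 27638708)) (.leaf (nat_lit 46748053410195782))) (.leaf (nat_lit 1584809304073)))))) (.node (.node (.node (.node (.node (.leaf (nat_lit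 10387405330)) (.leaf (nat_lit 3534698082113))) (.node (.leaf (nat_lit 27854852)) (.leaf (nat_lit 96305530403044203854)))) (.node (.node (.leaf (nat_lit 140632626426824)) (.leaf (nat_lit 227857887658459558))) (.leaf (nat_lit 10869445979)))) (.node (.node (.node (.leaf (nat_lit 102920098464432544)) (.leaf (nat_lit 144400876520942))) (.leaf (nat_lit 10871225063))) (.node (.node (.leaf (nat_lit 95668)) (.leaf (nat_lit 82097133598761375))) (.leaf (nat_lit 10943250947))))) (.node (.node (.node (.node (.leaf (nat_lit 10385410786)) (.leaf (nat_lit 1090457722319326))) (.node (.leaf (nat_lit 33214733)) (.leaf (nat_lit 4765168641382356168704)))) (.node (.node (.leaf (nat_lit 94984)) (.leaf (nat_lit 58960505970237818))) (.leaf (nat_lit 4890854185)))) (.node (.node (.node (.leaf (nat_lit 33208577)) (.leaf (nat_lit 144403325820974))) (.leaf (nat_lit 4888853485))) (.node (.node (.leaf (nat_lit 31627834)) (.leaf (nat_lit 22092483621792161091))) (.leaf (nat_lit 672057273243)))))))))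


/-- check of the elements of order three -/
noncomputable def jF (k : ℕ) : Bool :=
  frcA (jT.get k) fun c => band (Nat.beq (oM.mul c (oM.mul c c)) oM.one)
    (bimp (Nat.beq c oM.one) false)

theorem j_sub : oM.subCheck 17 cE 211 jT jW 19 = true := by decide +kernel

theorem j_chk : allLt 211 jF = true := by decide +kernel

theorem j_mem (k : ℕ) (hk : k < 211) : ∃ j : Om, oM.enc j = jT.get k ∧ j ≠ 1 ∧ j ^ 3 = 1 := by
  obtain ⟨j, -, e⟩ := Model.mem_of_subCheck (M := oM) (K := ⊤) (by norm_num)
    (fun a ha => ⟨_, mem_top _, enc_ext a ha⟩) j_sub k hk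
  have h := allLt_iff.1 j_chk k hk
  simp only [jF, frcA_eq', band_iff, bimp_iff, ← e, ← oM.enc_mul, ← oM.enc_one, beq_iff] at h
  exact ⟨j, e, fun e1 => by simpa using h.2 e1, by rw [← h.1]; simp [pow_succ, mul_assoc]⟩

noncomputable def iW : NT := (.node (.node (.node (.node (.node (.node (.node (.node (.node (.node (.node (.node (.leaf (nat_lit 0)) (.leaf (nat_lit 216))) (.node (.leaf (nat_lit 216)) (.leaf (nat_lit 213)))) (.node (.node (.leaf (nat_lit 640)) (.leaf (nat_lit 216))) (.node (.leaf (nat_lit 219)) (.leaf (nat_lit 219))))) (.node (.node (.node (.leaf (nat_lit 219)) (.leaf (nat_lit 225))) (.node (.leaf (nat_lit 222)) (.leaf (nat_lit 213)))) (.node (.node (.leaf (nat_lit 661)) (.leaf (nat_lit 430))) (.node (.leaf (nat_lit 440)) (.leaf (nat_lit 216)))))) (.node (.node (.node (.node (.leaf (nat_lit 635)) (.leaf (nat_lit 433))) (.node (.leaf (nat_lit 443)) (.leaf (nat_lit 216)))) (.node (.node (.leaf (nat_lit 232)) (.leaf (nat_lit 216))) (.node (.leaf (nat_lit 216)) (.leaf (nat_lit 213))))) (.node (.node (.node (.leaf (nat_lit 442)) (.leaf (nat_lit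 213))) (.node (.leaf (nat_lit 647)) (.leaf (nat_lit 216)))) (.node (.node (.leaf (nat_lit 222)) (.leaf (nat_lit 219))) (.node (.leaf (nat_lit 225)) (.leaf (nat_lit 238))))))) (.node (.node (.node (.node (.node (.leaf (nat_lit 0)) (.leaf (nat_lit 227))) (.node (.leaf (nat_lit 233)) (.leaf (nat_lit 213)))) (.node (.node (.leaf (nat_lit 242)) (.leaf (nat_lit 216))) (.node (.leaf (nat_lit 430)) (.leaf (nat_lit 213))))) (.node (.node (.node (.leaf (nat_lit 231)) (.leaf (nat_lit 213))) (.node (.leaf (nat_lit 213)) (.leaf (nat_lit 213)))) (.node (.node (.leaf (nat_lit 236)) (.leaf (nat_lit 219))) (.node (.leaf (nat_lit 222)) (.leaf (nat_lit 227)))))) (.node (.node (.node (.node (.leaf (nat_lit 639)) (.leaf (nat_lit 234))) (.node (.leaf (nat_lit 225)) (.leaf (nat_lit 216)))) (.node (.node (.leaf (nat_lit 444)) (.leaf (nat_lit 219))) (.node (.leaf (nat_lit 230)) (.leaf (nat_lit 216))))) (.node (.node (.node (.leaf (nat_lit 635)) (.leaf (nat_lit 213))) (.node (.leaf (nat_lit 222)) (.leaf (nat_lit 216)))) (.node (.node (.leaf (nat_lit 451)) (.leaf (nat_lit 213)))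 (.node (.leaf (nat_lit 213)) (.leaf (nat_lit 222)))))))) (.leaf (nat_lit 0))) (.node (.node (.node (.node (.node (.node (.node (.leaf (nat_lit 23)) (.leaf (nat_lit 70))) (.leaf (nat_lit 0))) (.leaf (nat_lit 3))) (.leaf (nat_lit 102))) (.node (.node (.leaf (nat_lit 0)) (.node (.node (.leaf (nat_lit 6)) (.leaf (nat_lit 7))) (.leaf (nat_lit 0)))) (.leaf (nat_lit 0)))) (.node (.node (.node (.node (.leaf (nat_lit 10)) (.leaf (nat_lit 0))) (.leaf (nat_lit 17))) (.node (.leaf (nat_lit 12)) (.node (.node (.leaf (nat_lit 7)) (.leaf (nat_lit 72))) (.leaf (nat_lit 0))))) (.node (.node (.node (.node (.leaf (nat_lit 3)) (.leaf (nat_lit 17))) (.leaf (nat_lit 0))) (.leaf (nat_lit 0))) (.leaf (nat_lit 50))))) (.leaf (nat_lit 0)))) (.node (.leaf (nat_lit 0)) (.node (.node (.node (.node (.node (.node (.leaf (nat_lit 6)) (.node (.leaf (nat_lit 51)) (.leaf (nat_lit 103)))) (.leaf (nat_lit 3))) (.leaf (nat_lit 1))) (.node (.node (.leaf (nat_lit 0)) (.node (.leaf (nat_lit 12)) (.leaf (nat_lit 31)))) (.leaf (nat_lit 73)))) (.node (.node (.node (.node (.leaf (nat_lit 19)) (.leaf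 (nat_lit 0))) (.leaf (nat_lit 1))) (.node (.leaf (nat_lit 10)) (.leaf (nat_lit 4)))) (.node (.node (.node (.leaf (nat_lit 3)) (.leaf (nat_lit 4))) (.leaf (nat_lit 0))) (.leaf (nat_lit 0))))) (.leaf (nat_lit 0))))) (.node (.node (.node (.node (.node (.node (.node (.leaf (nat_lit 641)) (.node (.node (.leaf (nat_lit 677)) (.leaf (nat_lit 219))) (.leaf (nat_lit 0)))) (.leaf (nat_lit 785))) (.node (.node (.node (.leaf (nat_lit 767)) (.leaf (nat_lit 256))) (.leaf (nat_lit 0))) (.node (.node (.leaf (nat_lit 0)) (.node (.leaf (nat_lit 828)) (.leaf (nat_lit 361)))) (.leaf (nat_lit 0))))) (.node (.node (.leaf (nat_lit 657)) (.node (.node (.leaf (nat_lit 381)) (.leaf (nat_lit 219))) (.leaf (nat_lit 0)))) (.node (.node (.leaf (nat_lit 641)) (.leaf (nat_lit 416))) (.node (.leaf (nat_lit 842)) (.node (.leaf (nat_lit 390)) (.leaf (nat_lit 269))))))) (.leaf (nat_lit 0))) (.node (.node (.node (.node (.node (.node (.leaf (nat_lit 7)) (.leaf (nat_lit 56))) (.leaf (nat_lit 4))) (.node (.node (.leaf (nat_lit 0)) (.leaf (nat_lit 3))) (.leaf (nat_lit 1)))) (.node (.node (.leaf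 (nat_lit 1)) (.leaf (nat_lit 79))) (.node (.leaf (nat_lit 9)) (.leaf (nat_lit 3))))) (.node (.node (.node (.node (.leaf (nat_lit 13)) (.leaf (nat_lit 115))) (.leaf (nat_lit 0))) (.leaf (nat_lit 0))) (.node (.node (.leaf (nat_lit 4)) (.leaf (nat_lit 18))) (.leaf (nat_lit 81))))) (.leaf (nat_lit 0)))) (.node (.node (.leaf (nat_lit 0)) (.node (.node (.node (.node (.leaf (nat_lit 11)) (.node (.node (.leaf (nat_lit 11)) (.leaf (nat_lit 11))) (.leaf (nat_lit 0)))) (.node (.node (.leaf (nat_lit 183)) (.leaf (nat_lit 202))) (.leaf (nat_lit 0)))) (.node (.node (.leaf (nat_lit 91)) (.leaf (nat_lit 189))) (.leaf (nat_lit 203)))) (.node (.node (.node (.leaf (nat_lit 65)) (.leaf (nat_lit 190))) (.node (.node (.leaf (nat_lit 0)) (.node (.leaf (nat_lit 93)) (.leaf (nat_lit 200)))) (.leaf (nat_lit 206)))) (.node (.node (.node (.node (.leaf (nat_lit 88)) (.leaf (nat_lit 23))) (.leaf (nat_lit 0))) (.leaf (nat_lit 0))) (.leaf (nat_lit 11)))))) (.node (.node (.node (.node (.node (.node (.leaf (nat_lit 37)) (.leaf (nat_lit 159))) (.leaf (nat_lit 40))) (.node (.leaf (nat_lit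 4)) (.leaf (nat_lit 0)))) (.node (.node (.leaf (nat_lit 0)) (.leaf (nat_lit 180))) (.leaf (nat_lit 4)))) (.node (.node (.node (.node (.leaf (nat_lit 38)) (.leaf (nat_lit 1))) (.leaf (nat_lit 0))) (.node (.leaf (nat_lit 139)) (.node (.leaf (nat_lit 0)) (.node (.leaf (nat_lit 3)) (.leaf (nat_lit 141)))))) (.node (.node (.leaf (nat_lit 3)) (.leaf (nat_lit 1))) (.leaf (nat_lit 160))))) (.node (.node (.node (.node (.leaf (nat_lit 10)) (.leaf (nat_lit 6))) (.leaf (nat_lit 69))) (.node (.node (.leaf (nat_lit 9)) (.leaf (nat_lit 0))) (.leaf (nat_lit 101)))) (.node (.node (.node (.node (.leaf (nat_lit 6)) (.leaf (nat_lit 3))) (.leaf (nat_lit 29))) (.node (.node (.node (.leaf (nat_lit 0)) (.leaf (nat_lit 71))) (.leaf (nat_lit 0))) (.leaf (nat_lit 0)))) (.node (.node (.leaf (nat_lit 15)) (.node (.leaf (nat_lit 0)) (.node (.leaf (nat_lit 3)) (.leaf (nat_lit 13))))) (.node (.leaf (nat_lit 0)) (.node (.node (.leaf (nat_lit 9)) (.leaf (nat_lit 13))) (.leaf (nat_lit 0))))))))))) (.node (.node (.node (.node (.node (.node (.node (.node (.leaf (nat_lit 633)) (.node (.leaf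 (nat_lit 645)) (.leaf (nat_lit 260)))) (.leaf (nat_lit 642))) (.node (.node (.leaf (nat_lit 642)) (.leaf (nat_lit 217))) (.node (.leaf (nat_lit 661)) (.leaf (nat_lit 224))))) (.node (.node (.node (.node (.node (.leaf (nat_lit 633)) (.leaf (nat_lit 224))) (.leaf (nat_lit 221))) (.leaf (nat_lit 0))) (.leaf (nat_lit 230))) (.node (.node (.leaf (nat_lit 657)) (.node (.leaf (nat_lit 279)) (.leaf (nat_lit 217)))) (.leaf (nat_lit 674))))) (.leaf (nat_lit 0))) (.leaf (nat_lit 0))) (.node (.node (.node (.node (.node (.node (.node (.leaf (nat_lit 22)) (.leaf (nat_lit 147))) (.node (.leaf (nat_lit 111)) (.leaf (nat_lit 1)))) (.node (.node (.leaf (nat_lit 3)) (.leaf (nat_lit 35))) (.leaf (nat_lit 0)))) (.node (.leaf (nat_lit 22)) (.node (.node (.node (.leaf (nat_lit 0)) (.leaf (nat_lit 137))) (.leaf (nat_lit 0))) (.leaf (nat_lit 39))))) (.node (.node (.node (.node (.leaf (nat_lit 33)) (.leaf (nat_lit 4))) (.leaf (nat_lit 3))) (.leaf (nat_lit 1))) (.node (.node (.leaf (nat_lit 0)) (.node (.leaf (nat_lit 0)) (.leaf (nat_lit 4)))) (.leaf (nat_lit 0))))) (.node (.node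 (.node (.node (.node (.leaf (nat_lit 9)) (.leaf (nat_lit 117))) (.node (.leaf (nat_lit 1)) (.leaf (nat_lit 3)))) (.leaf (nat_lit 7))) (.node (.leaf (nat_lit 13)) (.node (.node (.node (.leaf (nat_lit 4)) (.leaf (nat_lit 83))) (.leaf (nat_lit 0))) (.leaf (nat_lit 0))))) (.node (.node (.node (.leaf (nat_lit 17)) (.leaf (nat_lit 119))) (.node (.leaf (nat_lit 0)) (.node (.leaf (nat_lit 0)) (.node (.leaf (nat_lit 0)) (.leaf (nat_lit 3)))))) (.node (.node (.node (.leaf (nat_lit 1)) (.node (.leaf (nat_lit 0)) (.leaf (nat_lit 140)))) (.leaf (nat_lit 4))) (.leaf (nat_lit 0)))))) (.leaf (nat_lit 0)))) (.node (.node (.leaf (nat_lit 0)) (.node (.leaf (nat_lit 0)) (.node (.node (.node (.node (.node (.leaf (nat_lit 2)) (.leaf (nat_lit 158))) (.leaf (nat_lit 196))) (.leaf (nat_lit 0))) (.node (.node (.leaf (nat_lit 172)) (.leaf (nat_lit 35))) (.leaf (nat_lit 97)))) (.node (.node (.node (.node (.leaf (nat_lit 2)) (.node (.leaf (nat_lit 98)) (.leaf (nat_lit 2)))) (.leaf (nat_lit 39))) (.leaf (nat_lit 181))) (.node (.node (.node (.leaf (nat_lit 0)) (.node (.leaf (nat_lit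 149)) (.leaf (nat_lit 127)))) (.node (.leaf (nat_lit 123)) (.leaf (nat_lit 124)))) (.leaf (nat_lit 2))))))) (.node (.leaf (nat_lit 0)) (.node (.leaf (nat_lit 0)) (.node (.node (.node (.node (.leaf (nat_lit 14)) (.node (.node (.leaf (nat_lit 59)) (.leaf (nat_lit 62))) (.leaf (nat_lit 201)))) (.leaf (nat_lit 174))) (.node (.node (.node (.leaf (nat_lit 175)) (.leaf (nat_lit 14))) (.leaf (nat_lit 0))) (.leaf (nat_lit 148)))) (.node (.node (.node (.node (.node (.leaf (nat_lit 46)) (.leaf (nat_lit 176))) (.leaf (nat_lit 0))) (.leaf (nat_lit 193))) (.leaf (nat_lit 85))) (.node (.node (.leaf (nat_lit 14)) (.leaf (nat_lit 185))) (.node (.leaf (nat_lit 0)) (.node (.leaf (nat_lit 164)) (.leaf (nat_lit 14)))))))))))) (.node (.node (.node (.node (.node (.node (.node (.node (.node (.leaf (nat_lit 634)) (.leaf (nat_lit 646))) (.node (.leaf (nat_lit 0)) (.node (.node (.leaf (nat_lit 639)) (.leaf (nat_lit 498))) (.leaf (nat_lit 431))))) (.node (.node (.node (.node (.leaf (nat_lit 639)) (.leaf (nat_lit 434))) (.leaf (nat_lit 429))) (.leaf (nat_lit 0))) (.node (.node (.leaf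 (nat_lit 440)) (.leaf (nat_lit 685))) (.leaf (nat_lit 0))))) (.node (.node (.node (.leaf (nat_lit 634)) (.leaf (nat_lit 475))) (.leaf (nat_lit 0))) (.node (.node (.leaf (nat_lit 657)) (.leaf (nat_lit 429))) (.node (.leaf (nat_lit 675)) (.leaf (nat_lit 434)))))) (.node (.node (.node (.node (.leaf (nat_lit 19)) (.leaf (nat_lit 0))) (.node (.leaf (nat_lit 7)) (.leaf (nat_lit 17)))) (.node (.node (.leaf (nat_lit 0)) (.node (.leaf (nat_lit 3)) (.leaf (nat_lit 7)))) (.node (.leaf (nat_lit 0)) (.node (.leaf (nat_lit 27)) (.leaf (nat_lit 17)))))) (.node (.node (.node (.node (.leaf (nat_lit 6)) (.leaf (nat_lit 27))) (.leaf (nat_lit 0))) (.node (.node (.leaf (nat_lit 3)) (.leaf (nat_lit 104))) (.leaf (nat_lit 0)))) (.node (.node (.leaf (nat_lit 0)) (.leaf (nat_lit 10))) (.node (.leaf (nat_lit 107)) (.leaf (nat_lit 109))))))) (.leaf (nat_lit 0))) (.node (.node (.leaf (nat_lit 0)) (.node (.node (.node (.node (.node (.leaf (nat_lit 5)) (.leaf (nat_lit 162))) (.node (.node (.leaf (nat_lit 89)) (.leaf (nat_lit 5))) (.leaf (nat_lit 0)))) (.leaf (nat_lit 132))) (.node (.leaf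 (nat_lit 5)) (.node (.leaf (nat_lit 184)) (.leaf (nat_lit 155))))) (.node (.node (.node (.node (.leaf (nat_lit 5)) (.leaf (nat_lit 153))) (.leaf (nat_lit 0))) (.node (.leaf (nat_lit 121)) (.leaf (nat_lit 156)))) (.node (.node (.node (.leaf (nat_lit 66)) (.leaf (nat_lit 133))) (.leaf (nat_lit 0))) (.node (.leaf (nat_lit 187)) (.leaf (nat_lit 92))))))) (.node (.node (.node (.node (.node (.node (.node (.leaf (nat_lit 16)) (.leaf (nat_lit 208))) (.leaf (nat_lit 0))) (.node (.node (.leaf (nat_lit 16)) (.leaf (nat_lit 63))) (.leaf (nat_lit 0)))) (.leaf (nat_lit 199))) (.node (.node (.leaf (nat_lit 16)) (.leaf (nat_lit 167))) (.leaf (nat_lit 191)))) (.node (.node (.leaf (nat_lit 47)) (.node (.leaf (nat_lit 16)) (.leaf (nat_lit 143)))) (.node (.leaf (nat_lit 60)) (.node (.node (.leaf (nat_lit 0)) (.node (.leaf (nat_lit 210)) (.leaf (nat_lit 194)))) (.node (.leaf (nat_lit 0)) (.node (.leaf (nat_lit 86)) (.leaf (nat_lit 177)))))))) (.node (.node (.node (.node (.node (.leaf (nat_lit 5)) (.leaf (nat_lit 40))) (.leaf (nat_lit 0))) (.node (.leaf (nat_lit 131)) (.leaf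 (nat_lit 163)))) (.node (.leaf (nat_lit 37)) (.leaf (nat_lit 182)))) (.node (.node (.node (.node (.leaf (nat_lit 5)) (.node (.leaf (nat_lit 130)) (.leaf (nat_lit 154)))) (.node (.node (.leaf (nat_lit 144)) (.leaf (nat_lit 5))) (.leaf (nat_lit 0)))) (.leaf (nat_lit 169))) (.node (.node (.leaf (nat_lit 5)) (.leaf (nat_lit 165))) (.node (.leaf (nat_lit 186)) (.leaf (nat_lit 161))))))))) (.node (.leaf (nat_lit 0)) (.node (.node (.node (.node (.node (.node (.leaf (nat_lit 21)) (.node (.leaf (nat_lit 112)) (.leaf (nat_lit 0)))) (.node (.leaf (nat_lit 4)) (.leaf (nat_lit 3)))) (.node (.node (.node (.leaf (nat_lit 0)) (.node (.leaf (nat_lit 3)) (.leaf (nat_lit 21)))) (.leaf (nat_lit 1))) (.leaf (nat_lit 0)))) (.node (.node (.node (.node (.leaf (nat_lit 34)) (.leaf (nat_lit 151))) (.leaf (nat_lit 4))) (.node (.leaf (nat_lit 1)) (.node (.leaf (nat_lit 0)) (.node (.leaf (nat_lit 38)) (.leaf (nat_lit 0)))))) (.node (.leaf (nat_lit 36)) (.leaf (nat_lit 138))))) (.node (.node (.node (.node (.node (.leaf (nat_lit 2)) (.leaf (nat_lit 192))) (.node (.node (.leaf (nat_lit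 61)) (.leaf (nat_lit 87))) (.leaf (nat_lit 146)))) (.leaf (nat_lit 99))) (.node (.node (.leaf (nat_lit 64)) (.leaf (nat_lit 173))) (.leaf (nat_lit 0)))) (.node (.node (.node (.leaf (nat_lit 2)) (.node (.node (.leaf (nat_lit 125)) (.leaf (nat_lit 145))) (.leaf (nat_lit 0)))) (.node (.leaf (nat_lit 2)) (.leaf (nat_lit 188)))) (.node (.node (.node (.leaf (nat_lit 48)) (.leaf (nat_lit 128))) (.leaf (nat_lit 0))) (.leaf (nat_lit 2)))))) (.node (.leaf (nat_lit 0)) (.node (.node (.node (.node (.leaf (nat_lit 17)) (.node (.leaf (nat_lit 9)) (.leaf (nat_lit 54)))) (.leaf (nat_lit 4))) (.node (.leaf (nat_lit 4)) (.node (.node (.leaf (nat_lit 1)) (.leaf (nat_lit 113))) (.leaf (nat_lit 6))))) (.node (.node (.node (.node (.node (.leaf (nat_lit 7)) (.leaf (nat_lit 6))) (.leaf (nat_lit 0))) (.leaf (nat_lit 0))) (.leaf (nat_lit 80))) (.node (.node (.leaf (nat_lit 7)) (.node (.node (.leaf (nat_lit 1)) (.leaf (nat_lit 77))) (.leaf (nat_lit 12)))) (.leaf (nat_lit 12))))))))) (.node (.node (.node (.node (.node (.node (.node (.leaf (nat_lit 30)) (.node (.node (.leaf (nat_lit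 26)) (.leaf (nat_lit 0))) (.leaf (nat_lit 0)))) (.node (.leaf (nat_lit 4)) (.node (.leaf (nat_lit 3)) (.leaf (nat_lit 0))))) (.node (.node (.node (.leaf (nat_lit 32)) (.node (.node (.leaf (nat_lit 33)) (.leaf (nat_lit 110))) (.leaf (nat_lit 0)))) (.node (.node (.leaf (nat_lit 4)) (.leaf (nat_lit 75))) (.leaf (nat_lit 1)))) (.node (.node (.node (.leaf (nat_lit 0)) (.node (.leaf (nat_lit 1)) (.leaf (nat_lit 136)))) (.leaf (nat_lit 3))) (.leaf (nat_lit 106))))) (.node (.node (.node (.node (.leaf (nat_lit 23)) (.leaf (nat_lit 1))) (.node (.leaf (nat_lit 116)) (.node (.leaf (nat_lit 0)) (.node (.leaf (nat_lit 9)) (.leaf (nat_lit 10)))))) (.node (.leaf (nat_lit 18)) (.node (.leaf (nat_lit 4)) (.leaf (nat_lit 10))))) (.node (.node (.node (.leaf (nat_lit 7)) (.leaf (nat_lit 15))) (.leaf (nat_lit 82))) (.node (.node (.node (.node (.leaf (nat_lit 1)) (.leaf (nat_lit 15))) (.leaf (nat_lit 0))) (.leaf (nat_lit 4))) (.node (.leaf (nat_lit 118)) (.leaf (nat_lit 120))))))) (.leaf (nat_lit 0))) (.node (.node (.leaf (nat_lit 0)) (.node (.node (.node (.node (.leaf (nat_lit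 12)) (.node (.leaf (nat_lit 0)) (.leaf (nat_lit 4)))) (.leaf (nat_lit 1))) (.node (.leaf (nat_lit 3)) (.leaf (nat_lit 1)))) (.node (.node (.node (.node (.leaf (nat_lit 10)) (.node (.leaf (nat_lit 6)) (.leaf (nat_lit 105)))) (.leaf (nat_lit 108))) (.node (.leaf (nat_lit 3)) (.leaf (nat_lit 4)))) (.node (.node (.node (.leaf (nat_lit 0)) (.leaf (nat_lit 135))) (.leaf (nat_lit 15))) (.leaf (nat_lit 74)))))) (.node (.leaf (nat_lit 0)) (.node (.node (.node (.node (.node (.leaf (nat_lit 5)) (.node (.leaf (nat_lit 5)) (.leaf (nat_lit 94)))) (.leaf (nat_lit 168))) (.leaf (nat_lit 0))) (.node (.node (.leaf (nat_lit 0)) (.node (.leaf (nat_lit 32)) (.leaf (nat_lit 5)))) (.node (.node (.node (.leaf (nat_lit 67)) (.leaf (nat_lit 122))) (.leaf (nat_lit 0))) (.leaf (nat_lit 0))))) (.node (.node (.node (.node (.leaf (nat_lit 5)) (.leaf (nat_lit 95))) (.leaf (nat_lit 0))) (.node (.node (.leaf (nat_lit 30)) (.leaf (nat_lit 207))) (.leaf (nat_lit 204)))) (.node (.leaf (nat_lit 90)) (.node (.leaf (nat_lit 26)) (.leaf (nat_lit 198))))))))) (.node (.node (.leaf (nat_lit 0)) (.node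 (.leaf (nat_lit 0)) (.node (.node (.node (.node (.node (.leaf (nat_lit 2)) (.node (.leaf (nat_lit 157)) (.leaf (nat_lit 2)))) (.leaf (nat_lit 197))) (.node (.leaf (nat_lit 166)) (.leaf (nat_lit 126)))) (.node (.node (.node (.leaf (nat_lit 0)) (.node (.leaf (nat_lit 100)) (.leaf (nat_lit 171)))) (.node (.leaf (nat_lit 34)) (.leaf (nat_lit 36)))) (.node (.leaf (nat_lit 2)) (.leaf (nat_lit 178))))) (.node (.node (.node (.leaf (nat_lit 2)) (.leaf (nat_lit 142))) (.leaf (nat_lit 96))) (.leaf (nat_lit 129)))))) (.node (.node (.node (.node (.node (.node (.node (.node (.leaf (nat_lit 13)) (.leaf (nat_lit 78))) (.leaf (nat_lit 0))) (.leaf (nat_lit 4))) (.node (.leaf (nat_lit 10)) (.leaf (nat_lit 1)))) (.node (.node (.leaf (nat_lit 1)) (.node (.leaf (nat_lit 15)) (.leaf (nat_lit 10)))) (.node (.leaf (nat_lit 25)) (.leaf (nat_lit 25))))) (.node (.node (.leaf (nat_lit 9)) (.node (.leaf (nat_lit 114)) (.leaf (nat_lit 15)))) (.node (.node (.leaf (nat_lit 4)) (.leaf (nat_lit 7))) (.leaf (nat_lit 55))))) (.leaf (nat_lit 0))) (.node (.leaf (nat_lit 0)) (.node (.node (.node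 (.node (.leaf (nat_lit 18)) (.node (.node (.leaf (nat_lit 26)) (.leaf (nat_lit 57))) (.leaf (nat_lit 0)))) (.leaf (nat_lit 4))) (.node (.node (.node (.leaf (nat_lit 0)) (.node (.leaf (nat_lit 4)) (.leaf (nat_lit 84)))) (.leaf (nat_lit 0))) (.leaf (nat_lit 1)))) (.node (.node (.node (.node (.leaf (nat_lit 20)) (.leaf (nat_lit 3))) (.leaf (nat_lit 0))) (.node (.node (.leaf (nat_lit 0)) (.leaf (nat_lit 43))) (.leaf (nat_lit 0)))) (.node (.node (.leaf (nat_lit 19)) (.node (.leaf (nat_lit 1)) (.leaf (nat_lit 3)))) (.leaf (nat_lit 20)))))))))))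


/-- check of the involutions -/
noncomputable def invF (h : ℕ) : Bool :=
  frcA (oM.mul (ec_t1.get (Nat.mod h 64)) (ec_t2.get (Nat.div h 64))) fun c =>
    bimp (Nat.beq (oM.mul c c) oM.one) (frcA (iW.get h) fun k =>
      band (cmc c (jT.get (Nat.mod k 211)))
        (bimp (cmc c (ec_s1.get (Nat.mod (Nat.div k 211) 4)))
          (bor (Nat.beq c oM.one) (Nat.beq c (cE.get 8)))))

theorem inv_chk_0 : allR 0 400 invF = true := by decide +kernel

theorem inv_chk_1 : allR 400 400 invF = true := by decide +kernel

theorem inv_chk_2 : allR 800 400 invF = true := by decide +kernel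

theorem inv_chk_3 : allR 1200 400 invF = true := by decide +kernel

theorem inv_chk_4 : allR 1600 400 invF = true := by decide +kernel

theorem inv_chk_5 : allR 2000 400 invF = true := by decide +kernel

theorem inv_chk_6 : allR 2400 400 invF = true := by decide +kernel

theorem inv_chk_7 : allR 2800 400 invF = true := by decide +kernel

theorem inv_chk_8 : allR 3200 400 invF = true := by decide +kernel

theorem inv_chk_9 : allR 3600 400 invF = true := by decide +kernel

theorem inv_chk_10 : allR 4000 96 invF = true := by decide +kernel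

theorem inv_chk : allLt 4096 invF = true := by
  have h0 := inv_chk_0
  have h1 : allR 0 800 invF = true := allR_append (lo := 0) (a := 400) (b := 400) h0 inv_chk_1
  have h2 : allR 0 1200 invF = true := allR_append (lo := 0) (a := 800) (b := 400) h1 inv_chk_2
  have h3 : allR 0 1600 invF = true := allR_append (lo := 0) (a := 1200) (b := 400) h2 inv_chk_3
  have h4 : allR 0 2000 invF = true := allR_append (lo := 0) (a := 1600) (b := 400) h3 inv_chk_4
  have h5 : allR 0 2400 invF = true := allR_append (lo := 0) (a := 2000) (b := 400) h4 inv_chk_5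
  have h6 : allR 0 2800 invF = true := allR_append (lo := 0) (a := 2400) (b := 400) h5 inv_chk_6
  have h7 : allR 0 3200 invF = true := allR_append (lo := 0) (a := 2800) (b := 400) h6 inv_chk_7
  have h8 : allR 0 3600 invF = true := allR_append (lo := 0) (a := 3200) (b := 400) h7 inv_chk_8
  have h9 : allR 0 4000 invF = true := allR_append (lo := 0) (a := 3600) (b := 400) h8 inv_chk_9
  have h10 : allR 0 4096 invF = true := allR_append (lo := 0) (a := 4000) (b := 96) h9 inv_chk_10
  exact allLt_of_allR_zero h10


theorem inv_T0 {y : Om} (hy : y ∈ T0) (yy : y * y = 1) :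
    (∃ j : Om, j ≠ 1 ∧ j ^ 3 = 1 ∧ j * y = y * j) ∧
      ((∀ g ∈ T0, y * g = g * y) → y = 1 ∨ y = z0) := by
  obtain ⟨h, hh, e⟩ := ec_chain1.2 y hy
  change h < 4096 at hh
  obtain ⟨v, -, ev⟩ := ec_tmem2 (h / 64) (by omega)
  have e1 : oM.enc y = oM.mul (ec_t1.get (Nat.mod h 64)) (ec_t2.get (Nat.div h 64)) := by
    rw [e]
    change oM.mul _ (oM.mul (ec_t2.get (h / 64 % 64)) oM.one) = oM.mul _ (ec_t2.get (h / 64))
    rw [Nat.mod_eq_of_lt (show h / 64 < 64 by omega), ← ev, ← oM.enc_one, ← oM.enc_mul, mul_one]
  have c := allLt_iff.1 inv_chk h hh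
  obtain ⟨j, ej, j1, j3⟩ := j_mem (Nat.mod (iW.get h) 211) (Nat.mod_lt _ (by norm_num))
  obtain ⟨g, hg, eg⟩ := ec_valid1.mem_gen (a := Nat.mod (Nat.div (iW.get h) 211) 4)
    (Nat.mod_lt _ (by norm_num))
  have ez : oM.enc z0 = cE.get 8 := enc_ext 8 (by norm_num)
  simp only [invF, frcA_eq', band_iff, bimp_iff, bor_iff, ← e1, ← ej, ← eg, ← ez, ← oM.enc_mul,
    ← oM.enc_one, beq_iff, cmc_iff] at c
  exact ⟨⟨j, j1, j3, (c yy).1.symm⟩, fun k => (c yy).2 (k g hg)⟩

theorem inv_three {y : Om} (yy : y * y = 1) : ∃ j : Om, j ≠ 1 ∧ j ^ 3 = 1 ∧ j * y = y * j := by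
  haveI : Fact (Nat.Prime 2) := ⟨Nat.prime_two⟩
  obtain ⟨g, -, hg⟩ := syl_T0.exists_le_cj (X := zpowers y) le_top
    (CfsgFT.isPGroup_zpowers (k := 1) (by rw [pow_one, pow_two, yy]))
  obtain ⟨j, j1, j3, e⟩ := (inv_T0 (mem_cj.1 (hg (mem_zpowers y))) (by
    rw [show g⁻¹ * y * g * (g⁻¹ * y * g) = g⁻¹ * (y * y) * g by group, yy]; simp)).1
  refine ⟨g * j * g⁻¹, conj_ne_one j1 g, by rw [conj_pow, j3]; simp, ?_⟩
  calc _ = g * (j * (g⁻¹ * y * g)) * g⁻¹ := by group
    _ = _ := by rw [e]; group

theorem z0_sq : z0 * z0 = 1 ∧ z0 ≠ 1 := by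
  have ez : oM.enc z0 = cE.get 8 := enc_ext 8 (by norm_num)
  rw [Ne, ← beq_iff, ← beq_iff, oM.enc_mul, ez, oM.enc_one]
  decide +kernel

theorem central_D0 {y : Om} (yy : y * y = 1) (y1 : y ≠ 1) (hc : Nat.card (C1 y) = 110592) :
    y ∈ D0 := by
  haveI : Fact (Nat.Prime 2) := ⟨Nat.prime_two⟩
  obtain ⟨S, hS⟩ := exists_sylIn_ge (p := 2) (X := zpowers y) (H := C1 y)
    (zpowers_le.2 (self_mem_C1 y)) (CfsgFT.isPGroup_zpowers (k := 1) (by rw [pow_one, pow_two, yy]))
  obtain ⟨g, -, hg⟩ := syl_T0.exists_le_cj (X := S) le_top hS.2.isPGroup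
  have h1 : S = CfsgH5.cj g T0 := eq_of_le_of_card_le hg (by
    obtain ⟨k, hk⟩ := IsPGroup.iff_card.1 hS.2.isPGroup
    have h2 := card_mul_relIndex hS.2.le
    have h3 := hS.2.not_dvd_relIndex
    rw [card_cj, card_TV.1, hk]
    rw [hc, hk] at h2
    have h4 : 2 ^ 12 ∣ 2 ^ k := Nat.Coprime.dvd_of_dvd_mul_right
      (Nat.Coprime.pow_left _ ((Nat.Prime.coprime_iff_not_dvd Nat.prime_two).2 h3))
      (h2 ▸ by norm_num)
    exact Nat.le_of_dvd (by positivity) h4)
  have h2 := (inv_T0 (mem_cj.1 (hg (hS.1 (mem_zpowers y)))) (by
    rw [show g⁻¹ * y * g * (g⁻¹ * y * g) = g⁻¹ * (y * y) * g by group, yy]; simp)).2 fun k hk => by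
      have := mem_C1.1 (hS.2.le (h1 ▸ conj_mem_cj.2 hk : g * k * g⁻¹ ∈ S))
      calc _ = g⁻¹ * (y * (g * k * g⁻¹)) * g := by group
        _ = _ := by rw [← this]; group
  rcases h2 with e | e
  · exact absurd (by rw [show y = g * (g⁻¹ * y * g) * g⁻¹ by group, e]; simp) y1
  · exact ⟨g, by rw [← e]; group⟩

end CfsgH6.O8E
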