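import Cfsg.Agent.H6.T3G1
import Cfsg.Agent.H5.BSW4
import Cfsg.Agent.H6.PSLSmall
import Cfsg.Agent.L.T3Red
import Cfsg.Agent.S3331

/-!
Simple groups of order prime to `5` with a Sylow `3`-subgroup of order three and small
centraliser.
-/

set_option autoImplicit false
set_option linter.style.haveILetI false
set_option linter.unusedSectionVars false

namespace CfsgSZ

open Subgroup CfsgH5 CfsgH6 CfsgFT

universe u

variable {G : Type u} [Group G] [Finite G] [IsSimpleGroup G]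

/-- a class of involutions which does not meet `V` -/
structure Ex (x t u : G) : Prop where
  b : Bas x u
  i1 : iu x t u = 1
  iv : ∀ v ∈ Vx x, v ≠ 1 → iu x t v = 1
  all : ∀ w, w * w = 1 → w ≠ 1 → (∀ v ∈ Vx x, ¬ IsConj v w) → IsConj u w
  n3 : ¬ 3 ∣ Nat.card (C1 u)
  mul : ∀ v ∈ Vx x, v ≠ 1 → ∃ w ∈ Vx x, w ≠ 1 ∧ IsConj w (v * u)

namespace SV

variable (h : SV G) {x t : G} (b : Bas x t)
include h b

theorem dich {W : Finset G} (hW : ∀ v, v ∈ W ↔ v ∈ Vx x ∧ v ≠ 1)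
    (cW : W.card + 1 = Nat.card (Vx x)) : ((∀ w, w * w = 1 → w ≠ 1 → ∃ v ∈ W, IsConj v w) ∧
      ∑ v ∈ W, iu x t v = Nat.card (Vx x)) ∨ ∃ u, Ex x t u := by
  classical
  have pw : ∀ a ∈ W, ∀ c ∈ W, IsConj a c → a = c := fun a ha c hc =>
    b.eq_of_conj h.toHy ((hW a).mp ha).1 ((hW c).mp hc).1
  by_cases A : ∀ y ∈ Vx x, ∃ v ∈ W, IsConj v (t * y)
  · refine Or.inl ⟨fun w ww w1 => ?_, le_antisymm (iu_le x t pw) (le_iu x t A)⟩
    obtain ⟨y, hy, e⟩ := b.exists_conj h.toSS ww w1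
    exact (A y hy).imp fun v hv => ⟨hv.1, hv.2.trans e.symm⟩
  push Not at A
  obtain ⟨y, hy, A⟩ := A
  have b' := b.mul h.toHy hy
  have ins : ∀ (s : Finset G) (w : G), (∀ a ∈ s, ∀ c ∈ s, IsConj a c → a = c) →
      (∀ a ∈ s, ¬ IsConj a w) → w ∉ s ∧ ∀ a ∈ insert w s, ∀ c ∈ insert w s, IsConj a c → a = c := by
    refine fun s w h1 h2 => ⟨fun e => h2 w e (IsConj.refl w), fun a ha c hc e => ?_⟩
    rcases Finset.mem_insert.mp ha with a1 | a1 <;> rcases Finset.mem_insert.mp hc with a2 | a2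
    exacts [a1.trans a2.symm, absurd (a1 ▸ e.symm) (h2 c a2), absurd (a2 ▸ e) (h2 a a1),
      h1 a a1 c a2 e]
  have pos : ∀ v ∈ W, 1 ≤ iu x t v := fun v hv =>
    h.iu_pos b (h.sq_V b.x3 ((hW v).mp hv).1) ((hW v).mp hv).2
  have ge := Finset.sum_le_sum pos
  obtain ⟨n1, p1⟩ := ins W _ pw A
  have l1 := iu_le x t p1
  rw [Finset.sum_insert n1] at l1
  have := h.iu_pos b b'.tt b'.t1
  rw [← Finset.card_eq_sum_ones] at ge
  have all : ∀ w, w * w = 1 → w ≠ 1 → (∀ v ∈ Vx x, ¬ IsConj v w) → IsConj (t * y) w := by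
    intro w ww w1 hw
    by_contra e
    obtain ⟨n2, p2⟩ := ins _ w p1 fun a ha => by
      rcases Finset.mem_insert.mp ha with rfl | ha
      exacts [e, hw a ((hW a).mp ha).1]
    have l2 := iu_le x t p2
    rw [Finset.sum_insert n2, Finset.sum_insert n1] at l2
    have := h.iu_pos b ww w1
    omega
  have i1 : iu x t (t * y) = 1 := by omega
  refine Or.inr ⟨_, b', i1, fun v h1 h2 => ((Finset.sum_eq_sum_iff_of_le pos).mp
    (by rw [← Finset.card_eq_sum_ones]; omega) v ((hW v).mpr ⟨h1, h2⟩)).symm, all, fun e => ?_,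
    fun v h1 h2 => ?_⟩
  · obtain ⟨z, hz, z3⟩ := exists_mem_orderOf_eq Nat.prime_three e
    obtain ⟨w, h1, h2⟩ := h.conj_V b.x3 z3 ((h.mem_V z3).mpr ⟨mem_C1.mpr (mem_C1.mp hz).symm, b'.tt⟩)
    exact A w ((hW w).mpr ⟨h1, fun a => b'.t1 (isConj_one_right.mp (a ▸ h2))⟩) h2
  · have b2 := b'.mul h.toHy h1
    rw [b'.comm h1]
    by_contra e
    push Not at e
    have e := all _ b2.tt b2.t1 fun w a1 a2 =>
      e w a1 (fun a => b2.t1 (isConj_one_right.mp (a ▸ a2))) a2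
    have := (Nat.card_eq_one_iff_unique.mp i1).1.elim ⟨⟨y, hy⟩, IsConj.refl _⟩
      ⟨⟨y * v, mul_mem hy h1⟩, mul_assoc t y v ▸ e⟩
    exact h2 (by simpa using this)

variable {d m n : ℕ} {α : G → ℤ} (c : CT x t d m α) {S : Subgroup G} (hS : SylIn 2 S ⊤)
  (gl : Nm.Gl (Nat.card (Vx x)) m d (Nat.card G) (Nat.card S) n)
include c

theorem vc' {v : G} (hv : v ∈ Vx x) (v1 : v ≠ 1) (l : iu x t v ≤ 2) :
    Nm.Vc (Nat.card (Vx x)) m d (Nat.card G) (iu x t v) (Dn d α v) (Nat.card (C1 v)) :=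
  have vv := h.sq_V b.x3 hv
  ⟨by have := h.iu_pos b vv v1; omega, (c.cl vv v1).1, (c.cl vv v1).2, h.vc b hv v1⟩

include hS gl

theorem fn0 {vs : List ℕ} (hv : ∀ v ∈ Vx x, v ≠ 1 → Nat.card (C1 v) ∈ vs) {W : Finset G}
    (hW : ∀ v, v ∈ W ↔ v ∈ Vx x ∧ v ≠ 1) (a : ∀ w, w * w = 1 → w ≠ 1 → ∃ v ∈ W, IsConj v w) :
    Nm.Fn (Nat.card (Vx x)) d (Nat.card G) (Nat.card S) n vs 1 0 :=
  h.fn b c hS gl hv (fun w ww w1 e => let ⟨v, h1, h2⟩ := a w ww w1
    absurd h2 (e v ((hW v).mp h1).1)) fun _ hp _ e => absurd (Nat.dvd_one.mp e) hp.ne_one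

theorem uc {vs : List ℕ} (hv : ∀ v ∈ Vx x, v ≠ 1 → Nat.card (C1 v) ∈ vs) {u : G} (e : Ex x t u) :
    Nm.Uc (Nat.card (Vx x)) m d (Nat.card G) (Nat.card S) n vs (Dn d α u) := by
  obtain ⟨h1, h2⟩ := c.cl e.b.tt e.b.t1
  rw [e.i1, one_mul] at h1
  exact ⟨h1 ▸ h2, fun a => e.n3 (h1 ▸ a.mul_left _), h1 ▸ h.fn b c hS gl hv
    (fun w ww w1 a => (card_C1_isConj (e.all w ww w1 a)).symm) (val_of (h.th0 e.b.tt e.b.t1))⟩

theorem case2 (h2 : Nat.card (Vx x) = 2) {v : G} (hv : v ∈ Vx x) (v1 : v ≠ 1) :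
    Nat.card (C1 v) = 12 := by
  have vv := h.sq_V b.x3 hv
  have hW : ∀ w, w ∈ ({v} : Finset G) ↔ w ∈ Vx x ∧ w ≠ 1 := fun w => by
    rw [Finset.mem_singleton, b.V2 h2 hv v1]
    exact ⟨fun e => e.symm ▸ ⟨mem_zpowers _, v1⟩, fun e =>
      invol_unique e.1 (h.sq_V b.x3 (b.V2 h2 hv v1 ▸ e.1)) e.2 (mem_zpowers v) vv v1⟩
  have hc : ∀ w ∈ Vx x, w ≠ 1 → Nat.card (C1 w) ∈ [Nat.card (C1 v)] := fun w h1 h2 => by
    rw [Finset.mem_singleton.mp ((hW w).mpr ⟨h1, h2⟩)]; exact List.mem_cons_self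
  have V := h.vc' b c hv v1
  have F := h.fn0 b c hS gl hc hW
  have U := fun u => h.uc b c hS gl hc (u := u)
  rw [h2] at V F U gl
  rcases h.dich b hW (by simp [h2]) with ⟨a, e⟩ | ⟨u, e⟩
  · rw [Finset.sum_singleton, h2] at e
    refine Nm.num2 gl (V e.le) (Or.inl ⟨e, ?_, F a⟩)
    have := c.four' vv b.tt (b.comm hv) v1 b.t1 fun e => b.not_V (e ▸ hv)
    have b' := b.mul h.toHy hv
    obtain ⟨w, h1, h3⟩ := a t b.tt b.t1
    obtain ⟨w', h1', h3'⟩ := a _ b'.tt b'.t1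
    rw [Finset.mem_singleton] at h1 h1'
    rw [b.comm hv, ← c.Dn_conj h3, ← c.Dn_conj h3', h1, h1'] at this
    omega
  · have i := e.iv v hv v1
    refine Nm.num2 gl (V (by omega)) (Or.inr ⟨i, _, ?_, U u e⟩)
    have := c.four' vv e.b.tt (e.b.comm hv) v1 e.b.t1 fun a => e.b.not_V (a ▸ hv)
    obtain ⟨w, h1, h3, h4⟩ := e.mul v hv v1
    rw [← c.Dn_conj h4, Finset.mem_singleton.mp ((hW w).mpr ⟨h1, h3⟩)] at this
    omega

theorem case4 (h4 : Nat.card (Vx x) = 4) : False := by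
  classical
  obtain ⟨v, hv, v1⟩ := b.exists_v
  obtain ⟨w, hw, w1, ne, eV⟩ := b.V4 h.toHy h4 hv v1
  have vv := h.sq_V b.x3 hv
  have ww := h.sq_V b.x3 hw
  have cm : v * w = w * v := mem_C.mp (h.ab_V b.x3 hw) v hv
  have hz := mul_mem hv hw
  have z1 : v * w ≠ 1 := fun e => ne (by rw [eq_inv_of_mul_eq_one_left e, inv_invol ww])
  have n1 : v ≠ v * w := by simpa using w1
  have n2 : w ≠ v * w := by simpa using v1
  have hW : ∀ y, y ∈ ({v, w, v * w} : Finset G) ↔ y ∈ Vx x ∧ y ≠ 1 := fun y => by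
    simp only [Finset.mem_insert, Finset.mem_singleton]
    refine ⟨?_, fun e => ((mem_F4 vv ww cm).mp (eV ▸ e.1)).resolve_left e.2⟩
    rintro (rfl | rfl | rfl)
    exacts [⟨hv, v1⟩, ⟨hw, w1⟩, ⟨hz, z1⟩]
  have hc : ∀ y ∈ Vx x, y ≠ 1 →
      Nat.card (C1 y) ∈ [Nat.card (C1 v), Nat.card (C1 w), Nat.card (C1 (v * w))] := fun y h1 h2 => by
    have := (hW y).mpr ⟨h1, h2⟩
    simp only [Finset.mem_insert, Finset.mem_singleton] at this
    rcases this with rfl | rfl | rfl <;> simp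
  have V1 := h.vc' b c hv v1
  have V2 := h.vc' b c hw w1
  have V3 := h.vc' b c hz z1
  have F := h.fn0 b c hS gl hc hW
  have U := fun u => h.uc b c hS gl hc (u := u)
  rw [h4] at V1 V2 V3 F U gl
  have f := c.four' vv ww cm v1 w1 ne
  rcases h.dich b hW (by rw [h4, Finset.card_eq_three.mpr ⟨_, _, _, ne, n1, n2, rfl⟩]) with
    ⟨a, e⟩ | ⟨u, e⟩
  · rw [Finset.sum_insert (by simp [ne, w1]), Finset.sum_pair n2, h4] at e
    have := h.iu_pos b vv v1
    have := h.iu_pos b ww w1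
    have := h.iu_pos b (h.sq_V b.x3 hz) z1
    exact Nm.num4 gl (V1 (by omega)) (V2 (by omega)) (V3 (by omega)) f (Or.inl ⟨by omega, F a⟩)
  · have := e.iv v hv v1
    have := e.iv w hw w1
    have := e.iv _ hz z1
    refine Nm.num4 gl (V1 (by omega)) (V2 (by omega)) (V3 (by omega)) f
      (Or.inr ⟨by omega, _, ?_, U u e⟩)
    have := c.four' vv e.b.tt (e.b.comm hv) v1 e.b.t1 fun a => e.b.not_V (a ▸ hv)
    obtain ⟨y, h1, h3, h4⟩ := e.mul v hv v1
    have h5 := (hW y).mpr ⟨h1, h3⟩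
    simp only [Finset.mem_insert, Finset.mem_singleton] at h5
    rw [← c.Dn_conj h4] at this
    rcases h5 with rfl | rfl | rfl <;> omega

end SV

theorem SV.final (h : SV G) {x t v : G} (b : Bas x t) (h2 : Nat.card (Vx x) = 2) (hv : v ∈ Vx x)
    (v1 : v ≠ 1) (h12 : Nat.card (C1 v) = 12) : Nonempty (G ≃* L13) := by
  haveI := Fact.mk Nat.prime_two
  have vv := h.sq_V b.x3 hv
  have cx : Nat.card (C1 x) = 6 := by rw [h.card_C1 b.x3, h2]
  have xv : x * v = v * x := (mem_C1.mp (V_le x hv)).symm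
  have o : orderOf (x * v) = 6 := by
    rw [Commute.orderOf_mul_eq_mul_orderOf_of_coprime xv (by
      rw [b.x3, orderOf_invol vv v1]; decide), b.x3, orderOf_invol vv v1]
  have eR : zpowers (x * v) = C1 x := eq_of_le_of_card_ge (zpowers_le.mpr (mul_mem
    (self_mem_C1 x) (V_le x hv))) (by rw [cx, Nat.card_zpowers, o])
  have le : C1 x ≤ C1 v := fun g hg => mem_C1.mpr (mem_C.mp (h.ab x b.x3 hg) v (V_le x hv)).symm
  have tv : t ∈ C1 v := mem_C1.mpr (b.comm hv).symm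
  have tx : t ∉ C1 x := fun e => b.not_V ((h.mem_V b.x3).mpr ⟨e, b.tt⟩)
  have ne : v ≠ t := fun e => b.not_V (e ▸ hv)
  have c4 := card_F4 vv b.tt (b.comm hv) v1 b.t1 ne
  have one := fun a a' => h.one_class (elAb_F4 vv b.tt (b.comm hv)) c4 (sylIn_of_not_dvd
    (ab_F4 (b.comm hv)) (isPGroup_F4 vv b.tt (b.comm hv)) fun e => by
      have l : C (F4 v t) ≤ C1 v := C_F4 v t ▸ inf_le_left
      have := card_dvd_of_le' l
      rw [← card_mul_relIndex (ab_F4 (b.comm hv)), c4, h12] at this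
      have := (mul_dvd_mul_left 4 e).trans this
      omega) (a := a) (b := a')
  have B : BSW (x * v) t := by
    refine ⟨by rw [o]; decide, by rw [o]; decide, b.tt, ?_, eR ▸ tx, fun s hs s1 g hg => ?_,
      fun u => one _ _ ?_ ?_⟩
    · rw [← conj_mul, b.inv, b.conj_V hv, xv, mul_inv_rev, inv_invol vv]
    · rw [eR] at hs ⊢
      have gv : g ∈ C1 v := by
        obtain ⟨y, hy, e⟩ := (h.mem_C1_iff b.x3).mp hs
        rcases e with rfl | rfl | rfl
        · rw [b.V2 h2 hv v1] at hy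
          rw [← invol_unique hy (h.sq_V b.x3 (b.V2 h2 hv v1 ▸ hy)) s1 (mem_zpowers v) vv v1]
          exact mem_C1.mpr hg
        · exact le (h.C1_xy b.x3 hy ▸ mem_C1.mpr hg)
        · exact le (C1_inv x ▸ h.C1_xy (by rw [orderOf_inv, b.x3]) (V_inv x ▸ hy) ▸ mem_C1.mpr hg)
      refine (em _).imp_right fun a => mul_idx2 ?_ gv tv a tx
      have := card_mul_relIndex le
      rw [cx, h12] at this
      omega
    · rw [zz, o, ← pow_add, ← pow_orderOf_eq_one (x * v), o]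
    · rw [zz, o]; exact pow_ne_one_of_lt_orderOf (by decide) (by rw [o]; decide)
  obtain ⟨-, F, _, _, e, ⟨f⟩⟩ := B.psl2
  rw [o] at e
  rcases e with e | e
  · obtain ⟨f'⟩ := nonempty_psl_congr (n := 2) (F := F) (K := ZMod 13) (by rw [e, ZMod.card])
    exact ⟨f.trans f'⟩
  · have := two_mul_card_psl2_odd F (by rw [show Fintype.card F = 11 by omega]; decide)
    rw [show Fintype.card F = 11 by omega, ← Nat.card_congr f.toEquiv] at this
    exact absurd (by omega) h.n5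

theorem simpleCase : SimpleCase.{u} := by
  intro G _ _ _ h nab h3 ih
  haveI := Fact.mk Nat.prime_two
  haveI := Fact.mk Nat.prime_three
  have hs : SS G := ⟨h, nab, ih⟩
  obtain ⟨x, hx⟩ := exists_prime_orderOf_dvd_card' 3 h3
  by_cases hV : ∀ x : G, orderOf x = 3 → Vx x ≠ ⊥
  · have hv : SV G := ⟨hs, hV, x, hx⟩
    obtain ⟨t, b⟩ := hs.exists_bas hx (hV x hx)
    obtain ⟨d, m, α, c⟩ := hs.exists_CT b
    obtain ⟨S, -, hS⟩ := exists_sylIn_ge (p := 2) (bot_le (a := (⊤ : Subgroup G))) IsPGroup.of_bot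
    obtain ⟨n, gl⟩ := c.gl h hx hS
    obtain ⟨v, h1, h2⟩ := b.exists_v
    rcases b.card_V h with e | e
    · exact Or.inr (hv.final b e h1 h2 (hv.case2 b c hS gl e h1 h2))
    · exact (hv.case4 b c hS gl e).elim
  push Not at hV
  obtain ⟨x, hx, hV⟩ := hV
  rcases Cfsg.Agent.S3331.result (zpowers x) (card_X hx) (by
    have := h.C1_eq hx
    rwa [hV, sup_bot_eq, ← C_zpowers] at this) with ⟨K, hK, h1, -, h2⟩ | ⟨K, hK, -, -, ⟨e⟩⟩ | e
  · exfalso
    rcases hK.eq_bot_or_eq_top with rfl | rfl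
    · have e := Nat.card_congr (QuotientGroup.quotientBot (G := G)).toEquiv
      have l := h.le x hx
      have : Nat.card G ∣ 6 := by
        rcases h2 with h2 | ⟨⟨f⟩⟩
        · rw [← e, h2]; decide
        · rw [← e, Nat.card_congr f.toEquiv, Nat.card_perm]; simp [Nat.factorial]
      have e6 := card_mul_relIndex (le_top (a := zpowers x))
      rw [card_top, card_X hx, relIndex_top_right] at e6
      have := hs.index_ne (zpowers x)
      have := Nat.le_of_dvd (by decide) ‹_ ∣ 6›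
      have := Nat.card_pos (α := G)
      exact hs.not_solv (index_eq_one.mp (by omega : (zpowers x).index = 1) ▸
        solvable_of_ab (ab_zpowers x))
    · exact hs.not_solv inferInstance
  · refine absurd (Dvd.dvd.trans ?_ (card_quotient_dvd_card K)) h.n5
    rw [Nat.card_congr e.toEquiv, nat_card_alternatingGroup]
    simp [Nat.factorial]
  · exact Or.inl e

end CfsgSZ
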