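import Cfsg.Agent.H7.V3Par
import Cfsg.Agent.H6.U3M1
import Cfsg.Agent.SZ.BN_c

/-! S3424 (E8): even `q`, Suzuki's theorem. -/

set_option autoImplicit false

namespace CfsgV3

open Cfsg CfsgU3 Subgroup CfsgH5 CfsgH6 CfsgFT CfsgSZ Matrix MulAction
open scoped MatrixGroups

universe u

variable {G Ω : Type u} [Group G] [Finite G] [MulAction G Ω] {Q : Ω → Subgroup G} {Zs : Set G}
  {q r d m : ℕ}

omit [Finite G] in
theorem TI.e8_tr (h : TI G Ω q r d m Q Zs) {i o w : Ω} (ho : o ≠ i) (hw : w ≠ i) :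
    ∃ a ∈ Q i, a • o = w := by
  have hΩ : Finite Ω := Nat.finite_of_card_ne_zero (by rw [h.cardΩ]; omega)
  let f : Q i → {w : Ω // w ≠ i} := fun a => ⟨a.1 • o, fun e => ho
    (MulAction.injective a.1 (e.trans (h.fix i _ a.2).symm))⟩
  have hf : Function.Injective f := fun a b e => by
    have e1 : a.1 • o = b.1 • o := congrArg Subtype.val e
    have := h.reg i _ (mul_mem (inv_mem b.2) a.2) o ho (by rw [mul_smul, e1, inv_smul_smul])
    exact Subtype.ext (inv_mul_eq_one.1 this).symm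
  have hc : Nat.card {w : Ω // w ≠ i} = Nat.card (Q i) := by
    classical
    have := Nat.card_congr (Equiv.optionSubtypeNe i)
    rw [Finite.card_option, h.cardΩ] at this
    rw [h.cardQ]; omega
  obtain ⟨a, e⟩ := (hf.bijective_of_nat_card_le hc.le).2 ⟨w, hw⟩
  exact ⟨a, a.2, congrArg Subtype.val e⟩

theorem TI.even [IsSimpleGroup G] (h : TI G Ω q 2 d m Q Zs) {F : Type} [Field F] [Fintype F]
    (hF : Fintype.card F = q ^ 2) : Nonempty (G ≃* PSU 3 F q) := by
  have q3 := h.par.q3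
  have q2 : 2 ∣ q ^ 3 := h.par.r_dvd.trans (dvd_pow_self q three_ne_zero)
  have l1 : q < q ^ 2 := by nlinarith
  have l2 : q ^ 2 < q ^ 3 := Nat.pow_lt_pow_right (by omega) (by omega)
  have hΩ : Finite Ω := Nat.finite_of_card_ne_zero (by rw [h.cardΩ]; omega)
  have hn : Nontrivial Ω := Finite.one_lt_card_iff_nontrivial.1 (by rw [h.cardΩ]; omega)
  obtain ⟨k⟩ : Nonempty Ω := inferInstance
  obtain ⟨i, hi⟩ := exists_ne k
  obtain ⟨⟨t, ht⟩, h2⟩ := exists_prime_orderOf_dvd_card' (G := Q k) 2 (h.cardQ k ▸ q2)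
  rw [Subgroup.orderOf_mk] at h2
  have tt : t * t = 1 := by rw [← pow_two, ← h2, pow_orderOf_eq_one]
  have ho : t • i ≠ i := fun e => by
    rw [h.reg k t ht i hi e, orderOf_one] at h2; omega
  have sdp : SDP (Q i) (stabilizer G i ⊓ stabilizer G (t • i)) (stabilizer G i) := by
    refine ⟨fun g hg x hx => ?_, eq_bot_iff.2 fun x hx => h.reg i x hx.1 _ ho hx.2.2,
      le_antisymm (sup_le (h.fix i) inf_le_left) fun g hg => ?_⟩
    · have := h.conj g i x hx
      rwa [show g • i = i from hg.1] at this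
    · have hg' : g • i = i := hg
      obtain ⟨a, ha, e⟩ := h.e8_tr ho (w := g • t • i) fun e => ho
        (MulAction.injective g (e.trans hg'.symm))
      have h3 : a⁻¹ * g ∈ stabilizer G i ⊓ stabilizer G (t • i) :=
        mem_inf.2 ⟨by rw [mem_stabilizer_iff, mul_smul, hg', inv_smul_eq_iff, h.fix i a ha], by
          rw [mem_stabilizer_iff, mul_smul, ← e, inv_smul_smul]⟩
      simpa using mul_mem (mem_sup_left ha) (mem_sup_right h3 : _ ∈ Q i ⊔ _)
  have hp : IsPretransitive G Ω := ⟨h.trans⟩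
  have hD : ¬ 2 ∣ Nat.card ↥(stabilizer G i ⊓ stabilizer G (t • i)) := fun e => by
    have h3 := (stabilizer G i).card_mul_index
    rw [index_stabilizer_of_transitive, h.card, ← sdp.card, h.cardQ, ord, mul_assoc, mul_assoc] at h3
    exact h.par.not_dvd_r (Nat.eq_of_mul_eq_mul_left (by omega) h3 ▸ e.mul_right _)
  let S : Suz0 G :=
    { X := ⊤, H := stabilizer G i, Q := Q i, D := stabilizer G i ⊓ stabilizer G (t • i), t := t
      H_le := le_top, t_mem := trivial, t_not := ho, tt := tt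
      D_eq := by
        ext x
        rw [mem_inf, mem_inf, mem_cj, mem_stabilizer_iff, mem_stabilizer_iff, mem_stabilizer_iff,
          mul_smul, mul_smul, inv_smul_eq_iff]
      sdp := sdp
      two := fun g _ hg => by
        obtain ⟨a, ha, e⟩ := h.e8_tr ho (w := g • i) hg
        exact ⟨a, h.fix i a ha, (a * t)⁻¹ * g, by
          rw [mem_stabilizer_iff, mul_smul, ← e, ← mul_smul a, inv_smul_smul], by group⟩
      even := by rw [h.cardQ]; exact even_iff_two_dvd.2 q2
      odd := Nat.odd_iff.2 (by omega) }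
  obtain ⟨S', e⟩ := S.exists_suz
  have eQ : S'.Q = Q i := by rw [e]
  have key : ∀ z ∈ S'.Q0, z ≠ 1 → z ∈ Zs := fun z hz z1 => by
    by_contra hz'
    have h3 := Nat.le_of_dvd (by omega) (h.cen i z (eQ ▸ Suz0.Q0_le_Q hz) z1 hz')
    have h4 : Q i ≤ C1 z := fun x hx => mem_C1.2 (Suz0.Q0_comm hz (eQ ▸ hx)).symm
    have h5 := card_le_of_le h4
    rw [h.cardQ] at h5
    omega
  have s0 : S'.s ∈ S'.Q0 := Suz0.mem_Q0_of S'.s_mem S'.ss
  have hq : S'.q = q := by
    have h3 : (S'.Q0 : Set G) = insert 1 (Zs ∩ Q i) := by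
      ext z
      refine ⟨fun hz => ?_, ?_⟩
      · by_cases z1 : z = 1
        · exact .inl z1
        · exact .inr ⟨key z hz z1, eQ ▸ Suz0.Q0_le_Q hz⟩
      · rintro (rfl | ⟨hz, hz'⟩)
        · exact one_mem _
        · obtain ⟨c, rfl⟩ := isConj_iff.1 ((h.Zcj _ (key _ s0 S'.s_ne) z).1 hz)
          exact Suz0.mem_Q0_of (eQ ▸ hz') (by
            rw [show c * S'.s * c⁻¹ * (c * S'.s * c⁻¹) = c * (S'.s * S'.s) * c⁻¹ by group, S'.ss]
            group)
    rw [Suz0.q, ← SetLike.coe_sort_coe, Nat.card_coe_set_eq, h3,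
      Set.ncard_insert_of_notMem (fun e => h.Z1 e.1), h.Zq]
    omega
  have hQ : Nat.card S'.Q = q ^ 3 := by rw [eQ, h.cardQ]
  rcases S'.res (by rw [e]) (by omega) (.inr inferInstance) with h3 | h3 | ⟨-, K, _, _, hK, ⟨f⟩⟩
  · have := card_le_of_le h3.1
    rw [hQ, ← Suz0.q, hq] at this
    omega
  · have := h3.1.2.1
    rw [hQ, hq] at this
    omega
  · rw [hq] at hK f
    exact (psu_congr (hK.trans hF.symm) q).map f.trans

end CfsgV3
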