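import Cfsg.Agent.H6.V3S

/-! S3424 (Q2): the case `q = 2`. -/

set_option autoImplicit false

namespace CfsgV3

open CfsgU3 Matrix Subgroup

theorem psu_two {E : Type} [Field E] [Fintype E] (hq : Fintype.card E = 2 ^ 2)
    (g : Cfsg.PSU 3 E 2) : g ^ 3 = 1 ∨ g ^ 4 = 1 := by
  obtain ⟨σ, hσ⟩ := exists_sig hq
  obtain ⟨e⟩ := psu_of_uk hq hσ
  obtain ⟨g, rfl⟩ := e.surjective g
  obtain ⟨A, rfl⟩ := QuotientGroup.mk'_surjective _ g
  simp only [← map_pow, EmbeddingLike.map_eq_one_iff]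
  have c := uk_cubic A
  generalize A.1.1.trace = t at c
  by_cases t0 : t = 0
  · exact .inl (by rw [show A ^ 3 = 1 from Subtype.ext (Subtype.ext (by simpa [t0] using c)), map_one])
  have t3 : t ^ 3 = 1 := by simpa [hq] using FiniteField.pow_card_sub_one_eq_one t t0
  have : A.1.1 ^ 4 = t • 1 := by
    rw [pow_succ', c, mul_add, mul_sub, mul_smul_comm, mul_smul_comm, ← pow_succ', c, hσ, ← sq]
    simp only [smul_add, smul_sub, smul_smul, ← pow_succ', ← sq, t3, one_smul, mul_one]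
    abel
  refine .inr ((QuotientGroup.eq_one_iff _).mpr (mem_center_iff.mpr fun B => ?_))
  refine Subtype.ext (Subtype.ext ?_)
  change B.1.1 * A.1.1 ^ 4 = A.1.1 ^ 4 * B.1.1
  simp [this]

/-- the elementary abelian group of order nine -/
abbrev V9 := Multiplicative (Fin 2 → ZMod 3)

theorem equiv9 {P : Type*} [Group P] (hc : Nat.card P = 3 ^ 2) (h3 : ∀ x : P, x ^ 3 = 1) :
    Nonempty (P ≃* V9) := by
  have := Fact.mk Nat.prime_three
  have : Finite P := Nat.finite_of_card_ne_zero (by omega)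
  let : CommGroup P := { ‹Group P› with
    mul_comm := (IsPGroup.isMulCommutative_of_card_eq_prime_sq hc).is_comm.comm }
  let : Module (ZMod 3) (Additive P) := AddCommGroup.zmodModule h3
  have e := Module.natCard_eq_pow_finrank (K := ZMod 3) (V := Additive P)
  rw [Nat.card_zmod, show Nat.card (Additive P) = 3 ^ 2 from hc] at e
  exact ⟨AddEquiv.toMultiplicativeRight (LinearEquiv.ofFinrankEq (R := ZMod 3) (Additive P)
    (Fin 2 → ZMod 3) (by rw [← Nat.pow_right_injective (by omega) e]; simp)).toAddEquiv⟩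

/-- the quaternion group inside `GL₂(3)` -/
def Pr9 (α : MulAut V9) : Prop := α = 1 ∨ (∀ x, α x = x⁻¹) ∨ ∀ x, α (α x) = x⁻¹

theorem Pr9.inj {α β : MulAut V9} (a : Pr9 α) (b : Pr9 β) {v : V9} (v1 : v ≠ 1) (e : α v = β v) :
    α = β := by
  have k1 : ∀ v : V9, v ≠ 1 → v ≠ v⁻¹ := by decide
  have k2 : ∀ v w x : V9, v = 1 ∨ w = 1 ∨ w = v ∨ w = v⁻¹ ∨
      ∃ i j : Fin 3, x = v ^ i.1 * w ^ j.1 := by decide +kernel
  have k3 : ∀ γ : MulAut V9, (∀ x, γ (γ x) = x⁻¹) → γ v ≠ v ∧ γ v ≠ v⁻¹ := fun γ h =>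
    ⟨fun e => k1 v v1 (by rw [← h, e, e]), fun e => k1 v v1 (by rw [← h, e, map_inv, e, inv_inv])⟩
  rcases a with rfl | a | a <;> rcases b with rfl | b | b
  · rfl
  · exact absurd (e.trans (b v)) (k1 v v1)
  · exact absurd e.symm (k3 β b).1
  · exact absurd (e.symm.trans (a v)) (k1 v v1)
  · exact MulEquiv.ext fun x => (a x).trans (b x).symm
  · exact absurd (e.symm.trans (a v)) (k3 β b).2
  · exact absurd e (k3 α a).1
  · exact absurd (e.trans (b v)) (k3 α a).2
  · refine MulEquiv.ext fun x => ?_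
    obtain ⟨i, j, rfl⟩ := ((((k2 v (α v) x).resolve_left v1).resolve_left (by simpa)).resolve_left
      (k3 α a).1).resolve_left (k3 α a).2
    simp only [map_mul, map_pow, a]
    rw [e, b]

theorem st72 {G : Type*} [Group G] (hc : Nat.card G = 72) (h : ∀ g : G, g ^ 3 = 1 ∨ g ^ 4 = 1) :
    ∃ T : Subgroup (MulAut V9), (∀ α, α ∈ T ↔ Pr9 α) ∧ Nonempty (G ≃* V9 ⋊[T.subtype] T) := by
  have := Fact.mk Nat.prime_three
  have : Finite G := Nat.finite_of_card_ne_zero (by omega)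
  have key : ∀ s x : G, s ^ 4 = 1 → x ^ 3 = 1 → Commute s x → s = 1 ∨ x = 1 := fun s x a b c =>
    (h (s * x)).imp (fun e => by rwa [c.mul_pow, b, mul_one, ← mul_left_inj s, ← pow_succ, a,
      one_mul, eq_comm] at e) fun e => by rwa [c.mul_pow, a, one_mul, pow_succ, b, one_mul] at e
  have c3 : ∀ P : Sylow 3 G, Nat.card P = 3 ^ 2 := fun P => by
    rw [P.card_eq_multiplicity, hc, show 72 = 3 ^ 2 * 8 from rfl,
      Nat.factorization_mul (by omega) (by omega), Nat.prime_three.factorization_pow]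
    simp [Nat.factorization_eq_zero_of_not_dvd]
  have p3 : ∀ P : Sylow 3 G, ∀ x ∈ P, x ^ 3 = 1 := fun P x hx => (h x).elim id fun e => by
    have e' : x ^ 9 = 1 := congrArg Subtype.val (c3 P ▸ pow_card_eq_one' (x := (⟨x, hx⟩ : P)))
    rw [show 9 = 4 * 2 + 1 from rfl, pow_succ, pow_mul, e, one_pow, one_mul] at e'
    rw [e', one_pow]
  have ce : ∀ P : Sylow 3 G, ∀ x ∈ P, x ≠ 1 → centralizer {x} = P := fun P x hx x1 => by
    refine P.is_maximal' (fun y => ⟨1, Subtype.ext ((h y).elim (by simp) fun e => ?_)⟩) fun y hy => ?_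
    · simp [(key y x e (p3 P x hx) (mem_centralizer_singleton_iff.mp y.2)).resolve_right x1]
    · exact mem_centralizer_singleton_iff.mpr (congrArg Subtype.val
        ((IsPGroup.isMulCommutative_of_card_eq_prime_sq (c3 P)).is_comm.comm ⟨y, hy⟩ ⟨x, hx⟩))
  obtain ⟨P⟩ : Nonempty (Sylow 3 G) := inferInstance
  have iP : (P : Subgroup G).index = 8 := by
    have := (P : Subgroup G).card_mul_index
    rw [hc, c3 P] at this
    omega
  have un : ∀ Q : Sylow 3 G, Q = P := fun Q => by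
    obtain ⟨y, z, n, e⟩ : ∃ y z : P, y ≠ z ∧ y.1 • Q = z.1 • Q := by
      by_contra! n
      have h1 := Nat.card_le_card_of_injective (fun y : P => y.1 • Q) fun y z e =>
        by_contra fun f => n y z f e
      have h2 := Nat.le_of_dvd (by omega) (iP ▸ P.card_dvd_index)
      exact absurd ((c3 P).ge.trans (h1.trans h2)) (by omega)
    have m := mul_mem (inv_mem z.2) y.2
    have x1 : z.1⁻¹ * y.1 ≠ 1 := fun f => n (Subtype.ext (inv_mul_eq_one.mp f).symm)
    have m' : z.1⁻¹ * y.1 ∈ Q := ((P.2.inf_normalizer_sylow Q).le ⟨m,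
      Sylow.smul_eq_iff_mem_normalizer.mp (by rw [mul_smul, e, inv_smul_smul])⟩).2
    exact Sylow.ext ((ce Q _ m' x1).symm.trans (ce P _ m x1))
  have : Subsingleton (Sylow 3 G) := ⟨fun a b => (un a).trans (un b).symm⟩
  have := P.normal_of_subsingleton
  obtain ⟨S, hS⟩ := exists_right_complement'_of_coprime (N := (P : Subgroup G))
    (by rw [iP, c3 P]; decide)
  have cS : Nat.card S = 8 := hS.symm.index_eq_card.symm.trans iP
  obtain ⟨f⟩ := equiv9 (P := (P : Subgroup G)) (c3 P) fun x => Subtype.ext (p3 P x x.2)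
  let φ : S →* MulAut V9 := (MulAut.congr f).toMonoidHom.comp (MulAut.conjNormal.comp S.subtype)
  have s4 : ∀ s : S, s ^ 4 = 1 := fun s => Subtype.ext ((h s).elim (fun e => by
    have e' : s.1 ^ 8 = 1 := congrArg Subtype.val (cS ▸ pow_card_eq_one' (x := s))
    have e1 : s.1 = 1 := (pow_one _).symm.trans (pow_gcd_eq_one.mpr ⟨e, e'⟩)
    simp [e1]) id)
  have fr : ∀ s x, φ s x = x → s = 1 ∨ x = 1 := fun s x e => by
    obtain ⟨x, rfl⟩ := f.surjective x
    have e' : s.1 * x * s.1⁻¹ = x := by simpa [φ, Subtype.ext_iff] using e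
    refine (key s x (congrArg Subtype.val (s4 s)) (p3 P x x.2) (mul_inv_eq_iff_eq_mul.mp e')).imp
      Subtype.ext fun e => by rw [show x = 1 from Subtype.ext e, map_one]
  have iv : ∀ s, s ≠ 1 → s * s = 1 → ∀ x, φ s x = x⁻¹ := fun s s1 ss x =>
    eq_inv_of_mul_eq_one_left ((fr s _ (by
      rw [map_mul, ← MulAut.mul_apply, ← map_mul φ, ss, map_one, MulAut.one_apply, mul_comm])
        ).resolve_left s1)
  have pr : ∀ s, Pr9 (φ s) := fun s => by
    by_cases s1 : s = 1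
    · exact .inl (by rw [s1, map_one])
    by_cases ss : s * s = 1
    · exact .inr (.inl (iv s s1 ss))
    · exact .inr (.inr fun x => by
        rw [← MulAut.mul_apply, ← map_mul, iv _ ss (by rw [← s4 s]; simp [pow_succ, mul_assoc])])
  obtain ⟨v, v1⟩ := exists_ne (1 : V9)
  let ψ : S → {x : V9 // x ≠ 1} := fun s => ⟨φ s v, by simpa⟩
  have inj : Function.Injective ψ := fun s t e => by
    have e' : φ s v = φ t v := congrArg Subtype.val e
    exact (inv_mul_eq_one.mp ((fr (t⁻¹ * s) v (by simp [e'])).resolve_right v1)).symm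
  have sur := (inj.bijective_of_nat_card_le (by rw [cS]; simp)).2
  have inj' : Function.Injective φ := fun s t e => inj (Subtype.ext (by simp [ψ, e]))
  refine ⟨φ.range, fun α => ⟨fun ⟨s, e⟩ => e ▸ pr s, fun a => ?_⟩,
    ⟨(SemidirectProduct.mulEquivSubgroup hS).symm.trans
      (SemidirectProduct.congr f (MonoidHom.ofInjective inj') fun s => ?_)⟩⟩
  · obtain ⟨s, e⟩ := sur ⟨α v, by simpa⟩
    exact ⟨s, (pr s).inj a v1 (congrArg Subtype.val e)⟩
  · refine MulEquiv.ext fun x => ?_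
    change f _ = φ s (f x)
    simp only [φ]
    simp
    rfl

theorem uniq72 {G : Type*} {K : Type*} [Group G] [Group K] (a : Nat.card G = 72)
    (b : Nat.card K = 72) (ha : ∀ g : G, g ^ 3 = 1 ∨ g ^ 4 = 1)
    (hb : ∀ g : K, g ^ 3 = 1 ∨ g ^ 4 = 1) : Nonempty (G ≃* K) := by
  obtain ⟨T, h, ⟨e⟩⟩ := st72 a ha
  obtain ⟨T', h', ⟨e'⟩⟩ := st72 b hb
  obtain rfl : T = T' := Subgroup.ext fun α => (h α).trans (h' α).symm
  exact ⟨e.trans e'.symm⟩

/-- S3424 for `q = 2` -/
theorem rec_two {G : Type*} [Group G] {E : Type} [Field E] [Fintype E] (hq : Fintype.card E = 2 ^ 2)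
    (e : Set.range (orderOf : G → ℕ) = Set.range (orderOf : Cfsg.PSU 3 E 2 → ℕ))
    (c : Nat.card G = Nat.card (Cfsg.PSU 3 E 2)) : Nonempty (G ≃* Cfsg.PSU 3 E 2) := by
  have c' : Nat.card (Cfsg.PSU 3 E 2) = 72 := by
    have := card_psu hq
    norm_num at this ⊢
    omega
  refine uniq72 (c.trans c') c' (fun g => ?_) (psu_two hq)
  obtain ⟨k, hk⟩ := e.le ⟨g, rfl⟩
  simpa only [← orderOf_dvd_iff_pow_eq_one, hk] using psu_two hq k

end CfsgV3
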