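import Cfsg.Agent.H7.V3Par
import Cfsg.Agent.H6.U3M2
import Cfsg.Agent.H7.PSL33
import Cfsg.Agent.H7.PSL2Spec
import Cfsg.Agent.H2.Eig

/-! S3424 (S): the part of the spectrum of `PSU₃(q)` used for the recognition. -/

set_option autoImplicit false

namespace CfsgV3

open CfsgU3 CfsgH2 Polynomial Matrix Subgroup

theorem uk_cubic {E : Type} [Field E] {σ : E →+* E} (A : UK σ) :
    A.1.1 ^ 3 = A.1.1.trace • A.1.1 ^ 2 - σ A.1.1.trace • A.1.1 + 1 := by
  have k : ∀ u v, formK σ u (A.1.1 *ᵥ v) = formK σ (A.1.1.adjugate *ᵥ u) v := fun u v => by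
    rw [← mem_UK.mp A.2 (A.1.1.adjugate *ᵥ u), mulVec_mulVec, mul_adjugate, A.1.2, one_smul,
      one_mulVec]
  have e0 := k ![1, 0, 0] ![0, 0, 1]
  have e1 := k ![0, 1, 0] ![0, 1, 0]
  have e2 := k ![0, 0, 1] ![1, 0, 0]
  simp [formK, mulVec, dotProduct, Fin.sum_univ_three, adjugate_fin_three] at e0 e1 e2
  rw [CfsgH7.sl3_cubic A.1.1 A.1.2, trace_fin_three, map_add, map_add, e0, e2]
  congr 3
  linear_combination e1

theorem vieta3 {K : Type*} [Field K] {t s a b c : K} (ha : a ^ 3 = t * a ^ 2 - s * a + 1)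
    (hb : b ^ 3 = t * b ^ 2 - s * b + 1) (hc : c ^ 3 = t * c ^ 2 - s * c + 1) (ab : a ≠ b)
    (ac : a ≠ c) (bc : b ≠ c) : t = a + b + c ∧ s = a * b + a * c + b * c ∧ a * b * c = 1 := by
  have h1 : a ^ 2 + a * b + b ^ 2 - t * (a + b) + s = 0 :=
    mul_left_cancel₀ (sub_ne_zero.mpr ab) (by linear_combination ha - hb)
  have h2 : a ^ 2 + a * c + c ^ 2 - t * (a + c) + s = 0 :=
    mul_left_cancel₀ (sub_ne_zero.mpr ac) (by linear_combination ha - hc)
  obtain rfl : t = a + b + c := mul_left_cancel₀ (sub_ne_zero.mpr bc) (by linear_combination h2 - h1)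
  exact ⟨rfl, by linear_combination h1, by linear_combination ha - a * h1⟩

theorem cub_dich {K R : Type*} [Field K] [IsAlgClosed K] [Ring R] [Algebra K R] (F : K →+* K)
    {q d m : ℕ} (hF : ∀ x, F x = x ^ q) {t s : K} (ht : F t = s) (hs : F s = t) {B : R}
    (hB : B ^ 3 = t • B ^ 2 - s • B + 1) (hm : d * m + q = q ^ 2 + 1) (hd : d ∣ q + 1)
    (h1 : 1 ≤ q) : (B ^ (q ^ 2 - 1) - 1) ^ 3 = 0 ∨ ∃ e : K, B ^ m = algebraMap K R e := by
  let f : K[X] := X ^ 3 - C t * X ^ 2 + C s * X - 1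
  have fB : aeval B f = 0 := by
    simp only [f, map_sub, map_add, map_mul, map_pow, aeval_X, aeval_C, map_one, ← Algebra.smul_def]
    rw [hB]; abel
  have r0 : ∀ l : K, l ^ 3 = t * l ^ 2 - s * l + 1 → l ≠ 0 := fun l h e => by simp [e] at h
  have rt : ∀ l : K, l ^ 3 = t * l ^ 2 - s * l + 1 →
      (F l)⁻¹ ^ 3 = t * (F l)⁻¹ ^ 2 - s * (F l)⁻¹ + 1 := fun l h => by
    have := (map_ne_zero F).mpr (r0 l h)
    have e := congrArg F h
    simp only [map_sub, map_add, map_mul, map_pow, map_one, ht, hs] at e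
    field_simp
    linear_combination -e
  by_cases h : ∀ l : K, l ^ 3 = t * l ^ 2 - s * l + 1 → F (F l) = l
  · have mo : f.Monic := by unfold f; monicity!
    have dg : f.natDegree = 3 := by unfold f; compute_degree!
    have : f ∣ (X ^ (q ^ 2 - 1) - 1) ^ 3 := by
      rw [(IsAlgClosed.splits f).eq_prod_roots_of_monic mo, ← dg,
        (IsAlgClosed.splits f).natDegree_eq_card_roots, ← Multiset.prod_replicate,
        ← Multiset.map_const']
      refine Multiset.prod_dvd_prod_of_dvd _ _ fun l hl => dvd_iff_isRoot.mpr ?_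
      have e : l ^ 3 = t * l ^ 2 - s * l + 1 := by
        have := isRoot_of_mem_roots hl
        simp [f] at this
        linear_combination this
      have e' := h l e
      rw [hF, hF, ← pow_mul, ← sq, ← Nat.sub_add_cancel (Nat.one_le_pow 2 q h1), pow_succ,
        mul_eq_right₀ (r0 l e)] at e'
      simp [e']
    obtain ⟨g, hg⟩ := this
    exact .inl (by simpa [fB] using congrArg (aeval B) hg)
  · push Not at h
    obtain ⟨a, ha, n⟩ := h
    have hb := rt a ha
    have hc := rt _ hb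
    rw [map_inv₀, inv_inv] at hc
    have ab : a ≠ (F a)⁻¹ := fun e => n (by rw [← inv_inv (F (F a)), ← map_inv₀, ← e, ← e])
    have bc : (F a)⁻¹ ≠ F (F a) := fun e =>
      ab (F.injective (by rw [map_inv₀, ← e, inv_inv]))
    obtain ⟨e1, e2, e3⟩ := vieta3 ha hb hc ab n.symm bc
    have a0 := r0 a ha
    have e4 : (a ^ m) ^ d = 1 := by
      rw [← pow_mul, mul_comm, ← mul_left_inj' (pow_ne_zero q a0), ← pow_add, hm, one_mul, pow_succ,
        sq, pow_mul, ← hF, ← hF]
      have := (map_ne_zero F).mpr a0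
      field_simp at e3
      linear_combination e3
    have e5 : (F (a ^ m))⁻¹ = a ^ m := by
      obtain ⟨k, hk⟩ := hd
      exact inv_eq_of_mul_eq_one_right (by rw [hF, ← pow_succ, hk, pow_mul, e4, one_pow])
    have e6 : (F a)⁻¹ ^ m = a ^ m := by rw [inv_pow, ← map_pow, e5]
    have e7 : F (F a) ^ m = a ^ m := by
      rw [← map_pow, ← map_pow, ← inv_inv (F (F _)), ← map_inv₀, e5, e5]
    generalize (F a)⁻¹ = b at *
    generalize F (F a) = c at *
    have cp : ∀ {x y : K}, x ≠ y → IsCoprime (X - C x) (X - C y) := fun h =>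
      isCoprime_X_sub_C_of_isUnit_sub (sub_ne_zero.mpr h).isUnit
    have : (X - C a) * (X - C b) * (X - C c) ∣ X ^ m - C (a ^ m) :=
      ((cp n.symm).mul_left (cp bc)).mul_dvd ((cp ab).mul_dvd (dvd_iff_isRoot.mpr (by simp))
        (dvd_iff_isRoot.mpr (by simp [e6]))) (dvd_iff_isRoot.mpr (by simp [e7]))
    have ef : (X - C a) * (X - C b) * (X - C c) = f := by
      have := congrArg C e3
      simp only [f, e1, e2, map_add, map_mul, map_one] at this ⊢
      linear_combination -this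
    obtain ⟨g, hg⟩ := ef ▸ this
    exact .inr ⟨a ^ m, by simpa [fB, sub_eq_zero] using congrArg (aeval B) hg⟩

variable {q r d m : ℕ} {E : Type} [Field E] [Fintype E] {σ : E →+* E}

theorem Par.charP (hP : Par q r d m) (hq : Fintype.card E = q ^ 2) : CharP E r := by
  obtain ⟨p, hp⟩ := CharP.exists E
  obtain ⟨n, pp, e⟩ := FiniteField.card E p
  obtain ⟨k, rfl⟩ := hP.pw
  have : p ∣ r := pp.dvd_of_dvd_pow (pp.dvd_of_dvd_pow (hq ▸ e ▸ dvd_pow_self p n.ne_zero))
  exact (Nat.prime_dvd_prime_iff_eq pp hP.pr).mp this ▸ hp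

theorem Par.frob (hP : Par q r d m) (hq : Fintype.card E = q ^ 2) :
    ∃ F : AlgebraicClosure E →+* AlgebraicClosure E, ∀ x, F x = x ^ q := by
  have := hP.charP hq
  have := Fact.mk hP.pr
  obtain ⟨k, rfl⟩ := hP.pw
  exact ⟨iterateFrobenius _ r k, iterateFrobenius_def r k⟩

omit [Fintype E] in
theorem uk_cubic' (A : UK σ) {K : Type} [Field K] (φ : E →+* K) : (A.1.1.map φ) ^ 3 =
    φ A.1.1.trace • (A.1.1.map φ) ^ 2 - φ (σ A.1.1.trace) • A.1.1.map φ + 1 := by
  have sm : ∀ (c : E) (M : Matrix (Fin 3) (Fin 3) E),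
      φ.mapMatrix (c • M) = φ c • φ.mapMatrix M := fun c M => by ext; simp
  have := congrArg φ.mapMatrix (uk_cubic A)
  simp only [map_pow, map_add, map_sub, map_one, sm] at this
  exact this

theorem uk_cc (hP : Par q r d m) (hq : Fintype.card E = q ^ 2) (hσ : ∀ u, σ u = u ^ q) (A : UK σ) :
    A ^ ((q ^ 2 - 1) * q) = 1 ∨ A ^ m ∈ center (UK σ) := by
  obtain ⟨F, hF⟩ := hP.frob hq
  let φ := algebraMap E (AlgebraicClosure E)
  have e : ∀ x, F (φ x) = φ (σ x) := fun x => by rw [hF, hσ, map_pow]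
  have inj : Function.Injective (φ.mapMatrix (m := Fin 3)) := map_injective φ.injective
  have h3 := hP.q3
  refine (cub_dich F hF (e _) ((e _).trans (by rw [sig_sig hq hσ])) (uk_cubic' A φ) hP.hm hP.d_dvd
    (by omega)).imp (fun h => ?_) fun ⟨c, h⟩ => mem_center_iff.mpr fun B => ?_
  · have := hP.charP hq
    have := Fact.mk hP.pr
    obtain ⟨k, hk⟩ := hP.pw
    have := pow_eq_zero_of_le h3 h
    nth_rw 2 [hk] at this
    rw [sub_pow_char_pow_of_commute r k (Commute.one_right _), one_pow, sub_eq_zero, ← hk,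
      ← pow_mul] at this
    exact Subtype.ext (Subtype.ext (inj ((map_pow φ.mapMatrix _ _).trans
      (this.trans (map_one _).symm))))
  · refine Subtype.ext (Subtype.ext (inj ?_))
    have : φ.mapMatrix (A.1.1 ^ m) = algebraMap _ _ c := by rw [map_pow]; exact h
    change φ.mapMatrix (B.1.1 * A.1.1 ^ m) = φ.mapMatrix (A.1.1 ^ m * B.1.1)
    rw [map_mul, map_mul, this, Algebra.commutes]

theorem uk_exm (hP : Par q r d m) (hq : Fintype.card E = q ^ 2) (hσ : ∀ u, σ u = u ^ q) :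
    ∃ A : UK σ, d * m ∣ orderOf A := by
  obtain ⟨F, hF⟩ := hP.frob hq
  let φ := algebraMap E (AlgebraicClosure E)
  have e : ∀ x, F (φ x) = φ (σ x) := fun x => by rw [hF, hσ, map_pow]
  have hs := sig_sig hq hσ
  have := hP.charP hq
  have : NeZero ((d * m : ℕ) : E) := ⟨fun h => by
    have h1 := (CharP.cast_eq_zero_iff E r _).mp h
    have h2 := hP.hm ▸ dvd_add h1 hP.r_dvd
    exact hP.pr.not_dvd_one ((Nat.dvd_add_right (hP.r_dvd.trans (dvd_pow_self q two_ne_zero))).mp h2)⟩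
  obtain ⟨a, ha⟩ := HasEnoughRootsOfUnity.exists_primitiveRoot (AlgebraicClosure E) (d * m)
  have a0 := ha.ne_zero (NeZero.of_neZero_natCast E).ne
  have a1 := (map_ne_zero F).mpr a0
  have e1 : F (F a) = F a / a := by
    rw [eq_div_iff a0, hF, hF, ← pow_mul, ← sq, ← pow_succ, ← hP.hm, pow_add, ha.pow_eq_one, one_mul]
  obtain ⟨t, ht⟩ := CfsgH7.mem_range_of_pow_card_eq (F := E) (a + (F a)⁻¹ + F (F a)) (by
    rw [hq, sq, pow_mul, ← hF, ← hF]
    simp only [map_add, map_inv₀, map_div₀, e1]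
    field_simp
    ring)
  obtain ⟨x, hx⟩ := exists_norm hq hσ (b := t + 1 + σ (t + 1)) (by rw [map_add, hs, add_comm])
  let A := kU hs hx.symm * kT σ
  have tr : A.1.1.trace = t := by
    change (Matrix.trace ((kU hs hx.symm).1.1 * (kT σ).1.1)) = t
    simp [kU, kT, trace_fin_three]
  refine ⟨A, ?_⟩
  obtain ⟨l, hl⟩ := exists_isEig (A.1.1.map φ)
  have c := uk_cubic' A φ
  rw [tr, ← e, ht] at c
  have l1 : l ^ orderOf A = 1 := hl.pow_eq_one (by
    have : A.1.1 ^ orderOf A = 1 := congrArg (fun B : UK σ => B.1.1) (pow_orderOf_eq_one A)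
    exact (map_pow φ.mapMatrix _ _).symm.trans (by rw [this, map_one]))
  have l2 : (l - a) * (l - (F a)⁻¹) * (l - F (F a)) = 0 := by
    obtain ⟨v, v0, hv⟩ := hl
    have p : ∀ n, (A.1.1.map φ) ^ n *ᵥ v = l ^ n • v := fun n => by
      simpa using aeval_mulVec_of_eig hv (X ^ n)
    have := congrArg (· *ᵥ v) c
    simp only [add_mulVec, sub_mulVec, smul_mulVec, p, hv, one_mulVec, smul_smul] at this
    rw [← sub_smul, ← sub_eq_zero, ← sub_sub, ← sub_smul, sub_eq_zero] at this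
    have := smul_left_injective _ v0 (this.trans (one_smul _ v).symm)
    simp only [map_add, map_inv₀, map_div₀, e1] at this ⊢
    field_simp at this ⊢
    linear_combination this
  refine ha.dvd_of_pow_eq_one _ ?_
  simp only [mul_eq_zero, sub_eq_zero] at l2
  rcases l2 with (rfl | rfl) | rfl
  · exact l1
  · exact F.injective (by rwa [inv_pow, inv_eq_one, ← map_pow, ← map_one F] at l1)
  · exact F.injective (F.injective (by rwa [map_pow, map_pow, map_one, map_one]))

theorem sp_uk (hP : Par q r d m) (hq : Fintype.card E = q ^ 2) (hσ : ∀ u, σ u = u ^ q) :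
    Sp (UK σ ⧸ center (UK σ)) q r d m := by
  have hs := sig_sig hq hσ
  have cz : Nat.card (center (UK σ)) = d := (card_center_UK hq hσ).trans hP.hd.symm
  let π := QuotientGroup.mk' (center (UK σ))
  have h3 := hP.q3
  refine ⟨hP, Nat.eq_of_mul_eq_mul_left hP.d_pos ?_, ?_, fun g => ?_, ?_⟩
  · rw [hP.d_ord, ← card_UK hq hσ, ← cz, mul_comm, ← card_eq_card_quotient_mul_card_subgroup]
  · obtain ⟨A, hA⟩ := uk_exm hP hq hσ
    refine ⟨_, orderOf_pow_orderOf_div (orderOf_pos (π A)).ne' ?_⟩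
    refine Nat.dvd_of_mul_dvd_mul_left hP.d_pos (hA.trans (orderOf_dvd_of_pow_eq_one ?_))
    have : A ^ orderOf (π A) ∈ center (UK σ) :=
      (QuotientGroup.eq_one_iff _).mp ((map_pow π _ _).trans (pow_orderOf_eq_one _))
    rw [mul_comm, pow_mul, ← cz]
    exact congrArg Subtype.val (pow_card_eq_one' (x := (⟨_, this⟩ : center (UK σ))))
  · obtain ⟨A, rfl⟩ := QuotientGroup.mk'_surjective _ g
    refine (uk_cc hP hq hσ A).imp (fun h => ?_) fun h =>
      (map_pow π _ _).symm.trans ((QuotientGroup.eq_one_iff _).mpr h)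
    refine (hP.cop.symm.coprime_dvd_left ?_).coprime_dvd_left
      ((orderOf_map_dvd π A).trans (orderOf_dvd_of_pow_eq_one h))
    rw [show q ^ 2 - 1 = (q + 1) * (q - 1) from Nat.sq_sub_sq q 1]
    exact ⟨q ^ 2 * (q + 1), by ring⟩
  · obtain ⟨μ, hμ⟩ := IsCyclic.exists_generator (α := Eˣ)
    obtain ⟨s, ht⟩ := exists_tr1 hq hσ
    refine ⟨π (kD hs μ), ?_⟩
    have e1 : Nat.card (π.comp (kD hs)).ker = d := by
      rw [← MonoidHom.comap_ker, QuotientGroup.ker_mk', ← card_map_of_injective (kD_inj hs),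
        map_comap_eq_self, cz]
      intro A hA
      obtain ⟨c, -, -, e⟩ := normal_borel hs ht (center_borel hq hσ) hA
      exact ⟨c, e.symm⟩
    have e2 : (π.comp (kD hs)).range = zpowers (π (kD hs μ)) := by
      rw [MonoidHom.range_eq_map, ← (eq_top_iff' _).mpr hμ, MonoidHom.map_zpowers]; rfl
    rw [← Nat.card_zpowers, ← e1, ← e2, ← index_ker, card_mul_index, Nat.card_units,
      Nat.card_eq_fintype_card, hq]

theorem sp_psu (hP : Par q r d m) {E : Type} [Field E] [Fintype E] (hq : Fintype.card E = q ^ 2) :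
    Sp (Cfsg.PSU 3 E q) q r d m := by
  obtain ⟨σ, hσ⟩ := exists_sig hq
  obtain ⟨e⟩ := psu_of_uk hq hσ
  refine (sp_uk hP hq hσ).transfer ?_ (Nat.card_congr e.toEquiv).symm
  ext n
  exact ⟨fun ⟨g, h⟩ => ⟨e.symm g, (e.symm.orderOf_eq g).trans h⟩,
    fun ⟨g, h⟩ => ⟨e g, (e.orderOf_eq g).trans h⟩⟩

end CfsgV3
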