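import Cfsg.Agent.FT.Base7

set_option autoImplicit false
set_option linter.unusedSectionVars false

/-! A linear group over `F₂` that is 2-transitive on the non-zero vectors (dimension ≥ 4) has a
non-solvable point stabilizer. -/

namespace CfsgSE

open Subgroup CfsgH5 CfsgH6 CfsgFT MulAction
open scoped commutatorElement

universe u

variable {L W : Type u} [Group L] [Finite L] [CommGroup W] [Finite W] [MulDistribMulAction L W]

/-- `t` is a transvection with centre `a` (or trivial). -/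
def Tv (a : W) (t : L) : Prop := ∀ w : W, t • w = w ∨ t • w = a * w

theorem vl_ne_one {g : L} {v : W} (h : v ≠ 1) : g • v ≠ 1 := fun e =>
  h (by rw [← inv_smul_smul g v, e, smul_one])

theorem Tv.conj {a : W} {t : L} (h : Tv a t) (g : L) : Tv (g • a) (g * t * g⁻¹) := fun w => by
  rw [mul_smul, mul_smul]
  rcases h (g⁻¹ • w) with e | e
  · exact .inl (by rw [e, smul_inv_smul])
  · exact .inr (by rw [e, smul_mul', smul_inv_smul])

theorem Tv.mul {a : W} {t s : L} (sq : ∀ v : W, v * v = 1) (ha : a ≠ 1) (h : Tv a t) (h' : Tv a s) :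
    Tv a (t * s) := fun w => by
  have fa : t • a = a := (h a).resolve_right fun e => vl_ne_one ha (e.trans (sq a))
  rw [mul_smul]
  rcases h' w with e | e <;> rcases h w with e' | e'
  · exact .inl (by rw [e, e'])
  · exact .inr (by rw [e, e'])
  · exact .inr (by rw [e, smul_mul', fa, e'])
  · exact .inl (by rw [e, smul_mul', fa, e', ← mul_assoc, sq, one_mul])

section
variable (sq : ∀ v : W, v * v = 1)
include sq

theorem Tv.fix {a : W} {t : L} (ha : a ≠ 1) (h : Tv a t) : t • a = a :=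
  (h a).resolve_right fun e => vl_ne_one ha (e.trans (sq a))

theorem Tv.inv_smul {a : W} {t : L} (ha : a ≠ 1) (h : Tv a t) (w : W) : t⁻¹ • w = t • w := by
  rw [inv_smul_eq_iff]
  rcases h w with e | e
  · rw [e, e]
  · rw [e, smul_mul', h.fix sq ha, e, ← mul_assoc, sq, one_mul]

theorem Tv.comm {a b : W} {s t : L} (ha : a ≠ 1) (hb : b ≠ 1) (hs : Tv a s) (ht : Tv b t)
    (h1 : s • b = a * b) (h2 : t • a = a) (w : W) :
    (t • w = w → ⁅s, t⁆ • w = w) ∧ (t • w = b * w → ⁅s, t⁆ • w = a * w) := by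
  have fa := hs.fix sq ha
  have fb := ht.fix sq hb
  have c : ∀ x y : W, x * (x * y) = y := fun x y => by rw [← mul_assoc, sq, one_mul]
  rw [commutatorElement_def, mul_smul, mul_smul, mul_smul, ht.inv_smul sq hb, hs.inv_smul sq ha]
  constructor <;> intro e <;> rcases hs w with e' | e' <;>
    simp only [e, e', smul_mul', fa, fb, h1, h2, c, mul_left_comm b a, mul_assoc]

end

theorem vl_card_even (sq : ∀ v : W, v * v = 1) : ∃ n, Nat.card W = 2 ^ n := by
  have : IsPGroup 2 W := fun g => ⟨1, by rw [pow_one, _root_.sq, sq]⟩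
  have := Fact.mk Nat.prime_two
  exact IsPGroup.iff_card.1 ‹_›

/-- a solvable group transitive on the vectors outside `⟨v⟩` contains a transvection. -/
theorem exists_tv (faith : ∀ g : L, (∀ v : W, g • v = v) → g = 1) (sq : ∀ v : W, v * v = 1)
    (h16 : 16 ≤ Nat.card W) {v : W} (hv : v ≠ 1)
    (tr : ∀ x y : W, x ≠ 1 → x ≠ v → y ≠ 1 → y ≠ v → ∃ g : L, g • v = v ∧ g • x = y)
    (solv : Group.IsSolvable (stabilizer L v)) : ∃ t : L, t ≠ 1 ∧ Tv v t := by
  classical
  have := Fintype.ofFinite W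
  obtain ⟨x, x1, x2⟩ : ∃ x : W, x ≠ 1 ∧ x ≠ v := by
    obtain ⟨x, -, hx⟩ := Finset.exists_mem_notMem_of_card_lt_card (s := {1, v}) (t := Finset.univ)
      (lt_of_le_of_lt Finset.card_le_two (by rw [Finset.card_univ, ← Nat.card_eq_fintype_card]; omega))
    simp only [Finset.mem_insert, Finset.mem_singleton, not_or] at hx
    exact ⟨x, hx⟩
  have n1 : ∀ x : W, x ≠ v → v * x ≠ 1 := fun x h e => h (by
    rw [← one_mul x, ← sq v, mul_assoc, e, mul_one])
  have n2 : ∀ x : W, x ≠ 1 → v * x ≠ v := fun x h e => h (mul_left_cancel (e.trans (mul_one v).symm))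
  have hb : stabilizer L v ≠ ⊥ := fun e => by
    obtain ⟨g, a, b⟩ := tr x (v * x) x1 x2 (n1 x x2) (n2 x x1)
    have : g ∈ stabilizer L v := a
    rw [e, mem_bot] at this
    rw [this, one_smul] at b
    exact hv (mul_right_cancel (b.symm.trans (one_mul x).symm))
  obtain ⟨A, hA, r, hr, m, e⟩ := exists_minNrm_elAb hb (Nrm.self _) solv
  have nA : Nrm (stabilizer L v) A := m.2.1
  obtain ⟨t, ht, t1⟩ := (bot_or_exists_ne_one A).resolve_left m.1
  -- a property of vectors holding for one vector outside `⟨v⟩` holds for all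
  by_cases r2 : r = 2
  · subst r2
    have := Fact.mk Nat.prime_two
    let _ : MulAction A (W ⧸ zpowers v) :=
      { smul := fun a q => Quotient.map' (fun w => (a : L) • w) (fun w w' h => by
          rw [QuotientGroup.leftRel_apply] at h ⊢
          obtain ⟨i, hi⟩ := h
          refine ⟨i, ?_⟩
          simp only at hi ⊢
          rw [← smul_inv', ← smul_mul', ← hi, smul_zpow', show (a : L) • v = v from hA a.2]) q
        one_smul := fun q => Quotient.inductionOn' q fun w => congrArg _ (one_smul L w)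
        mul_smul := fun a b q => Quotient.inductionOn' q fun w => congrArg _ (mul_smul (a : L) b w) }
    have sm : ∀ (a : A) (w : W), a • (w : W ⧸ zpowers v) = (((a : L) • w : W) : W ⧸ zpowers v) :=
      fun _ _ => rfl
    have ov : orderOf v = 2 := orderOf_eq_prime (by rw [_root_.sq, sq]) hv
    obtain ⟨q, q1, q2⟩ := e.isPGroup.exists_fixed_point_of_prime_dvd_card_of_fixed_point
      (W ⧸ zpowers v) (a := ((1 : W) : W ⧸ zpowers v)) (by
        obtain ⟨n, hn⟩ := vl_card_even sq
        have a := card_eq_card_quotient_mul_card_subgroup (zpowers v)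
        rw [Nat.card_zpowers, ov, hn] at a
        obtain ⟨k, rfl⟩ : ∃ k, n = k + 2 := ⟨n - 2, by
          have : 2 ^ 4 ≤ 2 ^ n := hn ▸ h16
          have := (Nat.pow_le_pow_iff_right one_lt_two).1 this
          omega⟩
        exact ⟨2 ^ k, by rw [pow_add] at a; omega⟩) (fun a => by rw [sm, smul_one])
    obtain ⟨w, rfl⟩ := QuotientGroup.mk_surjective q
    have mz : ∀ y : W, y ∈ zpowers v → y = 1 ∨ y = v := fun y ⟨i, hi⟩ => by
      have : v ^ (2 : ℤ) = 1 := by rw [zpow_two, sq]
      obtain ⟨m, e | e⟩ := Int.even_or_odd' i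
      · exact .inl (by rw [← hi, e]; simp only; rw [zpow_mul, this, one_zpow])
      · exact .inr (by rw [← hi, e]; simp only; rw [zpow_add, zpow_mul, this, one_zpow, one_mul, zpow_one])
    have w1 : w ≠ 1 := fun e => q2 (by rw [e])
    have w2 : w ≠ v := fun e => q2 (by
      rw [e, QuotientGroup.eq, inv_one, one_mul]; exact mem_zpowers v)
    have hw : ∀ a ∈ A, a • w = w ∨ a • w = v * w := fun a ha => by
      have := q1 ⟨a, ha⟩
      rw [sm, eq_comm, QuotientGroup.eq] at this
      exact (mz _ this).imp (fun e => (inv_mul_eq_one.1 e).symm) fun e => by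
        rw [mul_comm]; exact inv_mul_eq_iff_eq_mul.1 e
    refine ⟨t, t1, fun y => ?_⟩
    by_cases y1 : y = 1
    · exact .inl (by rw [y1, smul_one])
    by_cases y2 : y = v
    · exact .inl (y2 ▸ hA ht)
    obtain ⟨g, a, rfl⟩ := tr w y w1 w2 y1 y2
    have := hw _ (nA g⁻¹ (inv_mem (show g ∈ stabilizer L v from a)) t ht)
    rw [inv_inv, mul_smul, mul_smul, inv_smul_eq_iff, inv_smul_eq_iff, smul_mul', a] at this
    exact this
  exfalso
  have := Fintype.ofFinite A
  let ν : W → W := fun w => ∏ a : A, (a : L) • w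
  have f1 : ∀ a ∈ A, ∀ w, a • ν w = ν w := fun a ha w => by
    rw [Finset.smul_prod']
    exact Fintype.prod_equiv (Equiv.mulLeft (⟨a, ha⟩ : A)) _ _ fun b => (mul_smul _ _ _).symm
  have f2 : ∀ w, ν w = 1 ∨ ν w = v := fun w => by
    by_contra! c
    refine t1 (faith t fun y => ?_)
    by_cases y1 : y = 1
    · rw [y1, smul_one]
    by_cases y2 : y = v
    · exact y2 ▸ hA ht
    obtain ⟨g, a, rfl⟩ := tr _ y c.1 c.2 y1 y2
    have := f1 _ (nA g⁻¹ (inv_mem (show g ∈ stabilizer L v from a)) t ht) w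
    rwa [inv_inv, mul_smul, mul_smul, inv_smul_eq_iff] at this
  obtain ⟨g, a, b⟩ := tr x (v * x) x1 x2 (n1 x x2) (n2 x x1)
  have g1 : g ∈ stabilizer L v := a
  have f3 : ν (g • x) = g • ν x := by
    rw [Finset.smul_prod']
    refine Fintype.prod_equiv ⟨fun c => ⟨g⁻¹ * c * g⁻¹⁻¹, nA _ (inv_mem g1) _ c.2⟩,
      fun c => ⟨g * c * g⁻¹, nA _ g1 _ c.2⟩, fun c => Subtype.ext (by simp [mul_assoc]),
      fun c => Subtype.ext (by simp [mul_assoc])⟩ _ _ fun c => ?_
    simp [mul_smul]
  have f4 : g • ν x = ν x := by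
    rcases f2 x with e | e <;> rw [e]
    exacts [smul_one g, a]
  have f5 : ν (v * x) = v * ν x := by
    simp only [ν, smul_mul', Finset.prod_mul_distrib]
    congr 1
    rw [Finset.prod_congr rfl fun (c : A) _ => (show (c : L) • v = v from hA c.2), Finset.prod_const,
      Finset.card_univ, ← Nat.card_eq_fintype_card]
    have := Fact.mk hr
    obtain ⟨i, hi⟩ := IsPGroup.iff_card.1 e.isPGroup
    obtain ⟨j, hj⟩ : Odd (Nat.card A) := hi ▸ (hr.odd_of_ne_two r2).pow
    rw [hj, pow_succ, pow_mul, _root_.sq, sq, one_pow, one_mul]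
  rw [b, f4, f5] at f3
  exact hv (mul_right_cancel (f3.trans (one_mul _).symm))

theorem lin2 (faith : ∀ g : L, (∀ v : W, g • v = v) → g = 1) (sq : ∀ v : W, v * v = 1)
    (h16 : 16 ≤ Nat.card W)
    (tr : ∀ x y x' y' : W, x ≠ 1 → y ≠ 1 → x' ≠ 1 → y' ≠ 1 → x ≠ y → x' ≠ y' →
      ∃ g : L, g • x = x' ∧ g • y = y')
    (solv : ∀ v : W, v ≠ 1 → Group.IsSolvable (stabilizer L v)) : False := by
  classical
  have := Fintype.ofFinite W
  have ex : ∀ a : W, a ≠ 1 → ∃ t : L, t ≠ 1 ∧ Tv a t := fun a ha => exists_tv faith sq h16 ha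
    (fun x y x1 x2 y1 y2 => tr a x a y ha x1 ha y1 x2.symm y2.symm) (solv a ha)
  have mv : ∀ t : L, t ≠ 1 → ∃ w : W, t • w ≠ w := fun t h => by
    by_contra! c
    exact h (faith t c)
  have sep : ∀ a w : W, a ≠ 1 → w ≠ 1 → w ≠ a → ∃ t : L, Tv a t ∧ t • w = a * w :=
    fun a w ha w1 w2 => by
      obtain ⟨t, t1, ht⟩ := ex a ha
      obtain ⟨x, hx⟩ := mv t t1
      obtain ⟨g, g1, rfl⟩ := tr a x a w ha (fun e => hx (by rw [e, smul_one])) ha w1
        (fun e => hx (e ▸ ht.fix sq ha)) w2.symm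
      refine ⟨g * t * g⁻¹, g1 ▸ ht.conj g, ?_⟩
      rw [mul_smul, mul_smul, inv_smul_smul, (ht x).resolve_left hx, smul_mul', g1]
  have nf : ∀ a w : W, a ≠ 1 → a * w ≠ w := fun a w h e =>
    h (mul_right_cancel (e.trans (one_mul w).symm))
  have key : ∀ {a b : W} {s t : L}, a ≠ 1 → b ≠ 1 → Tv a s → Tv b t → s • b = a * b → t • a = a →
      Tv a ⁅s, t⁆ ∧ ∀ w : W, ⁅s, t⁆ • w = w ↔ t • w = w := fun {a b s t} ha hb hs ht h1 h2 => by
    have c := Tv.comm sq ha hb hs ht h1 h2
    refine ⟨fun w => (ht w).imp (c w).1 (c w).2, fun w => ⟨fun e => ?_, (c w).1⟩⟩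
    exact (ht w).resolve_right fun e' => nf a w ha (((c w).2 e').symm.trans e)
  obtain ⟨v, hv⟩ : ∃ v : W, v ≠ 1 := by
    have : Nontrivial W := Finite.one_lt_card_iff_nontrivial.1 (by omega)
    exact exists_ne 1
  let T : Set L := {t | t • v = v ∧ ∃ a : W, a ≠ 1 ∧ Tv a t}
  have hT : closure T ≤ stabilizer L v := (closure_le _).2 fun t ht => ht.1
  have perf : closure T ≤ D (closure T) := by
    refine (closure_le _).2 ?_
    rintro t ⟨tv, a, ha, ht⟩
    by_cases t1 : t = 1
    · exact t1 ▸ one_mem _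
    obtain ⟨w0, hw0⟩ := mv t t1
    obtain ⟨b, b0, hb⟩ : ∃ b ∈ Finset.univ.filter (fun w : W => t • w = w),
        b ∉ ({1, a, v, a * v} : Finset W) := by
      refine Finset.exists_mem_notMem_of_card_lt_card (lt_of_le_of_lt Finset.card_le_four ?_)
      have c1 := Finset.card_filter_add_card_filter_not (s := Finset.univ) (fun w : W => t • w = w)
      have c2 : (Finset.univ.filter (fun w : W => ¬ t • w = w)).card ≤
          (Finset.univ.filter (fun w : W => t • w = w)).card :=
        Finset.card_le_card_of_injOn (fun w => w0 * w) (fun w hw => by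
          simp only [Finset.coe_filter, Finset.mem_univ, true_and, Set.mem_ofPred_eq] at hw ⊢
          rw [smul_mul', (ht w0).resolve_left hw0, (ht w).resolve_left hw, mul_mul_mul_comm, sq,
            one_mul]) fun _ _ _ _ e => mul_left_cancel e
      rw [Finset.card_univ, ← Nat.card_eq_fintype_card] at c1
      omega
    simp only [Finset.mem_insert, Finset.mem_singleton, not_or] at hb
    obtain ⟨b1, b2, b3, b4⟩ := hb
    replace b0 : t • b = b := (Finset.mem_filter.1 b0).2
    obtain ⟨s0, s1, s2⟩ := sep b a b1 ha (Ne.symm b2)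
    obtain ⟨k1, k2⟩ := key b1 ha s1 ht s2 b0
    obtain ⟨s, s3, s4, s5⟩ : ∃ s : L, Tv a s ∧ s • v = v ∧ s • b = a * b := by
      obtain ⟨s, c1, c2⟩ := sep a b ha b1 b2
      rcases c1 v with c3 | c3
      · exact ⟨s, c1, c3, c2⟩
      have d1 : v * b ≠ 1 := fun e => b3 (by rw [← one_mul b, ← sq v, mul_assoc, e, mul_one])
      have d2 : v * b ≠ a := fun e => b4 (by rw [← e, mul_comm v b, mul_assoc, sq, mul_one])
      obtain ⟨s', e1, e2⟩ := sep a (v * b) ha d1 d2
      rw [smul_mul'] at e2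
      rcases e1 v with e3 | e3 <;> rcases e1 b with e4 | e4
      · rw [e3, e4] at e2; exact (nf a _ ha e2.symm).elim
      · exact ⟨s', e1, e3, e4⟩
      · refine ⟨s * s', c1.mul sq ha e1, ?_, by rw [mul_smul, e4, c2]⟩
        rw [mul_smul, e3, smul_mul', c1.fix sq ha, c3, ← mul_assoc, sq, one_mul]
      · rw [e3, e4, mul_mul_mul_comm, sq, one_mul] at e2; exact (nf a _ ha e2.symm).elim
    obtain ⟨l1, l2⟩ := key ha b1 s3 k1 s5 ((k2 a).2 (ht.fix sq ha))
    have e : t = ⁅s, ⁅s0, t⁆⁆ := by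
      refine inv_mul_eq_one.1 (faith _ fun w => ?_)
      rw [mul_smul, inv_smul_eq_iff]
      by_cases c : t • w = w
      · rw [c, (l2 w).2 ((k2 w).2 c)]
      · rw [(ht w).resolve_left c, (l1 w).resolve_left fun e => c ((k2 w).1 ((l2 w).1 e))]
    rw [SetLike.mem_coe, e]
    exact commutator_mem_commutator (subset_closure ⟨s4, a, ha, s3⟩)
      (subset_closure ⟨(k2 v).2 tv, b, b1, k1⟩)
  obtain ⟨t, t1, ht⟩ := ex v hv
  refine (D_lt_of_solvable (solvable_of_le (solv v hv) hT) fun e => t1 ?_).not_ge perf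
  have : t ∈ closure T := subset_closure ⟨ht.fix sq hv, v, hv, ht⟩
  rwa [e, mem_bot] at this

end CfsgSE
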