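import Cfsg.Agent.H7.W3Par
import Cfsg.Agent.H6.V3S
import Cfsg.Agent.H6.PSLSmall

/-! S3422 (S): the part of the spectrum of `PSL₃(q)` used for the recognition. -/

set_option autoImplicit false

namespace CfsgW3

open CfsgH2 Polynomial Matrix Subgroup
open scoped MatrixGroups

variable {q r d m e : ℕ}

theorem sl_roots {K : Type*} [Field K] [IsAlgClosed K] (t s : K) :
    ∃ a b c : K, t = a + b + c ∧ s = a * b + a * c + b * c ∧ a * b * c = 1 := by
  obtain ⟨a, ha⟩ := IsAlgClosed.exists_root (X ^ 3 - C t * X ^ 2 + C s * X - 1 : K[X])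
    (by rw [show degree _ = 3 by compute_degree!]; decide)
  obtain ⟨b, hb⟩ := IsAlgClosed.exists_root (X ^ 2 - C (t - a) * X + C a⁻¹ : K[X])
    (by rw [show degree _ = 2 by compute_degree!]; decide)
  simp at ha hb
  have a0 : a ≠ 0 := fun h => by simp [h] at ha
  field_simp at hb
  exact ⟨a, b, t - a - b, by ring, mul_left_cancel₀ a0 (by linear_combination ha + hb),
    by linear_combination -hb⟩

theorem sl_tri {K R : Type*} [Field K] [IsAlgClosed K] [Ring R] [Algebra K R] (F : K →+* K)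
    (hF : ∀ x, F x = x ^ q) {t s : K} (ht : F t = t) (hs : F s = s) {B : R}
    (hB : B ^ 3 = t • B ^ 2 - s • B + 1) (hP : Par q r d m e) :
    B ^ (q ^ 2 - 1) = 1 ∨ (∃ c : K, B ^ m = algebraMap K R c) ∨
      ∃ c : K, (B ^ e - algebraMap K R c) ^ 3 = 0 := by
  have h2 := hP.q2
  have key : ∀ {a b c : K} (g : K[X]), t = a + b + c → s = a * b + a * c + b * c → a * b * c = 1 →
      (X - C a) * (X - C b) * (X - C c) ∣ g → aeval B g = 0 := by
    rintro a b c _ e1 e2 e3 ⟨g, rfl⟩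
    have : (X - C a) * (X - C b) * (X - C c) = X ^ 3 - C t * X ^ 2 + C s * X - 1 := by
      have := congrArg C e3
      simp only [e1, e2, map_add, map_mul, map_one] at this ⊢
      linear_combination -this
    rw [this, map_mul]
    simp only [map_sub, map_add, map_mul, map_pow, aeval_X, aeval_C, map_one, ← Algebra.smul_def]
    rw [hB, show t • B ^ 2 - s • B + 1 - t • B ^ 2 + s • B - 1 = 0 by abel, zero_mul]
  have cp : ∀ {a b c : K} {g : K[X]}, a ≠ b → a ≠ c → b ≠ c → g.IsRoot a → g.IsRoot b →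
      g.IsRoot c → (X - C a) * (X - C b) * (X - C c) ∣ g := fun ab ac bc ha hb hc =>
    have cp : ∀ {x y : K}, x ≠ y → IsCoprime (X - C x) (X - C y) := fun h =>
      isCoprime_X_sub_C_of_isUnit_sub (sub_ne_zero.mpr h).isUnit
    ((cp ac).mul_left (cp bc)).mul_dvd ((cp ab).mul_dvd (dvd_iff_isRoot.mpr ha)
      (dvd_iff_isRoot.mpr hb)) (dvd_iff_isRoot.mpr hc)
  have rt : ∀ l : K, l ^ 3 = t * l ^ 2 - s * l + 1 → F l ^ 3 = t * F l ^ 2 - s * F l + 1 :=
    fun l h => by simpa [ht, hs] using congrArg F h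
  have r0 : ∀ l : K, l ^ 3 = t * l ^ 2 - s * l + 1 → l ≠ 0 := fun l h e => by simp [e] at h
  have dbl : ∀ a c : K, t = a + a + c → s = a * a + a * c + a * c → a * a * c = 1 →
      ∃ c : K, (B ^ e - algebraMap K R c) ^ 3 = 0 := fun a c e1 e2 e3 => by
    have ha : a ^ 3 = t * a ^ 2 - s * a + 1 := by rw [e1, e2]; linear_combination e3
    have a0 := r0 a ha
    have fa : F a = a := by
      have h1 : (F a - a) ^ 2 * (F a - c) = 0 := by
        have := rt a ha
        rw [e1, e2] at this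
        linear_combination this - e3
      rcases mul_eq_zero.mp h1 with h | h
      · exact sub_eq_zero.mp (pow_eq_zero_iff two_ne_zero |>.mp h)
      rw [sub_eq_zero] at h
      have f1 := congrArg F e1
      have f3 := congrArg F e3
      simp only [map_add, map_mul, map_one, ht, h] at f1 f3
      have c0 : c ≠ 0 := fun f => by simp [f] at e3
      have : (a - c) ^ 2 = 0 := mul_left_cancel₀ c0
        (by linear_combination e3 - f3 - c * c * f1 + c * c * e1)
      rw [h, sub_eq_zero.mp (pow_eq_zero_iff two_ne_zero |>.mp this)]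
    have h3 : (a ^ e) ^ 3 = 1 := by
      obtain ⟨k, hk⟩ : d ∣ 3 := hP.hd ▸ Nat.gcd_dvd_left 3 _
      rw [hF, ← hP.he, pow_succ, mul_eq_right₀ a0] at fa
      rw [hk, pow_mul, ← pow_mul a, mul_comm e, fa, one_pow]
    have h4 : c ^ e = a ^ e := mul_left_cancel₀ (pow_ne_zero e (mul_ne_zero a0 a0))
      (by rw [← mul_pow, e3, one_pow, mul_pow]; linear_combination -h3)
    have := key ((X ^ e - C (a ^ e)) ^ 3) e1 e2 e3 (by
      rw [pow_three']
      refine mul_dvd_mul (mul_dvd_mul ?_ ?_) ?_ <;> exact dvd_iff_isRoot.mpr (by simp [h4]))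
    exact ⟨a ^ e, by simpa only [map_pow, map_sub, aeval_X, aeval_C] using this⟩
  by_cases h : ∀ l : K, l ^ 3 = t * l ^ 2 - s * l + 1 → F (F l) = l
  · obtain ⟨a, b, c, e1, e2, e3⟩ := sl_roots t s
    by_cases ab : a = b
    · exact .inr (.inr (dbl a c (ab ▸ e1) (ab ▸ e2) (ab ▸ e3)))
    by_cases ac : a = c
    · subst ac
      exact .inr (.inr (dbl a b (by linear_combination e1) (by linear_combination e2)
        (by linear_combination e3)))
    by_cases bc : b = c
    · subst bc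
      exact .inr (.inr (dbl b a (by linear_combination e1) (by linear_combination e2)
        (by linear_combination e3)))
    have k : ∀ l : K, l ^ 3 = t * l ^ 2 - s * l + 1 → IsRoot (X ^ (q ^ 2 - 1) - 1) l := fun l hl => by
      have e' := h l hl
      rw [hF, hF, ← pow_mul, ← sq, ← Nat.sub_add_cancel (Nat.one_le_pow 2 q (by omega)), pow_succ,
        mul_eq_right₀ (r0 l hl)] at e'
      simp [e']
    have := key _ e1 e2 e3 (cp ab ac bc (k a ?_) (k b ?_) (k c ?_))
    · exact .inl (by simpa only [map_pow, map_sub, aeval_X, map_one, sub_eq_zero] using this)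
    all_goals rw [e1, e2]; linear_combination e3
  · push Not at h
    obtain ⟨a, ha, n⟩ := h
    have hb := rt a ha
    have ab : a ≠ F a := fun e => n (by rw [← e, ← e])
    have bc : F a ≠ F (F a) := fun e => ab (F.injective e)
    obtain ⟨e1, e2, e3⟩ := CfsgV3.vieta3 ha hb (rt _ hb) ab n.symm bc
    have e4 : (a ^ m) ^ d = 1 := by
      rw [← pow_mul, mul_comm, hP.hm, pow_add, pow_add, sq, pow_mul, ← hF, ← hF]
      linear_combination e3
    have e5 : F (a ^ m) = a ^ m := by rw [hF, ← hP.he, pow_succ, pow_mul, e4, one_pow, one_mul]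
    have e6 : F a ^ m = a ^ m := by rw [← map_pow, e5]
    have e7 : F (F a) ^ m = a ^ m := by rw [← map_pow, e6, e5]
    have := key (X ^ m - C (a ^ m)) e1 e2 e3
      (cp ab n.symm bc (by simp) (by simp [e6]) (by simp [e7]))
    exact .inr (.inl ⟨a ^ m, by
      simpa only [map_pow, map_sub, aeval_X, aeval_C, sub_eq_zero] using this⟩)

variable {F : Type*} [Field F] [Fintype F]

theorem Par.sl_charP (hP : Par q r d m e) (hF : Fintype.card F = q) : CharP F r := by
  obtain ⟨k, rfl⟩ := hP.pw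
  exact CfsgH6.charP_of_card hP.pr hF

theorem Par.sl_frob (hP : Par q r d m e) (hF : Fintype.card F = q) :
    ∃ Φ : AlgebraicClosure F →+* AlgebraicClosure F, ∀ x, Φ x = x ^ q := by
  have := hP.sl_charP hF
  have := Fact.mk hP.pr
  obtain ⟨k, rfl⟩ := hP.pw
  exact ⟨iterateFrobenius _ r k, iterateFrobenius_def r k⟩

theorem Par.sl_center (hP : Par q r d m e) (hF : Fintype.card F = q) :
    Nat.card (center SL(3, F)) = d := by
  rw [Nat.card_congr (SpecialLinearGroup.center_equiv_rootsOfUnity' (0 : Fin 3)).toEquiv,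
    Fintype.card_fin, hP.hd, Nat.gcd_comm, ← hF, ← Nat.card_eq_fintype_card, ← Nat.card_units,
    ← IsCyclic.card_powMonoidHom_ker]
  rfl

theorem Par.sl_cases (hP : Par q r d m e) (hF : Fintype.card F = q) (A : SL(3, F)) :
    A ^ (q ^ 2 - 1) = 1 ∨ A ^ m ∈ center SL(3, F) ∨ A ^ (r ^ 2 * e) ∈ center SL(3, F) := by
  obtain ⟨Φ, hΦ⟩ := hP.sl_frob hF
  let φ := algebraMap F (AlgebraicClosure F)
  have e1 : ∀ x, Φ (φ x) = φ x := fun x => by rw [hΦ, ← map_pow, ← hF, FiniteField.pow_card]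
  have inj : Function.Injective (φ.mapMatrix (m := Fin 3)) := map_injective φ.injective
  have sm : ∀ (c : F) (M : Matrix (Fin 3) (Fin 3) F),
      φ.mapMatrix (c • M) = φ c • φ.mapMatrix M := fun c M => by ext; simp
  have c := congrArg φ.mapMatrix (CfsgH7.sl3_cubic A.1 A.2)
  rw [map_add, map_sub, sm, sm, map_pow, map_pow, map_one] at c
  have z : ∀ n c, φ.mapMatrix A.1 ^ n = algebraMap (AlgebraicClosure F) _ c →
      A ^ n ∈ center SL(3, F) := fun n c h => mem_center_iff.mpr fun B => Subtype.ext (inj (by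
    change φ.mapMatrix (B.1 * A.1 ^ n) = φ.mapMatrix (A.1 ^ n * B.1)
    rw [map_mul, map_mul, map_pow, h, Algebra.commutes]))
  refine (sl_tri Φ hΦ (e1 _) (e1 _) c hP).imp (fun h => ?_)
    (Or.imp (fun ⟨c, h⟩ => z _ c h) fun ⟨c, h⟩ => z _ (c ^ r ^ 2) ?_)
  · exact Subtype.ext (inj ((map_pow φ.mapMatrix _ _).trans (h.trans (map_one _).symm)))
  · have := hP.sl_charP hF
    have := Fact.mk hP.pr
    have := pow_eq_zero_of_le (show 3 ≤ r ^ 2 by nlinarith [hP.pr.two_le]) h
    rwa [sub_pow_char_pow_of_commute r 2 (Algebra.commutes _ _).symm, sub_eq_zero, ← pow_mul,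
      mul_comm, ← map_pow (algebraMap _ _)] at this

theorem Par.sl_ord (hP : Par q r d m e) (hF : Fintype.card F = q) (A : SL(3, F)) {K : Type*}
    [Field K] (φ : F →+* K) {a : K} {n : ℕ} (ha : IsPrimitiveRoot a (d * n))
    (h : IsEig (A.1.map φ) a) : n ∣ orderOf (QuotientGroup.mk' (center SL(3, F)) A) := by
  let π := QuotientGroup.mk' (center SL(3, F))
  refine Nat.dvd_of_mul_dvd_mul_left hP.d_pos (ha.dvd_of_pow_eq_one _ (h.pow_eq_one ?_))
  have : A ^ orderOf (π A) ∈ center SL(3, F) :=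
    (QuotientGroup.eq_one_iff _).mp ((map_pow π _ _).trans (pow_orderOf_eq_one _))
  have : A ^ (d * orderOf (π A)) = 1 := by
    rw [mul_comm, pow_mul, ← hP.sl_center hF]
    exact congrArg Subtype.val (pow_card_eq_one' (x := (⟨_, this⟩ : center SL(3, F))))
  exact (map_pow φ.mapMatrix _ _).symm.trans
    ((congrArg (fun B : SL(3, F) => φ.mapMatrix B.1) this).trans (map_one _))

theorem Par.sl_prim (hP : Par q r d m e) (hF : Fintype.card F = q) {n : ℕ} (hn : ¬ r ∣ n) :
    ∃ a : AlgebraicClosure F, a ≠ 0 ∧ IsPrimitiveRoot a n := by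
  have := hP.sl_charP hF
  have : NeZero (n : F) := ⟨fun h => hn ((CharP.cast_eq_zero_iff F r _).mp h)⟩
  obtain ⟨a, ha⟩ := HasEnoughRootsOfUnity.exists_primitiveRoot (AlgebraicClosure F) n
  exact ⟨a, ha.ne_zero (NeZero.of_neZero_natCast F).ne, ha⟩

theorem sp_psl (hP : Par q r d m e) {F : Type*} [Field F] [Fintype F] (hF : Fintype.card F = q) :
    Sp (Matrix.ProjectiveSpecialLinearGroup (Fin 3) F) q r d m e := by
  let π := QuotientGroup.mk' (center SL(3, F))
  have h2 := hP.q2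
  obtain ⟨Φ, hΦ⟩ := hP.sl_frob hF
  let φ := algebraMap F (AlgebraicClosure F)
  have rg : ∀ x, Φ x = x → ∃ a, φ a = x := fun x h =>
    CfsgH7.mem_range_of_pow_card_eq x (by rw [hF, ← hΦ, h])
  have ex : ∀ n, (∃ A, n ∣ orderOf (π A)) → ∃ g : PSL(3, F), orderOf g = n := fun n ⟨A, h⟩ =>
    ⟨_, orderOf_pow_orderOf_div (orderOf_pos (π A)).ne' h⟩
  have sq' : q ^ 2 - 1 = (q + 1) * (q - 1) := Nat.sq_sub_sq q 1
  have z : ∀ {A n}, A ^ n ∈ center SL(3, F) → π A ^ n = 1 := fun h =>
    (map_pow π _ _).symm.trans ((QuotientGroup.eq_one_iff _).mpr h)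
  have nd : ¬ r ∣ d := fun h => hP.not_dvd_pred (hP.de ▸ h.mul_right e)
  have nm : ¬ r ∣ m := fun h => hP.not_dvd_r (h.mul_right _)
  refine ⟨hP, ?_, ex _ ?_, fun g => ?_, ex _ ?_, ex _ ?_, fun g hg => ?_⟩
  · have h1 := CfsgH3.card_SL_mul (F := F) (n := Fin 3)
    rw [card_GL_field, Nat.card_eq_fintype_card (α := F), hF, ← CfsgH6.card_psl_mul,
      hP.sl_center hF] at h1
    refine Nat.eq_of_mul_eq_mul_right hP.d_pos (Nat.eq_of_mul_eq_mul_right
      (show 0 < q - 1 by omega) (h1.trans ?_))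
    have l : ∀ i ≤ 3, q ^ i ≤ q ^ 3 := fun i => Nat.pow_le_pow_right (by omega)
    simp only [Fin.prod_univ_three, Fin.val_zero, Fin.val_one, Fin.val_two]
    zify [l 0 (by omega), l 1 (by omega), l 2 (by omega), show 1 ≤ q by omega]
    linear_combination -(q : ℤ) ^ 3 * (q - 1) ^ 3 * (q + 1) * hP.hz
  · obtain ⟨a, a0, ha⟩ := hP.sl_prim hF (n := d * m) (hP.pr.not_dvd_mul nd nm)
    have e1 : a * Φ a * Φ (Φ a) = 1 := by
      rw [← ha.pow_eq_one, hP.hm, pow_add, pow_add, sq, pow_mul, ← hΦ, ← hΦ]; ring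
    have e2 : Φ (Φ (Φ a)) = a := by
      have := congrArg Φ e1
      rw [map_mul, map_mul, map_one] at this
      exact mul_left_cancel₀ (mul_ne_zero ((map_ne_zero Φ).mpr a0)
        ((map_ne_zero Φ).mpr ((map_ne_zero Φ).mpr a0))) (by linear_combination this - e1)
    obtain ⟨t, ht⟩ := rg (a + Φ a + Φ (Φ a)) (by simp only [map_add, e2]; ring)
    obtain ⟨s, hs⟩ := rg (a * Φ a + a * Φ (Φ a) + Φ a * Φ (Φ a))
      (by simp only [map_add, map_mul, e2]; ring)
    refine ⟨⟨!![0, 1, 0; 0, 0, 1; 1, -s, t], by simp [det_fin_three]⟩,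
      hP.sl_ord hF _ φ ha ⟨![1, a, a ^ 2], by simp, ?_⟩⟩
    ext i
    fin_cases i <;> simp [mulVec, dotProduct, Fin.sum_univ_three, ht, hs]
    · ring
    · linear_combination -e1
  · obtain ⟨A, rfl⟩ := QuotientGroup.mk'_surjective _ g
    rcases hP.sl_cases hF A with h | h | h
    · refine .inl ((hP.cop.symm.coprime_dvd_left ?_).coprime_dvd_left
        ((orderOf_map_dvd π A).trans (orderOf_dvd_of_pow_eq_one h)))
      rw [sq']
      exact ⟨q ^ 3 * (q - 1), by ring⟩
    · exact .inr (z h)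
    · refine .inl ((hP.cop.symm.coprime_dvd_left ?_).coprime_dvd_left
        (orderOf_dvd_of_pow_eq_one (z h)))
      exact mul_dvd_mul ((pow_dvd_pow_of_dvd hP.r_dvd 2).trans (pow_dvd_pow q (by omega)))
        (((hP.de ▸ dvd_mul_left e d).trans (dvd_pow_self _ two_ne_zero)).mul_right _)
  · have o : d * ((q + 1) * e) = q ^ 2 - 1 := by rw [sq', ← hP.de]; ring
    obtain ⟨a, a0, ha⟩ := hP.sl_prim hF (n := d * ((q + 1) * e))
      (hP.pr.not_dvd_mul nd (hP.pr.not_dvd_mul hP.not_dvd_succ hP.not_dvd_e))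
    have e2 : Φ (Φ a) = a := by
      rw [hΦ, hΦ, ← pow_mul, ← sq, ← Nat.sub_add_cancel (Nat.one_le_pow 2 q (by omega)), pow_succ,
        ← o, ha.pow_eq_one, one_mul]
    obtain ⟨t, ht⟩ := rg (a + Φ a) (by rw [map_add, e2, add_comm])
    obtain ⟨s, hs⟩ := rg (a * Φ a) (by rw [map_mul, e2, mul_comm])
    have s0 : s ≠ 0 := fun h => mul_ne_zero a0 ((map_ne_zero Φ).mpr a0) (by rw [← hs, h, map_zero])
    refine ⟨⟨!![0, 1, 0; -s, t, 0; 0, 0, s⁻¹], by simp [det_fin_three, s0]⟩,
      hP.sl_ord hF _ φ ha ⟨![1, a, 0], by simp, ?_⟩⟩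
    ext i
    fin_cases i <;> simp [mulVec, dotProduct, Fin.sum_univ_three, ht, hs]
    ring
  · obtain ⟨a, a0, ha⟩ := hP.sl_prim hF (n := d * e) (hP.pr.not_dvd_mul nd hP.not_dvd_e)
    obtain ⟨l, hl⟩ := rg a (by rw [hΦ, ← hP.he, pow_succ, ha.pow_eq_one, one_mul])
    have l0 : l ≠ 0 := fun h => a0 (by rw [← hl, h, map_zero])
    let A : SL(3, F) := ⟨!![l, l, 0; 0, l, 0; 0, 0, (l * l)⁻¹], by
      simp [det_fin_three]; field_simp⟩
    refine ⟨A, ((hP.pr.coprime_iff_not_dvd).mpr hP.not_dvd_e).mul_dvd_of_dvd_of_dvd ?_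
      (hP.sl_ord hF _ φ ha ⟨![1, 0, 0], by simp, ?_⟩)⟩
    · have p : ∀ k : ℕ, (A.1 ^ k) 0 0 = l ^ k ∧ (A.1 ^ k) 0 1 = k * l ^ k := fun k => by
        induction k with
        | zero => simp
        | succ k ih =>
          simp only [pow_succ, mul_apply, Fin.sum_univ_three, ih.1, ih.2]
          simp [A]
          ring
      have : A ^ orderOf (π A) ∈ center SL(3, F) :=
        (QuotientGroup.eq_one_iff _).mp ((map_pow π _ _).trans (pow_orderOf_eq_one _))
      obtain ⟨c, -, hc⟩ := Matrix.SpecialLinearGroup.mem_center_iff.mp this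
      have u := (congrFun (congrFun hc 0) 1).trans (p _).2
      have := hP.sl_charP hF
      exact (CharP.cast_eq_zero_iff F r _).mp (by simpa [l0] using u)
    · ext i
      fin_cases i <;> simp [A, mulVec, dotProduct, Fin.sum_univ_three, hl]
  · obtain ⟨A, rfl⟩ := QuotientGroup.mk'_surjective _ g
    rcases hP.sl_cases hF A with h | h | h
    · exact absurd (sq' ▸ hg.trans ((orderOf_map_dvd π A).trans (orderOf_dvd_of_pow_eq_one h)))
        (hP.pr.not_dvd_mul hP.not_dvd_succ hP.not_dvd_pred)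
    · exact absurd (hg.trans (orderOf_dvd_of_pow_eq_one (z h))) nm
    · exact z h

end CfsgW3
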